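import Cfsg.Agent.Lib.J4ThreeLocal.Linear

/-!
# Coordinates for a space of order 16
-/

set_option autoImplicit false
set_option linter.style.haveILetI false

namespace Cfsg.Agent.J4ThreeLocal

universe u v

theorem bit_xor : ∀ v < 16, ∀ w < 16, ∀ m ∈ [1, 2, 4, 8],
    decide ((v ^^^ w) &&& m = m) = Bool.xor (decide (v &&& m = m)) (decide (w &&& m = m)) := by
  decide +kernel

theorem eq_zero_of_bits : ∀ v < 16, ¬ v &&& 1 = 1 → ¬ v &&& 2 = 2 → ¬ v &&& 4 = 4 → ¬ v &&& 8 = 8 →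
    v = 0 := by
  decide +kernel

theorem img_lt (c k : ℕ) : img c k < 16 := Nat.lt_succ_of_le Nat.and_le_right

theorem app_lt (c v : ℕ) : app c v < 16 := by
  have h : ∀ (p : Prop) [Decidable p] (k : ℕ), (if p then img c k else 0) < 2 ^ 4 := fun p _ k => by
    split
    · exact img_lt c k
    · norm_num
  exact Nat.xor_lt_two_pow (Nat.xor_lt_two_pow (Nat.xor_lt_two_pow (h _ 0) (h _ 1)) (h _ 2)) (h _ 3)

theorem mk4_eq {a b c d : ℕ} (ha : a < 16) (hb : b < 16) (hc : c < 16) :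
    mk4 a b c d = a + 16 * b + 256 * c + 4096 * d := by
  have e : ∀ (x y i : ℕ), x < 2 ^ i → x ||| (y <<< i) = x + 2 ^ i * y := fun x y i h => by
    rw [Nat.or_comm, ← Nat.shiftLeft_add_eq_or_of_lt h, Nat.shiftLeft_eq]; ring
  rw [mk4, e a b 4 ha, e _ c 8 (by norm_num; omega), e _ d 12 (by norm_num; omega)]
  norm_num

theorem mk4_lt {a b c d : ℕ} (ha : a < 16) (hb : b < 16) (hc : c < 16) (hd : d < 16) :
    mk4 a b c d < 65536 := by
  rw [mk4_eq ha hb hc]; omega

theorem img_eq (c k : ℕ) : img c k = c / 2 ^ (4 * k) % 16 := by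
  rw [img, Nat.shiftRight_eq_div_pow, show 15 = 2 ^ 4 - 1 from rfl, Nat.and_two_pow_sub_one_eq_mod]

theorem img_mk4 {a b c d : ℕ} (ha : a < 16) (hb : b < 16) (hc : c < 16) (hd : d < 16) :
    img (mk4 a b c d) 0 = a ∧ img (mk4 a b c d) 1 = b ∧ img (mk4 a b c d) 2 = c ∧
      img (mk4 a b c d) 3 = d := by
  rw [mk4_eq ha hb hc]
  simp only [img_eq]
  norm_num
  omega

theorem code_ext {c c' : ℕ} (hc : c < 65536) (hc' : c' < 65536) (h0 : img c 0 = img c' 0)
    (h1 : img c 1 = img c' 1) (h2 : img c 2 = img c' 2) (h3 : img c 3 = img c' 3) : c = c' := by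
  simp only [img_eq] at h0 h1 h2 h3
  norm_num at h0 h1 h2 h3
  omega

variable {V : Type v} [AddCommGroup V] (e0 e1 e2 e3 : V)

/-- The vector with coordinates the bits of `v`. -/
def phi (v : ℕ) : V :=
  (if v &&& 1 = 1 then e0 else 0) + (if v &&& 2 = 2 then e1 else 0) +
    (if v &&& 4 = 4 then e2 else 0) + (if v &&& 8 = 8 then e3 else 0)

variable {e0 e1 e2 e3}

theorem phi_xor (htwo : ∀ x : V, x + x = 0) {v w : ℕ} (hv : v < 16) (hw : w < 16) :
    phi e0 e1 e2 e3 (v ^^^ w) = phi e0 e1 e2 e3 v + phi e0 e1 e2 e3 w := by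
  have key : ∀ m ∈ [1, 2, 4, 8], ∀ e : V, (if (v ^^^ w) &&& m = m then e else 0) =
      (if v &&& m = m then e else 0) + (if w &&& m = m then e else 0) := by
    intro m hm e
    have h := bit_xor v hv w hw m hm
    by_cases h1 : v &&& m = m <;> by_cases h2 : w &&& m = m <;> simp [h1, h2] at h <;>
      simp [h, h1, h2, htwo]
  unfold phi
  rw [key 1 (by simp), key 2 (by simp), key 4 (by simp), key 8 (by simp)]
  abel

theorem phi_zero : phi e0 e1 e2 e3 0 = 0 := by simp [phi]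

/-- A map given on the basis agrees with its code everywhere. -/
theorem phi_app (htwo : ∀ x : V, x + x = 0) {c : ℕ} (f : V →+ V)
    (h0 : phi e0 e1 e2 e3 (img c 0) = f e0) (h1 : phi e0 e1 e2 e3 (img c 1) = f e1)
    (h2 : phi e0 e1 e2 e3 (img c 2) = f e2) (h3 : phi e0 e1 e2 e3 (img c 3) = f e3) (v : ℕ) :
    phi e0 e1 e2 e3 (app c v) = f (phi e0 e1 e2 e3 v) := by
  have hlt : ∀ (p : Prop) [Decidable p] (k : ℕ), (if p then img c k else 0) < 2 ^ 4 := fun p _ k => by
    split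
    · exact img_lt c k
    · norm_num
  have hif : ∀ (p : Prop) [Decidable p] (k : ℕ), phi e0 e1 e2 e3 (if p then img c k else 0) =
      if p then phi e0 e1 e2 e3 (img c k) else 0 := fun p _ k => by
    split
    · rfl
    · exact phi_zero
  rw [app, phi_xor htwo (Nat.xor_lt_two_pow (Nat.xor_lt_two_pow (hlt _ 0) (hlt _ 1)) (hlt _ 2)) (hlt _ 3),
    phi_xor htwo (Nat.xor_lt_two_pow (hlt _ 0) (hlt _ 1)) (hlt _ 2), phi_xor htwo (hlt _ 0) (hlt _ 1),
    hif, hif, hif, hif, h0, h1, h2, h3, phi]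
  simp only [map_add, apply_ite f, map_zero]

end Cfsg.Agent.J4ThreeLocal
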