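import Cfsg.Agent.Lib.J4ThreeLocal.Cover
import Cfsg.Agent.Lib.Coprime.Generation
import Cfsg.Agent.Lib.J4Local.M22Rank

/-!
# A group on a space of order 2¹² with a fixed-point-free element of order three centralized by 3.M22
-/

set_option autoImplicit false
set_option linter.style.haveILetI false
set_option linter.unusedSectionVars false

namespace Cfsg.Agent.J4ThreeLocal

open Subgroup
open scoped commutatorElement

universe u v w

/-- An additive subgroup invariant under a fixed-point-free map of order three has order congruent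
to one modulo three. -/
theorem card_mod_three {V : Type v} [AddCommGroup V] [Finite V] (S : AddSubgroup V) (f : V → V)
    (hf : ∀ x ∈ S, f x ∈ S) (h3 : ∀ x, f (f (f x)) = x) (h0 : f 0 = 0) (hfp : ∀ x, f x = x → x = 0) :
    Nat.card S % 3 = 1 := by
  classical
  haveI : Fintype S := Fintype.ofFinite S
  let σ : Equiv.Perm S :=
    { toFun := fun x => ⟨f x, hf x x.2⟩
      invFun := fun x => ⟨f (f x), hf _ (hf x x.2)⟩
      left_inv := fun x => Subtype.ext (h3 x)
      right_inv := fun x => Subtype.ext (h3 x) }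
  have hp : σ ^ 3 ^ 1 = 1 := Equiv.ext fun x => Subtype.ext (h3 x)
  haveI : Fact (Nat.Prime 3) := ⟨Nat.prime_three⟩
  have := Equiv.Perm.card_compl_support_modEq hp
  have hs : σ.supportᶜ = {0} := by
    ext x
    rw [Finset.mem_compl, Equiv.Perm.mem_support, not_not, Finset.mem_singleton]
    exact ⟨fun h => Subtype.ext (hfp x (congrArg Subtype.val h)),
      fun h => by rw [h]; exact Subtype.ext h0⟩
  rw [hs, Finset.card_singleton] at this
  rw [Nat.card_eq_fintype_card]
  exact this.symm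

/-- The hypotheses: `X` is fixed-point-free on `V` with centralizer 3.M22, and `y` is a second
element of order three there whose centralizer normalizes `⟨X⟩`. -/
structure CoreHyp (K : Type u) [Group K] (V : Type v) [AddCommGroup V] [DistribMulAction K V]
    (M : Type w) [Group M] where
  /-- the central element -/
  X : K
  orderX : orderOf X = 3
  /-- the map onto M22 -/
  q : centralizer ({X} : Set K) →* M
  hq : Function.Surjective q
  hker : ∀ c, q c = 1 ↔ (c : K) ∈ zpowers X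
  perf : ⁅(⊤ : Subgroup (centralizer ({X} : Set K))), (⊤ : Subgroup (centralizer ({X} : Set K)))⁆ = ⊤
  cardM : Nat.card M = 443520
  invert : ∃ a : K, a * X * a⁻¹ = X⁻¹
  cardV : Nat.card V = 4096
  two : ∀ v : V, v + v = 0
  faithful : ∀ k : K, (∀ v : V, k • v = v) → k = 1
  fpf : ∀ v : V, X • v = v → v = 0
  /-- the second element -/
  y : K
  hyX : Commute y X
  hy3 : y ^ 3 = 1
  hy : y ∉ zpowers X
  fixy : Nat.card {v : V // y • v = v} = 16
  centy : ∀ n : K, Commute n y → n * X * n⁻¹ ∈ zpowers X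

namespace CoreHyp

variable {K : Type u} [Group K] [Finite K] {V : Type v} [AddCommGroup V] [Finite V]
  [DistribMulAction K V] {M : Type w} [Group M] [Finite M] [IsSimpleGroup M]

/-- The fixed points of an element. -/
def fx (k : K) : AddSubgroup V where
  carrier := {v | k • v = v}
  zero_mem' := smul_zero k
  add_mem' {a b} (ha hb) := by show k • (a + b) = a + b; rw [smul_add, ha, hb]
  neg_mem' {a} (ha) := by show k • (-a) = -a; rw [smul_neg, ha]

theorem mem_fx {k : K} {v : V} : v ∈ fx k ↔ k • v = v := Iff.rfl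

theorem card_fx_conj (g k : K) : Nat.card (fx (V := V) (g * k * g⁻¹)) = Nat.card (fx (V := V) k) :=
  (Nat.card_congr
    { toFun := fun v => ⟨g • (v : V), by
        show (g * k * g⁻¹) • (g • (v : V)) = g • (v : V)
        rw [← mul_smul, inv_mul_cancel_right, mul_smul, mem_fx.1 v.2]⟩
      invFun := fun v => ⟨g⁻¹ • (v : V), by
        show k • (g⁻¹ • (v : V)) = g⁻¹ • (v : V)
        have e := congrArg (g⁻¹ • ·) (mem_fx.1 v.2)
        simp only [mul_smul, inv_smul_smul] at e
        exact e⟩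
      left_inv := fun v => Subtype.ext (inv_smul_smul g (v : V))
      right_inv := fun v => Subtype.ext (smul_inv_smul g (v : V)) }).symm

variable (D : CoreHyp K V M)

/-- The centralizer of `X`. -/
abbrev N0 : Subgroup K := centralizer ({D.X} : Set K)

theorem mem_N0 {k : K} : k ∈ D.N0 ↔ Commute k D.X := mem_centralizer_singleton_iff

theorem X3 : D.X ^ 3 = 1 := D.orderX ▸ pow_orderOf_eq_one D.X

theorem X_mem : D.X ∈ D.N0 := D.mem_N0.2 (Commute.refl _)

include D in
theorem neg_eq (v : V) : -v = v := neg_eq_of_add_eq_zero_left (D.two v)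

include D in
theorem eq_of_add {a b : V} (h : a + b = 0) : a = b := by
  rw [← D.neg_eq b]; exact eq_neg_of_add_eq_zero_left h

theorem X_smul3 (v : V) : D.X • (D.X • (D.X • v)) = v := by
  rw [← mul_smul, ← mul_smul, ← pow_two, ← pow_succ, D.X3, one_smul]

theorem X_rel (v : V) : D.X • (D.X • v) + D.X • v + v = 0 := by
  refine D.fpf _ ?_
  rw [smul_add, smul_add, D.X_smul3]
  abel

theorem X_rel' (v : V) : D.X • (D.X • v) = D.X • v + v := by
  refine D.eq_of_add ?_
  rw [← add_assoc]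
  exact D.X_rel v

theorem fx_X : Nat.card (fx (V := V) D.X) = 1 := by
  rw [AddSubgroup.card_eq_one, AddSubgroup.eq_bot_iff_forall]
  exact fun v hv => D.fpf v hv

theorem central_ker : CentralKer D.q := fun k hk g => by
  obtain ⟨i, hi⟩ := mem_zpowers_iff.1 ((D.hker k).1 hk)
  refine Subtype.ext ?_
  show (g : K) * k = k * g
  rw [← hi]
  exact ((D.mem_N0.1 g.2).zpow_right i).eq

theorem card_ker : Nat.card D.q.ker = 3 * 1 := by
  have e : D.q.ker = (zpowers D.X).subgroupOf D.N0 := Subgroup.ext fun c => D.hker c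
  rw [e, Nat.card_congr (subgroupOfEquivOfLe (zpowers_le.2 D.X_mem)).toEquiv, Nat.card_zpowers,
    D.orderX]

theorem ker_pow (c : D.N0) (hc : D.q c = 1) : c ^ 3 = 1 := by
  refine Subtype.ext ?_
  obtain ⟨i, hi⟩ := mem_zpowers_iff.1 ((D.hker c).1 hc)
  show (c : K) ^ 3 = 1
  rw [← hi, ← zpow_natCast, ← zpow_mul, mul_comm, zpow_mul, zpow_natCast, D.X3, one_zpow]

theorem conj_mem_iff {n : K} : n ∈ normalizer (zpowers D.X : Set K) ↔ n * D.X * n⁻¹ ∈ zpowers D.X := by
  refine ⟨fun h => (mem_normalizer_iff.1 h D.X).1 (mem_zpowers D.X), fun h => ?_⟩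
  rw [mem_normalizer_iff_map_conj_eq]
  refine eq_of_le_of_card_ge ?_ ?_
  · rw [MonoidHom.map_zpowers]
    exact zpowers_le.2 h
  · rw [card_map_of_injective (MulEquiv.injective _)]

/-- The normalizer of `⟨X⟩`. -/
abbrev N : Subgroup K := normalizer (zpowers D.X : Set K)

theorem N0_le : D.N0 ≤ D.N := fun k hk => by
  rw [D.conj_mem_iff, (D.mem_N0.1 hk).eq, mul_inv_cancel_right]
  exact mem_zpowers _

theorem N_cases {n : K} (hn : n ∈ D.N) :
    n * D.X * n⁻¹ = D.X ∨ n * D.X * n⁻¹ = D.X⁻¹ := by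
  classical
  have h := D.conj_mem_iff.1 hn
  rw [mem_zpowers_iff_mem_range_orderOf, D.orderX] at h
  obtain ⟨i, hi, e⟩ := Finset.mem_image.1 h
  have hi' := Finset.mem_range.1 hi
  interval_cases i
  · refine absurd D.orderX ?_
    rw [pow_zero, eq_comm, conj_eq_one_iff] at e
    rw [e, orderOf_one]; norm_num
  · exact Or.inl (by rw [← e, pow_one])
  · exact Or.inr (by rw [← e]; exact eq_inv_of_mul_eq_one_left (by rw [← pow_succ, D.X3]))

theorem y_mem : D.y ∈ D.N0 := D.mem_N0.2 D.hyX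

/-- A noncentral element of order three of `C(X)` is conjugate to `y` there. -/
theorem exists_conj_y {v : K} (hv : v ∈ D.N0) (hv3 : v ^ 3 = 1) (hvX : v ∉ zpowers D.X) :
    ∃ c ∈ D.N0, c * v * c⁻¹ = D.y := by
  obtain ⟨c, hc⟩ := exists_conj_three D.cardM D.hq D.central_ker D.perf
    (ζ₀ := ⟨D.X, D.X_mem⟩) ((D.hker _).2 (mem_zpowers _)) (by rw [Subgroup.orderOf_mk, D.orderX])
    D.card_ker (Nat.coprime_one_left 3) (r := ⟨D.y, D.y_mem⟩) (v := ⟨v, hv⟩)
    (Subtype.ext D.hy3) (fun e => D.hy ((D.hker _).1 e)) (Subtype.ext hv3)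
    (fun e => hvX ((D.hker _).1 e))
  exact ⟨c, c.2, congrArg Subtype.val hc⟩

theorem fx_three {v : K} (hv : v ∈ D.N0) (hv3 : v ^ 3 = 1) (hvX : v ∉ zpowers D.X) :
    Nat.card (fx (V := V) v) = 16 := by
  obtain ⟨c, -, e⟩ := D.exists_conj_y hv hv3 hvX
  rw [← card_fx_conj c v, e]
  exact D.fixy

theorem cent_three {v : K} (hv : v ∈ D.N0) (hv3 : v ^ 3 = 1) (hvX : v ∉ zpowers D.X) {n : K}
    (hn : Commute n v) : n ∈ D.N := by
  obtain ⟨c, hc, e⟩ := D.exists_conj_y hv hv3 hvX
  have h : c * n * c⁻¹ ∈ D.N := D.conj_mem_iff.2 (D.centy _ (by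
    rw [← e]; exact (hn.map (MulAut.conj c).toMonoidHom)))
  simpa [mul_assoc] using mul_mem (mul_mem (inv_mem (D.N0_le hc)) h) (D.N0_le hc)

/-- **Weak closure.** -/
theorem weak {g : K} (h : g * D.X * g⁻¹ ∈ D.N0) : g ∈ D.N := by
  rw [D.conj_mem_iff]
  by_contra hne
  have := D.fx_three h (by rw [conj_pow, D.X3, mul_one, mul_inv_cancel]) hne
  rw [card_fx_conj, D.fx_X] at this
  norm_num at this

theorem mem_N0_of_three {v : K} (hv : v ∈ D.N) (hv3 : v ^ 3 = 1) : v ∈ D.N0 := by
  rcases D.N_cases hv with e | e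
  · exact D.mem_N0.2 (mul_inv_eq_iff_eq_mul.1 e)
  · exfalso
    have e2 : v ^ 3 * D.X * (v ^ 3)⁻¹ = D.X⁻¹ := by
      have e' : v * D.X⁻¹ * v⁻¹ = D.X := by
        rw [show v * D.X⁻¹ * v⁻¹ = (v * D.X * v⁻¹)⁻¹ by group, e, inv_inv]
      calc v ^ 3 * D.X * (v ^ 3)⁻¹ = v * (v * (v * D.X * v⁻¹) * v⁻¹) * v⁻¹ := by simp [pow_succ, mul_assoc]
        _ = D.X⁻¹ := by rw [e, e', e]
    rw [hv3, one_mul, inv_one, mul_one] at e2
    have h2 : D.X ^ 2 = 1 := by rw [pow_two]; exact eq_inv_iff_mul_eq_one.1 e2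
    have h3 := orderOf_dvd_of_pow_eq_one h2
    rw [D.orderX] at h3
    norm_num at h3

/-- **Signalizer.** A subgroup of order prime to three normalized by a noncyclic subgroup of
order nine through `X` centralizes `X`. -/
theorem signalizer {r : K} (hr : r ∈ D.N0) (hr3 : r ^ 3 = 1) (hrX : r ∉ zpowers D.X) (U : Subgroup K)
    (hU : ¬ 3 ∣ Nat.card U) (hXU : D.X ∈ normalizer (U : Set K)) (hrU : r ∈ normalizer (U : Set K)) :
    U ≤ D.N0 := by
  classical
  haveI : Fact (Nat.Prime 3) := ⟨Nat.prime_three⟩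
  set A := closure ({D.X, r} : Set K) with hA
  haveI : IsMulCommutative A := Subgroup.isMulCommutative_closure fun a ha b hb => by
    rcases ha with ha | ha <;> rcases hb with hb | hb
    · rw [ha, hb]
    · rw [ha, Set.mem_singleton_iff.1 hb]; exact (D.mem_N0.1 hr).eq.symm
    · rw [hb, Set.mem_singleton_iff.1 ha]; exact (D.mem_N0.1 hr).eq
    · rw [Set.mem_singleton_iff.1 ha, Set.mem_singleton_iff.1 hb]
  have hA3 : ∀ a ∈ A, a ^ 3 = 1 := by
    intro a ha
    induction ha using closure_induction with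
    | mem x hx => rcases hx with hx | hx
                  · rw [hx, D.X3]
                  · rw [Set.mem_singleton_iff.1 hx, hr3]
    | one => exact one_pow _
    | mul x y hx hy ex ey =>
      have hxy : Commute x y := congrArg Subtype.val (mul_comm' (⟨x, hx⟩ : A) ⟨y, hy⟩)
      rw [hxy.mul_pow, ex, ey, one_mul]
    | inv x hx ex => rw [inv_pow, ex, inv_one]
  have hp : IsPGroup 3 A := fun a => ⟨1, Subtype.ext (by rw [pow_one]; exact hA3 a a.2)⟩
  have hAN0 : A ≤ D.N0 := by
    rw [hA, closure_le]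
    rintro x (hx | hx)
    · rw [hx]; exact D.X_mem
    · rw [Set.mem_singleton_iff.1 hx]; exact hr
  have hXA : D.X ∈ A := subset_closure (Or.inl rfl)
  have hnc : ¬ IsCyclic A := by
    intro hc
    obtain ⟨g, hg⟩ := hc.exists_generator
    have hgo : orderOf g ∣ 3 := orderOf_dvd_of_pow_eq_one (Subtype.ext (hA3 g g.2))
    have hle : Nat.card A ≤ 3 := by
      rw [← orderOf_eq_card_of_forall_mem_zpowers hg]
      exact Nat.le_of_dvd (by norm_num) hgo
    refine hrX ?_
    rw [eq_of_le_of_card_ge (zpowers_le.2 hXA) (by rw [Nat.card_zpowers, D.orderX]; exact hle)]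
    exact subset_closure (Or.inr rfl)
  have hAU : A ≤ normalizer (U : Set K) := by
    rw [hA, closure_le]
    rintro x (hx | hx)
    · rw [hx]; exact hXU
    · rw [Set.mem_singleton_iff.1 hx]; exact hrU
  obtain ⟨n, hn⟩ := hp.exists_card_eq
  have hUN : U ≤ D.N := by
    rw [← Coprime.fixedGen_eq hnc hAU (by
      rw [hn]; exact Nat.Coprime.pow_left n (Nat.prime_three.coprime_iff_not_dvd.2 hU))]
    refine iSup₂_le fun a ha => ?_
    rintro u ⟨-, hu⟩
    have hcu : Commute u a := mem_centralizer_singleton_iff.1 hu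
    by_cases haX : a ∈ zpowers D.X
    · have ho : orderOf a = 3 := orderOf_eq_prime (hA3 a ha.1) ha.2
      have hX : D.X ∈ zpowers a := by
        rw [eq_of_le_of_card_ge (zpowers_le.2 haX)
          (by rw [Nat.card_zpowers, Nat.card_zpowers, ho, D.orderX])]
        exact mem_zpowers _
      obtain ⟨i, hi⟩ := mem_zpowers_iff.1 hX
      exact D.N0_le (D.mem_N0.2 (hi ▸ hcu.zpow_right i))
    · exact D.cent_three (hAN0 ha.1) (hA3 a ha.1) haX hcu
  intro u hu
  have h1 : u * D.X * u⁻¹ * D.X⁻¹ ∈ zpowers D.X :=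
    mul_mem (D.conj_mem_iff.1 (hUN hu)) (inv_mem (mem_zpowers _))
  have h2 : u * D.X * u⁻¹ * D.X⁻¹ ∈ U := by
    rw [show u * D.X * u⁻¹ * D.X⁻¹ = u * (D.X * u⁻¹ * D.X⁻¹) by group]
    exact mul_mem hu ((mem_normalizer_iff.1 hXU u⁻¹).1 (inv_mem hu))
  have hd : Nat.card (zpowers D.X ⊓ U : Subgroup K) = 1 := by
    have a1 : Nat.card (zpowers D.X ⊓ U : Subgroup K) ∣ 3 := by
      rw [← D.orderX, ← Nat.card_zpowers]; exact card_dvd_of_le inf_le_left
    rcases (Nat.dvd_prime Nat.prime_three).1 a1 with e | e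
    · exact e
    · exact absurd (e ▸ card_dvd_of_le inf_le_right) hU
  rw [card_eq_one] at hd
  have h3 : u * D.X * u⁻¹ * D.X⁻¹ = 1 := mem_bot.1 (hd ▸ ⟨h1, h2⟩)
  exact D.mem_N0.2 (commutatorElement_eq_one_iff_commute.1 h3)

end CoreHyp

end Cfsg.Agent.J4ThreeLocal
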