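import Cfsg.Agent.Lib.J4ThreeLocal.CoreLocal
import Cfsg.Agent.Lib.M22Order.Elem

/-!
# `⟨X⟩` is normal

A coset of `N` other than `N` would hold at least 1155 conjugates of an involution `t` of `C(X)`,
each giving an element of `N ∩ sNs` for a fixed one `s`, a group of order at most 770.
-/

set_option autoImplicit false
set_option linter.style.haveILetI false
set_option linter.unusedSectionVars false

namespace Cfsg.Agent.J4ThreeLocal

open Subgroup
open scoped commutatorElement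

universe u v w

namespace CoreHyp

variable {K : Type u} [Group K] [Finite K] {V : Type v} [AddCommGroup V] [Finite V]
  [DistribMulAction K V] {M : Type w} [Group M] [Finite M] [IsSimpleGroup M] (D : CoreHyp K V M)

theorem card_N0 : Nat.card D.N0 = 1330560 := by
  have h := card_cover D.cardM D.hq D.card_ker (Nat.coprime_one_left 3)
  rw [h]

/-- **`⟨X⟩` is normal.** -/
theorem normalizer_eq_top : D.N = ⊤ := by
  classical
  haveI : Fact (Nat.Prime 2) := ⟨Nat.prime_two⟩
  haveI : Fact (Nat.Prime 3) := ⟨Nat.prime_three⟩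
  by_contra hne
  obtain ⟨-, t, -, -, -, ht, htt, ht1, -, -, -, -⟩ := D.exists_frame
  set C := centralizer ({t} : Set K) with hC
  have hCN : C ≤ D.N := fun w hw => D.cent_le ht htt ht1 (mem_centralizer_singleton_iff.1 hw)
  set Ω : Set K := {x | ∃ k ∈ (⊤ : Subgroup K), k * t * k⁻¹ = x} with hΩ
  have hΩinv : ∀ x ∈ Ω, x * x = 1 ∧ x ≠ 1 := by
    rintro _ ⟨k, -, rfl⟩
    refine ⟨by rw [show k * t * k⁻¹ * (k * t * k⁻¹) = k * (t * t) * k⁻¹ by group, htt, mul_one, mul_inv_cancel], ?_⟩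
    exact fun e => ht1 (conj_eq_one_iff.1 e)
  set O0 : Set K := {x | ∃ k ∈ D.N0, k * t * k⁻¹ = x} with hO0
  set O1 : Set K := {x | ∃ k ∈ D.N, k * t * k⁻¹ = x} with hO1
  have htN : t ∈ D.N := D.N0_le ht
  have hcΩ := M22Order.ncard_conj_orbit (⊤ : Subgroup K) (mem_top t)
  rw [← hΩ, inf_top_eq, ← hC, Subgroup.card_top] at hcΩ
  have hc1 := M22Order.ncard_conj_orbit D.N htN
  rw [← hO1, ← hC, inf_eq_left.2 hCN] at hc1
  have hinΩ : ∀ x ∈ Ω, x ∈ D.N → x ∈ O1 := by
    rintro _ ⟨k, -, rfl⟩ hx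
    obtain ⟨c, hc, e⟩ := D.exists_involution_conj ht (D.conj_mem_N0 ht htt ht1 hx) htt
      (hΩinv _ ⟨k, mem_top k, rfl⟩).1 ht1 (hΩinv _ ⟨k, mem_top k, rfl⟩).2
    exact ⟨c, D.N0_le hc, e⟩
  -- at least 1155 conjugates in `N`
  have hge : 1155 ≤ O1.ncard := by
    have hc0 := M22Order.ncard_conj_orbit D.N0 ht
    rw [← hO0, ← hC, inf_comm, D.card_N0] at hc0
    have hd : Nat.card (D.N0 ⊓ C : Subgroup K) ≤ 1152 :=
      Nat.le_of_dvd (by norm_num) (D.card_centralizer_dvd ht htt ht1)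
    have hsub : O0.ncard ≤ O1.ncard :=
      Set.ncard_le_ncard (fun x ⟨k, hk, e⟩ => ⟨k, D.N0_le hk, e⟩) (Set.toFinite _)
    nlinarith
  -- a coset with as many
  haveI : Fintype (K ⧸ D.N) := Fintype.ofFinite _
  set f : K → K ⧸ D.N := fun x => (x : K ⧸ D.N) with hf
  set Ωf := Ω.toFinite.toFinset with hΩf
  have hsum : Ωf.card = ∑ q : K ⧸ D.N, (Ωf.filter fun x => f x = q).card :=
    Finset.card_eq_sum_card_fiberwise fun x _ => Finset.mem_univ _
  have hΩc : Ωf.card = Fintype.card (K ⧸ D.N) * O1.ncard := by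
    rw [hΩf, ← Set.ncard_eq_toFinset_card Ω Ω.toFinite, ← Nat.card_eq_fintype_card, ← Subgroup.index]
    refine Nat.eq_of_mul_eq_mul_right (Nat.card_pos (α := C)) ?_
    rw [hcΩ, mul_assoc, hc1, mul_comm, card_mul_index]
  obtain ⟨g, hg⟩ : ∃ g, g ∉ D.N := by
    by_contra hh
    push Not at hh
    exact hne (eq_top_iff.2 fun x _ => hh x)
  obtain ⟨q, hq, hqge⟩ : ∃ q : K ⧸ D.N, q ≠ f 1 ∧ O1.ncard ≤ (Ωf.filter fun x => f x = q).card := by
    by_contra hh
    push Not at hh
    have h1le : (Ωf.filter fun x => f x = f 1).card ≤ O1.ncard := by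
      rw [← Set.ncard_coe_finset]
      refine Set.ncard_le_ncard (fun x hx => ?_) (Set.toFinite _)
      rw [Finset.mem_coe, Finset.mem_filter, hΩf, Set.Finite.mem_toFinset, hf] at hx
      refine hinΩ x hx.1 ?_
      have h := QuotientGroup.eq.1 hx.2.symm
      simpa using h
    have hlt : ∑ q : K ⧸ D.N, (Ωf.filter fun x => f x = q).card < ∑ _q : K ⧸ D.N, O1.ncard := by
      refine Finset.sum_lt_sum (fun q _ => ?_) ⟨f g, Finset.mem_univ _, hh _ fun e => hg ?_⟩
      · by_cases e : q = f 1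
        · exact e ▸ h1le
        · exact (hh q e).le
      · have h := QuotientGroup.eq.1 e.symm
        simpa using h
    rw [Finset.sum_const, Finset.card_univ, smul_eq_mul, ← hsum, hΩc] at hlt
    exact lt_irrefl _ hlt
  obtain ⟨s, hs⟩ : (Ωf.filter fun x => f x = q).Nonempty := Finset.card_pos.1 (by omega)
  rw [Finset.mem_filter, hΩf, Set.Finite.mem_toFinset] at hs
  obtain ⟨hsΩ, hsq⟩ := hs
  obtain ⟨hss, hs1⟩ := hΩinv s hsΩ
  have hsN : s ∉ D.N := fun h => hq (by
    rw [← hsq, hf]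
    exact (QuotientGroup.eq.2 (by simpa using h)).symm)
  have hsi : s⁻¹ = s := inv_eq_of_mul_eq_one_right hss
  set W := D.N ⊓ D.N.map (MulAut.conj s).toMonoidHom with hW
  have hmW : ∀ w, w ∈ W ↔ w ∈ D.N ∧ s * w * s ∈ D.N := by
    intro w
    refine and_congr_right fun _ => ⟨?_, fun h => ⟨s * w * s, h, ?_⟩⟩
    · rintro ⟨n, hn, rfl⟩
      show s * (s * n * s⁻¹) * s ∈ D.N
      rwa [hsi, show s * (s * n * s) * s = (s * s) * n * (s * s) by group, hss, one_mul, mul_one]
    · show s * (s * w * s) * s⁻¹ = w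
      rw [hsi, show s * (s * w * s) * s = (s * s) * w * (s * s) by group, hss, one_mul, mul_one]
  -- conjugation by `s` does not take `X` into `N`
  have hXW : s * D.X * s ∉ D.N := fun h => hsN (by
    refine D.weak ?_
    rw [hsi]
    exact D.mem_N0_of_three h (by rw [show s * D.X * s = s * D.X * s⁻¹ by rw [hsi], conj_pow, D.X3, mul_one, mul_inv_cancel]))
  set W0 := W ⊓ D.N0 with hW0
  have hodd : ¬ 2 ∣ Nat.card W0 := by
    intro h2
    obtain ⟨i, hi⟩ := exists_prime_orderOf_dvd_card' (G := W0) 2 h2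
    have hii : (i : K) * i = 1 := by
      rw [← pow_two, ← hi, ← Subgroup.orderOf_coe, pow_orderOf_eq_one]
    have hi1 : (i : K) ≠ 1 := fun e => by
      rw [← Subgroup.orderOf_coe, e, orderOf_one] at hi; norm_num at hi
    obtain ⟨hiW, hiN0⟩ := mem_inf.1 i.2
    have hj : s * (i : K) * s⁻¹ ∈ D.N := by rw [hsi]; exact ((hmW _).1 hiW).2
    have hj0 := D.conj_mem_N0 hiN0 hii hi1 hj
    obtain ⟨c, hc, e⟩ := D.exists_involution_conj hiN0 hj0 hii
      (by rw [show s * (i : K) * s⁻¹ * (s * i * s⁻¹) = s * (i * i) * s⁻¹ by group, hii, mul_one, mul_inv_cancel])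
      hi1 (fun e => hi1 (conj_eq_one_iff.1 e))
    have hcom : Commute (c⁻¹ * s) (i : K) := by
      show c⁻¹ * s * i = i * (c⁻¹ * s)
      calc c⁻¹ * s * i = c⁻¹ * (s * i * s⁻¹) * s := by group
        _ = i * (c⁻¹ * s) := by rw [← e]; group
    refine hsN ?_
    simpa using mul_mem (D.N0_le hc) (D.cent_le hiN0 hii hi1 hcom)
  have h3 : ¬ 3 ∣ Nat.card W0 := by
    intro h3
    obtain ⟨v, hv⟩ := exists_prime_orderOf_dvd_card' (G := W0) 3 h3
    have hv3 : (v : K) ^ 3 = 1 := by rw [← hv, ← Subgroup.orderOf_coe, pow_orderOf_eq_one]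
    have hv1 : (v : K) ≠ 1 := fun e => by
      rw [← Subgroup.orderOf_coe, e, orderOf_one] at hv; norm_num at hv
    obtain ⟨hvW, hvN0⟩ := mem_inf.1 v.2
    obtain ⟨-, hv'⟩ := (hmW _).1 hvW
    have hgen : ∀ x : K, x ∈ zpowers D.X → x ≠ 1 → D.X ∈ zpowers x := by
      intro x hx hx1
      have hx3 : x ^ 3 = 1 := by
        obtain ⟨i, rfl⟩ := mem_zpowers_iff.1 hx
        rw [← zpow_natCast, ← zpow_mul, mul_comm, zpow_mul, zpow_natCast, D.X3, one_zpow]
      rw [eq_of_le_of_card_ge (zpowers_le.2 hx)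
        (by rw [Nat.card_zpowers, Nat.card_zpowers, D.orderX, orderOf_eq_prime hx3 hx1])]
      exact mem_zpowers _
    by_cases hvX : (v : K) ∈ zpowers D.X
    · obtain ⟨i, hi⟩ := mem_zpowers_iff.1 (hgen _ hvX hv1)
      refine hXW ?_
      rw [← hi]
      have := zpow_mem (show s * (v : K) * s⁻¹ ∈ D.N by rwa [hsi]) i
      rwa [conj_zpow, hsi] at this
    · set v' := s * (v : K) * s with hv'def
      have hv'3 : v' ^ 3 = 1 := by
        rw [hv'def, show s * (v : K) * s = s * v * s⁻¹ by rw [hsi], conj_pow, hv3, mul_one, mul_inv_cancel]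
      have hv'0 := D.mem_N0_of_three hv' hv'3
      have hv'1 : v' ≠ 1 := fun e => hv1 (by
        rw [hv'def, show s * (v : K) * s = s * v * s⁻¹ by rw [hsi], conj_eq_one_iff] at e
        exact e)
      by_cases hv'X : v' ∈ zpowers D.X
      · obtain ⟨i, hi⟩ := mem_zpowers_iff.1 (hgen _ hv'X hv'1)
        refine hXW ?_
        rw [← hi, show s * v' ^ i * s = (s * v' * s⁻¹) ^ i by rw [conj_zpow, hsi],
          show s * v' * s⁻¹ = (v : K) by rw [hv'def, hsi, show s * (s * (v : K) * s) * s = (s * s) * v * (s * s) by group, hss, one_mul, mul_one]]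
        exact zpow_mem (D.N0_le hvN0) i
      · have hvc : Commute (v : K) D.X := D.mem_N0.1 hvN0
        refine hXW (D.cent_three hv'0 hv'3 hv'X ?_)
        rw [hv'def, show s * D.X * s = s * D.X * s⁻¹ by rw [hsi], show s * (v : K) * s = s * v * s⁻¹ by rw [hsi]]
        exact hvc.symm.map (MulAut.conj s).toMonoidHom
  have h385 : Nat.card W0 ∣ 385 := by
    have hd : Nat.card W0 ∣ (2 ^ 7 * 3 ^ 3) * 385 := by
      have := card_dvd_of_le (show W0 ≤ D.N0 from inf_le_right)
      rw [D.card_N0] at this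
      exact this
    refine Nat.Coprime.dvd_of_dvd_mul_left ?_ hd
    exact Nat.Coprime.mul_right ((Nat.prime_two.coprime_iff_not_dvd.2 hodd).symm.pow_right 7)
      ((Nat.prime_three.coprime_iff_not_dvd.2 h3).symm.pow_right 3)
  have hW770 : Nat.card W ≤ 770 := by
    have h := Nat.le_of_dvd (by norm_num) h385
    by_cases hall : W ≤ D.N0
    · rw [hW0, inf_eq_left.2 hall] at h
      omega
    · obtain ⟨w0, hw0, hw00⟩ := SetLike.not_le_iff_exists.1 hall
      have hinv : ∀ w ∈ W, w ∉ D.N0 → w * D.X * w⁻¹ = D.X⁻¹ := fun w hw hw' =>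
        (D.N_cases (mem_inf.1 hw).1).resolve_left fun e => hw' (D.mem_N0.2 (mul_inv_eq_iff_eq_mul.1 e))
      have hmem : ∀ w : W, (w : K) ∉ D.N0 → w0⁻¹ * (w : K) ∈ W0 := fun w hw => by
        refine mem_inf.2 ⟨mul_mem (inv_mem hw0) w.2, D.mem_N0.2 (mul_inv_eq_iff_eq_mul.1 ?_)⟩
        rw [show w0⁻¹ * (w : K) * D.X * (w0⁻¹ * w)⁻¹ = w0⁻¹ * (w * D.X * (w : K)⁻¹) * w0 by group,
          hinv w w.2 hw, ← hinv w0 hw0 hw00]
        group
      let F : W → W0 × Bool := fun w => if hw : (w : K) ∈ D.N0 then (⟨w, mem_inf.2 ⟨w.2, hw⟩⟩, false)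
        else (⟨w0⁻¹ * w, hmem w hw⟩, true)
      have hF : Function.Injective F := by
        intro a b e
        by_cases ha : (a : K) ∈ D.N0 <;> by_cases hb : (b : K) ∈ D.N0 <;>
          simp only [F, ha, hb, dite_true, dite_false, Prod.mk.injEq, Subtype.mk.injEq, Bool.false_eq_true,
            Bool.true_eq_false, and_true, and_false] at e
        · exact Subtype.ext e
        · exact Subtype.ext (mul_left_cancel e)
      have := Nat.card_le_card_of_injective F hF
      rw [Nat.card_prod, show Nat.card Bool = 2 by simp] at this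
      omega
  have hmem : ∀ x ∈ Ωf.filter (fun x => f x = q), s * x ∈ W := by
    intro x hx
    rw [Finset.mem_filter, hΩf, Set.Finite.mem_toFinset] at hx
    obtain ⟨hxΩ, hxq⟩ := hx
    have h1 : s⁻¹ * x ∈ D.N := QuotientGroup.eq.1 (hsq.trans hxq.symm)
    rw [hsi] at h1
    refine (hmW _).2 ⟨h1, ?_⟩
    rw [← mul_assoc, hss, one_mul]
    have := inv_mem h1
    rwa [mul_inv_rev, hsi, inv_eq_of_mul_eq_one_right (hΩinv x hxΩ).1] at this
  have hfin : (Ωf.filter fun x => f x = q).card ≤ Nat.card W := by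
    rw [← Nat.card_eq_finsetCard]
    exact Nat.card_le_card_of_injective (fun x => (⟨s * x.1, hmem x.1 x.2⟩ : W))
      fun x y e => Subtype.ext (mul_left_cancel (congrArg Subtype.val e))
  omega

end CoreHyp

end Cfsg.Agent.J4ThreeLocal
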