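import Cfsg.Agent.Lib.J4ThreeLocal.CoreBasic
import Cfsg.Agent.Lib.M22Order.Known

/-!
# Fixed spaces of the involutions of `C(X)` and of the involutions inverting `X`
-/

set_option autoImplicit false
set_option linter.style.haveILetI false
set_option linter.unusedSectionVars false

namespace Cfsg.Agent.J4ThreeLocal

open Subgroup
open scoped commutatorElement

universe u v w

namespace CoreHyp

variable {K : Type u} [Group K] [Finite K] {V : Type v} [AddCommGroup V] [Finite V]
  [DistribMulAction K V] {M : Type w} [Group M] [Finite M] [IsSimpleGroup M] (D : CoreHyp K V M)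

/-- `v ↦ k v + v`. -/
def delta (k : K) : V →+ V where
  toFun v := k • v + v
  map_zero' := by rw [smul_zero, add_zero]
  map_add' a b := by rw [smul_add]; abel

theorem delta_apply (k : K) (v : V) : delta k v = k • v + v := rfl

include D in
theorem delta_eq_zero {k : K} {v : V} : delta k v = 0 ↔ k • v = v :=
  ⟨fun h => D.eq_of_add h, fun h => by rw [delta_apply, h, D.two]⟩

include D in
theorem delta_sq {t : K} (ht : t * t = 1) (v : V) : t • (delta t v) = delta t v := by
  rw [delta_apply, smul_add, ← mul_smul, ht, one_smul, add_comm]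

/-- The first space of a decomposition meets the second trivially. -/
theorem fx_inter {a : K} (i : ℕ) (hi : i = 1 ∨ i = 2) {v : V} (h1 : a • v = v)
    (h2 : (a * D.X ^ i) • v = v) : v = 0 := by
  rw [mul_smul] at h2
  have h : D.X ^ i • v = v := by
    conv_rhs at h2 => rw [← h1]
    exact (MulAction.injective a) h2
  rcases hi with rfl | rfl
  · exact D.fpf v (by rwa [pow_one] at h)
  · refine D.fpf v ?_
    rw [pow_two, mul_smul] at h
    conv_lhs => rw [← h]
    exact D.X_smul3 v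

/-- The three fixed spaces of the elements `a`, `aX`, `aX²`. -/
theorem decomp {a : K} (ha : a ∈ D.N0) (ha3 : a ^ 3 = 1) (haX : a ∉ zpowers D.X) :
    Function.Bijective fun p : fx (V := V) a × fx (V := V) (a * D.X) × fx (V := V) (a * D.X ^ 2) =>
      (p.1 : V) + p.2.1 + p.2.2 := by
  classical
  have hcom : Commute a D.X := D.mem_N0.1 ha
  have hinj : Function.Injective fun p : fx (V := V) a × fx (V := V) (a * D.X) × fx (V := V) (a * D.X ^ 2) =>
      (p.1 : V) + p.2.1 + p.2.2 := by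
    rintro ⟨p, q, r⟩ ⟨p', q', r'⟩ h
    simp only at h
    set u : V := (p : V) - p' with hu
    set v : V := (q : V) - q' with hv
    set w : V := (r : V) - r' with hw
    have hsum : u + v + w = 0 := by
      rw [hu, hv, hw, show (p : V) - p' + ((q : V) - q') + ((r : V) - r') =
        (p + q + r) - (p' + q' + r') by abel, h, sub_self]
    have hu' : u ∈ fx a := sub_mem p.2 p'.2
    have hv' : v ∈ fx (a * D.X) := sub_mem q.2 q'.2
    have hw' : w ∈ fx (a * D.X ^ 2) := sub_mem r.2 r'.2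
    have hpres : ∀ (i : ℕ) (x : V), x ∈ fx (a * D.X ^ i) → a • x + x ∈ fx (a * D.X ^ i) := by
      intro i x hx
      refine add_mem ?_ hx
      show (a * D.X ^ i) • (a • x) = a • x
      rw [← mul_smul, ((Commute.refl a).mul_left (hcom.pow_right i).symm).eq, mul_smul, mem_fx.1 hx]
    have h1 : a • v + v = a • w + w := by
      refine D.eq_of_add ?_
      have := congrArg (delta a) hsum
      rw [map_add, map_add, map_zero, (D.delta_eq_zero).2 (mem_fx.1 hu'), zero_add] at this
      exact this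
    have hz : a • v + v = 0 := by
      refine D.fx_inter (a := a * D.X) 1 (Or.inl rfl) (mem_fx.1 ?_) (mem_fx.1 ?_)
      · simpa [pow_one] using hpres 1 v (by simpa [pow_one] using hv')
      · rw [h1, pow_one, mul_assoc, ← pow_two]
        exact hpres 2 w hw'
    have hv0 : v = 0 := D.fx_inter (a := a) 1 (Or.inl rfl) (D.eq_of_add hz)
      (by rw [pow_one]; exact mem_fx.1 hv')
    have hu0 : u = 0 := by
      refine D.fx_inter (a := a) 2 (Or.inr rfl) (mem_fx.1 hu') (mem_fx.1 ?_)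
      have : u = w := D.eq_of_add (by rw [← hsum, hv0, add_zero])
      rw [this]
      exact hw'
    have hw0 : w = 0 := by simpa [hv0, hu0] using hsum
    exact Prod.ext (Subtype.ext (sub_eq_zero.1 hu0))
      (Prod.ext (Subtype.ext (sub_eq_zero.1 hv0)) (Subtype.ext (sub_eq_zero.1 hw0)))
  refine (Nat.bijective_iff_injective_and_card _).2 ⟨hinj, ?_⟩
  have hi : ∀ i : ℕ, Nat.card (fx (V := V) (a * D.X ^ i)) = 16 := by
    intro i
    refine D.fx_three (mul_mem ha (pow_mem D.X_mem i)) ?_ fun h => haX ?_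
    · rw [(hcom.pow_right i).mul_pow, ha3, one_mul, ← pow_mul, mul_comm, pow_mul, D.X3, one_pow]
    · simpa using mul_mem h (inv_mem (pow_mem (mem_zpowers D.X) i))
  rw [Nat.card_prod, Nat.card_prod, D.cardV]
  have h0 := hi 0
  have h1 := hi 1
  rw [pow_zero, mul_one] at h0
  rw [pow_one] at h1
  rw [h0, h1, hi 2]

theorem commute_smul {t k : K} (h : Commute t k) {v : V} (hv : k • v = v) : k • (t • v) = t • v := by
  rw [← mul_smul, ← h.eq, mul_smul, hv]

/-- The order of the fixed space of an involution, piece by piece. -/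
theorem card_fx_pieces {a t : K} (ha : a ∈ D.N0) (ha3 : a ^ 3 = 1) (haX : a ∉ zpowers D.X)
    (ht : Commute t a) (htX : Commute t D.X) :
    Nat.card (fx (V := V) t) = Nat.card (fx (V := V) a ⊓ fx t : AddSubgroup V) *
      (Nat.card (fx (V := V) (a * D.X) ⊓ fx t : AddSubgroup V) *
        Nat.card (fx (V := V) (a * D.X ^ 2) ⊓ fx t : AddSubgroup V)) := by
  obtain ⟨hi, hs⟩ := D.decomp ha ha3 haX
  rw [← Nat.card_prod, ← Nat.card_prod]
  symm
  refine Nat.card_congr (Equiv.ofBijective (fun p => ⟨(p.1 : V) + p.2.1 + p.2.2, ?_⟩) ⟨?_, ?_⟩)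
  · exact add_mem (add_mem p.1.2.2 p.2.1.2.2) p.2.2.2.2
  · intro p p' h
    have := @hi (⟨p.1, p.1.2.1⟩, ⟨p.2.1, p.2.1.2.1⟩, ⟨p.2.2, p.2.2.2.1⟩)
      (⟨p'.1, p'.1.2.1⟩, ⟨p'.2.1, p'.2.1.2.1⟩, ⟨p'.2.2, p'.2.2.2.1⟩) (congrArg Subtype.val h)
    simp only [Prod.mk.injEq, Subtype.mk.injEq] at this
    exact Prod.ext (Subtype.ext this.1) (Prod.ext (Subtype.ext this.2.1) (Subtype.ext this.2.2))
  · rintro ⟨v, hv⟩
    obtain ⟨⟨p, q, r⟩, e⟩ := hs v
    simp only at e
    have hsame := @hi (⟨t • (p : V), commute_smul ht p.2⟩,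
      ⟨t • (q : V), commute_smul (ht.mul_right htX) q.2⟩,
      ⟨t • (r : V), commute_smul (ht.mul_right (htX.pow_right 2)) r.2⟩) (p, q, r) (by
        show t • (p : V) + t • (q : V) + t • (r : V) = (p : V) + q + r
        rw [← smul_add, ← smul_add, e]
        exact hv)
    simp only [Prod.mk.injEq, Subtype.ext_iff] at hsame
    exact ⟨(⟨p, p.2, hsame.1⟩, ⟨q, q.2, hsame.2.1⟩, ⟨r, r.2, hsame.2.2⟩), Subtype.ext e⟩

/-- An involution nontrivial on a space of order 16 as above fixes four of its points. -/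
theorem card_piece {a t : K} (ha : a ∈ D.N0) (ha3 : a ^ 3 = 1) (haX : a ∉ zpowers D.X)
    (htt : t * t = 1) (ht : Commute t a) (htX : Commute t D.X) (hne : ¬ fx (V := V) a ≤ fx t) :
    Nat.card (fx (V := V) a ⊓ fx t : AddSubgroup V) = 4 := by
  classical
  set F := fx (V := V) a with hF
  have hinv : ∀ x ∈ F, D.X • x ∈ F := fun x hx => commute_smul (D.mem_N0.1 ha).symm hx
  let f : F →+ V := (delta t).comp F.subtype
  have hker : f.ker.map F.subtype = F ⊓ fx t := by
    ext x
    constructor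
    · rintro ⟨x, hx, rfl⟩; exact ⟨x.2, D.delta_eq_zero.1 hx⟩
    · rintro ⟨h1, h2⟩; exact ⟨⟨x, h1⟩, D.delta_eq_zero.2 h2, rfl⟩
  have hrange : f.range ≤ F ⊓ fx t := by
    rintro _ ⟨x, rfl⟩
    exact ⟨add_mem (commute_smul ht x.2) x.2, D.delta_sq htt _⟩
  have hmul : Nat.card (F ⊓ fx t : AddSubgroup V) * Nat.card f.range = 16 := by
    rw [← hker, AddSubgroup.card_map_of_injective (AddSubgroup.subtype_injective F),
      ← AddSubgroup.index_ker, AddSubgroup.card_mul_index]
    exact D.fx_three ha ha3 haX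
  have hmod : Nat.card (F ⊓ fx t : AddSubgroup V) % 3 = 1 :=
    card_mod_three _ (fun x => D.X • x)
      (fun x hx => ⟨hinv x hx.1, commute_smul htX.symm hx.2⟩) D.X_smul3 (smul_zero _) D.fpf
  have hle : Nat.card f.range ≤ Nat.card (F ⊓ fx t : AddSubgroup V) := AddSubgroup.card_le_of_le hrange
  have hne1 : Nat.card f.range ≠ 1 := by
    intro h
    rw [AddSubgroup.card_eq_one] at h
    refine hne fun x hx => D.delta_eq_zero.1 ?_
    have : f ⟨x, hx⟩ ∈ f.range := ⟨_, rfl⟩
    rw [h] at this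
    exact this
  set n := Nat.card (F ⊓ fx t : AddSubgroup V)
  set m := Nat.card f.range
  have hn : n ∣ 16 := ⟨m, hmul.symm⟩
  have := Nat.le_of_dvd (by norm_num) hn
  interval_cases n <;> omega

/-- An element inverting `X` of square one fixes 64 vectors. -/
theorem card_fx_outer {a : K} (ha : a * a = 1) (hX : a * D.X * a⁻¹ = D.X⁻¹) :
    Nat.card (fx (V := V) a) = 64 := by
  have hk : (delta (V := V) a).ker = fx a := AddSubgroup.ext fun v => D.delta_eq_zero
  have hr : (delta (V := V) a).range = fx a := by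
    refine le_antisymm ?_ fun v hv => ⟨D.X • v, ?_⟩
    · rintro _ ⟨x, rfl⟩; exact D.delta_sq ha x
    · have e : a * D.X = D.X ^ 2 * a := by
        rw [← mul_inv_eq_iff_eq_mul, hX]
        exact inv_eq_of_mul_eq_one_right (by rw [← pow_succ', D.X3])
      rw [delta_apply, ← mul_smul, e, mul_smul, mem_fx.1 hv, pow_two, mul_smul, D.X_rel', add_right_comm,
        D.two, zero_add]
  have := (delta (V := V) a).ker.card_mul_index
  rw [AddSubgroup.index_ker, hk, hr, D.cardV] at this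
  nlinarith

/-- No involution of `C(X)` fixes just 64 vectors. -/
theorem no_sixty_four {t : K} (htt : t * t = 1) {g : K} (hg : g * g = t) (hgX : Commute g D.X)
    (h64 : Nat.card (fx (V := V) t) = 64) : False := by
  classical
  have hk : (delta (V := V) t).ker = fx t := AddSubgroup.ext fun v => D.delta_eq_zero
  have hr : (delta (V := V) t).range = fx t := by
    refine AddSubgroup.eq_of_le_of_card_ge (by rintro _ ⟨x, rfl⟩; exact D.delta_sq htt x) ?_
    have := (delta (V := V) t).ker.card_mul_index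
    rw [AddSubgroup.index_ker, hk, h64, D.cardV] at this
    omega
  set R := (delta (V := V) g).range with hR
  have hkg : (delta (V := V) g).ker = fx g := AddSubgroup.ext fun v => D.delta_eq_zero
  have hsq : ∀ v : V, delta g (delta g v) = delta t v := fun v => by
    rw [delta_apply, delta_apply, delta_apply, smul_add, ← mul_smul, hg]
    calc t • v + g • v + (g • v + v) = t • v + (g • v + g • v) + v := by abel
      _ = t • v + v := by rw [D.two, add_zero]
  have hgR : fx g ≤ R := fun v hv => by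
    have hv' : v ∈ (delta (V := V) t).range := by
      rw [hr, mem_fx, ← hg, mul_smul, mem_fx.1 hv, mem_fx.1 hv]
    obtain ⟨w, rfl⟩ := hv'
    exact ⟨delta g w, hsq w⟩
  let f : R →+ V := (delta g).comp R.subtype
  have hf1 : f.range = fx t := by
    rw [← hr]
    refine le_antisymm ?_ ?_
    · rintro _ ⟨⟨_, w, rfl⟩, rfl⟩; exact ⟨w, (hsq w).symm⟩
    · rintro _ ⟨w, rfl⟩; exact ⟨⟨delta g w, w, rfl⟩, hsq w⟩
  have hf2 : f.ker.map R.subtype = fx g := by
    ext x
    constructor
    · rintro ⟨x, hx, rfl⟩; exact D.delta_eq_zero.1 hx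
    · exact fun h => ⟨⟨x, hgR h⟩, D.delta_eq_zero.2 h, rfl⟩
  have h1 : Nat.card (fx (V := V) g) * 64 = Nat.card R := by
    rw [← hf2, AddSubgroup.card_map_of_injective (AddSubgroup.subtype_injective R), ← h64, ← hf1,
      ← AddSubgroup.index_ker, AddSubgroup.card_mul_index]
  have h2 : Nat.card (fx (V := V) g) * Nat.card R = 4096 := by
    rw [← hkg, ← AddSubgroup.index_ker, AddSubgroup.card_mul_index, D.cardV]
  have h3 : Nat.card (fx (V := V) g) % 3 = 1 :=
    card_mod_three _ (fun x => D.X • x) (fun x hx => commute_smul hgX.symm hx) D.X_smul3 (smul_zero _) D.fpf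
  have : Nat.card (fx (V := V) g) = 8 := by nlinarith
  omega

theorem exists_involution_conj {s t : K} (hs : s ∈ D.N0) (ht : t ∈ D.N0) (hss : s * s = 1)
    (htt : t * t = 1) (hs1 : s ≠ 1) (ht1 : t ≠ 1) : ∃ c ∈ D.N0, c * s * c⁻¹ = t := by
  set s' : D.N0 := ⟨s, hs⟩ with hs'
  set t' : D.N0 := ⟨t, ht⟩ with ht'
  have hord : ∀ a : D.N0, a * a = 1 → a ≠ 1 → orderOf (D.q a) = 2 := by
    intro a ha ha1
    refine M22Order.orderOf_two_of_sq (by rw [← map_mul, ha, map_one]) fun e => ha1 ?_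
    exact involution_unique D.central_ker D.ker_pow (by norm_num) ha (one_mul 1) (by rw [e, map_one])
  obtain ⟨m, hm⟩ := isConj_iff.1 (M22Order.isConj_involution D.cardM
    (hord s' (Subtype.ext hss) fun e => hs1 (congrArg Subtype.val e))
    (hord t' (Subtype.ext htt) fun e => ht1 (congrArg Subtype.val e)))
  obtain ⟨c, rfl⟩ := D.hq m
  refine ⟨c, c.2, congrArg Subtype.val (involution_unique D.central_ker D.ker_pow
    (by norm_num : Nat.Coprime 3 2) (a := c * s' * c⁻¹) (b := t') ?_ (Subtype.ext htt) ?_)⟩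
  · rw [show c * s' * c⁻¹ * (c * s' * c⁻¹) = c * (s' * s') * c⁻¹ by group,
      show s' * s' = 1 from Subtype.ext hss, mul_one, mul_inv_cancel]
  · rw [map_mul, map_mul, map_inv, hm]

/-- An element of order three, an involution commuting with it, trivial on its fixed space and on
neither of the other two. -/
theorem exists_frame : ∃ a t : K, a ∈ D.N0 ∧ a ^ 3 = 1 ∧ a ∉ zpowers D.X ∧ t ∈ D.N0 ∧ t * t = 1 ∧
    t ≠ 1 ∧ Commute t a ∧ fx (V := V) a ≤ fx t ∧ ¬ fx (V := V) (a * D.X) ≤ fx t ∧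
    ¬ fx (V := V) (a * D.X ^ 2) ≤ fx t := by
  classical
  haveI : Fact (Nat.Prime 3) := ⟨Nat.prime_three⟩
  set y' : D.N0 := ⟨D.y, D.y_mem⟩ with hy'
  have hy3 : y' ^ 3 = 1 := Subtype.ext D.hy3
  have hyne : D.q y' ≠ 1 := fun e => D.hy ((D.hker _).1 e)
  have hyo : orderOf (D.q y') = 3 := orderOf_eq_prime (by rw [← map_pow, hy3, map_one]) hyne
  -- an element moving `y` inside the kernel, of order three modulo it
  obtain ⟨s₀, hs₀⟩ := exists_shift D.cardM D.hq D.central_ker D.perf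
    (ζ₀ := ⟨D.X, D.X_mem⟩) ((D.hker _).2 (mem_zpowers _)) (by rw [Subgroup.orderOf_mk, D.orderX])
    D.card_ker (Nat.coprime_one_left 3) hy3 hyne 1
  rw [pow_one] at hs₀
  set X' : D.N0 := ⟨D.X, D.X_mem⟩ with hX'
  set s := s₀ ^ 4 with hs
  have hX'3 : X' ^ 3 = 1 := Subtype.ext D.X3
  have hqX : D.q X' = 1 := (D.hker _).2 (mem_zpowers _)
  have hsy : s * y' * s⁻¹ = y' * X' := by
    rw [hs, conj_pow_of_ker D.central_ker hqX hs₀ 4, show (4 : ℕ) = 3 + 1 from rfl, pow_succ, hX'3, one_mul]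
  have hsC : D.q s ∈ centralizer ({D.q y'} : Set M) := by
    refine mem_centralizer_singleton_iff.2 ?_
    have e := congrArg D.q hsy
    rw [map_mul, map_mul, map_inv, map_mul, hqX, mul_one] at e
    exact mul_inv_eq_iff_eq_mul.1 e
  have hm3 : D.q s ^ 3 = 1 := by
    have h9 : D.q s ^ 9 = 1 := by
      have h0 : D.q s₀ ∈ centralizer ({D.q y'} : Set M) := by
        refine mem_centralizer_singleton_iff.2 ?_
        have e := congrArg D.q hs₀
        rw [map_mul, map_mul, map_inv, map_mul, hqX, mul_one] at e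
        exact mul_inv_eq_iff_eq_mul.1 e
      have := Subgroup.orderOf_dvd_natCard _ h0
      rw [show Nat.card (centralizer ({D.q y'} : Set M)) = 36 from M22Order.cen_three D.cardM hyo] at this
      rw [hs, map_pow, ← pow_mul]
      exact orderOf_dvd_iff_pow_eq_one.1 this
    obtain ⟨P, hP⟩ := (IsPGroup.of_card (p := 3) (n := orderOf (D.q s) |>.factorization 3) (by
      rw [Nat.card_zpowers]
      obtain ⟨k, -, hk⟩ := (Nat.dvd_prime_pow Nat.prime_three).1
        (orderOf_dvd_of_pow_eq_one (show D.q s ^ 3 ^ 2 = 1 from h9))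
      rw [hk, Nat.Prime.factorization_pow Nat.prime_three, Finsupp.single_eq_same]) :
      IsPGroup 3 (zpowers (D.q s))).exists_le_sylow
    exact J4Local.three_pow D.cardM P (hP (mem_zpowers _))
  -- the four group
  obtain ⟨hc4, hsq, -⟩ := M22Order.exists_four D.cardM hyo
  set F := M22Order.fourGroup (D.q y') with hF
  have hfix : ∀ x ∈ F, D.q s * x * (D.q s)⁻¹ = x → x = 1 := by
    intro x hx hfx
    by_contra hx1
    obtain ⟨hxo, hxc⟩ := M22Order.four_involution D.cardM hyo hx hx1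
    have hPle : closure ({D.q y', D.q s} : Set M) ≤
        centralizer ({D.q y'} : Set M) ⊓ centralizer ({x} : Set M) := by
      rw [closure_le]
      rintro u (hu | hu)
      · rw [hu]; exact ⟨mem_centralizer_singleton_iff.2 rfl, mem_centralizer_singleton_iff.2 hxc.eq⟩
      · rw [Set.mem_singleton_iff.1 hu]
        exact ⟨hsC, mem_centralizer_singleton_iff.2 (mul_inv_eq_iff_eq_mul.1 hfx)⟩
    set P2 := closure ({D.q y', D.q s} : Set M) with hP2
    have hd := card_dvd_of_le hPle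
    rw [M22Order.cen_three_inf_involution D.cardM hyo hxo hxc] at hd
    haveI : IsMulCommutative P2 := Subgroup.isMulCommutative_closure fun a ha b hb => by
      have hcm : Commute (D.q s) (D.q y') := mem_centralizer_singleton_iff.1 hsC
      rcases ha with ha | ha <;> rcases hb with hb | hb
      · rw [ha, hb]
      · rw [ha, Set.mem_singleton_iff.1 hb]; exact hcm.eq.symm
      · rw [hb, Set.mem_singleton_iff.1 ha]; exact hcm.eq
      · rw [Set.mem_singleton_iff.1 ha, Set.mem_singleton_iff.1 hb]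
    have hpow : ∀ u ∈ P2, u ^ 3 = 1 := by
      intro u hu
      induction hu using closure_induction with
      | mem u hu => rcases hu with hu | hu
                    · rw [hu, ← map_pow, hy3, map_one]
                    · rw [Set.mem_singleton_iff.1 hu, hm3]
      | one => exact one_pow _
      | mul a b ha hb ea eb =>
        have hab : Commute a b := congrArg Subtype.val (mul_comm' (⟨a, ha⟩ : P2) ⟨b, hb⟩)
        rw [hab.mul_pow, ea, eb, one_mul]
      | inv a ha ea => rw [inv_pow, ea, inv_one]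
    obtain ⟨n, hn⟩ := (show IsPGroup 3 P2 from fun u => ⟨1, Subtype.ext (by
      rw [pow_one]; exact hpow u u.2)⟩).exists_card_eq
    rw [hn] at hd
    have hle : Nat.card P2 ≤ 3 := by
      rw [hn]
      refine Nat.le_of_dvd (by norm_num) ?_
      exact (Nat.Coprime.pow_left n (by norm_num : Nat.Coprime 3 4)).dvd_of_dvd_mul_right
        (show 3 ^ n ∣ 3 * 4 from hd)
    have hmem : D.q s ∈ zpowers (D.q y') := by
      have hle' : zpowers (D.q y') ≤ P2 := zpowers_le.2 (Subgroup.subset_closure (Or.inl rfl))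
      rw [eq_of_le_of_card_ge hle' (by rw [Nat.card_zpowers, hyo]; exact hle)]
      exact Subgroup.subset_closure (Or.inr rfl)
    obtain ⟨i, hi⟩ := mem_zpowers_iff.1 hmem
    have hk : D.q ((y' ^ i)⁻¹ * s) = 1 := by rw [map_mul, map_inv, map_zpow, hi, inv_mul_cancel]
    have hcy : Commute s y' := by
      have h := ((Commute.refl y').zpow_right i).mul_right (D.central_ker _ hk y')
      rw [mul_inv_cancel_left] at h
      exact h.symm
    rw [hcy.eq, mul_inv_cancel_right, left_eq_mul] at hsy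
    have : orderOf D.X = 1 := orderOf_eq_one_iff.2 (congrArg Subtype.val hsy)
    rw [D.orderX] at this
    norm_num at this
  obtain ⟨x1, hx1, hx11⟩ : ∃ x ∈ F, x ≠ 1 := by
    refine F.bot_or_exists_ne_one.resolve_left fun e => ?_
    rw [e, Subgroup.card_bot] at hc4
    norm_num at hc4
  set σ : M → M := fun x => D.q s * x * (D.q s)⁻¹ with hσ
  have hσF : ∀ x ∈ F, σ x ∈ F := fun x hx => by
    have := M22Order.conj_mem_four (D.q s) hx
    rwa [mem_centralizer_singleton_iff.1 hsC, mul_inv_cancel_right] at this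
  have hσ3 : ∀ x, σ (σ (σ x)) = x := fun x => by
    calc σ (σ (σ x)) = D.q s ^ 3 * x * (D.q s ^ 3)⁻¹ := by simp [hσ, pow_succ, mul_assoc]
      _ = x := by rw [hm3, one_mul, inv_one, mul_one]
  have hσ1 : ∀ x, x ≠ 1 → σ x ≠ 1 := fun x hx e => hx (conj_eq_one_iff.1 e)
  have h12 : σ x1 ≠ x1 := fun e => hx11 (hfix x1 hx1 e)
  have h13 : σ (σ x1) ≠ x1 := fun e => h12 (by
    have := congrArg σ e
    rw [hσ3] at this
    exact this.symm)
  have h23 : σ (σ x1) ≠ σ x1 := fun e => hσ1 _ hx11 (hfix _ (hσF _ hx1) e)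
  have hprod : x1 * σ x1 = σ (σ x1) := by
    by_contra hne
    have h2 := hσF _ hx1
    have h3 := hσF _ h2
    have hcard : ({1, x1, σ x1, σ (σ x1), x1 * σ x1} : Finset M).card ≤ 4 := by
      rw [← hc4, ← Nat.card_eq_finsetCard]
      refine Nat.card_le_card_of_injective (fun u => (⟨u.1, ?_⟩ : F)) fun u v h =>
        Subtype.ext (congrArg (fun z : F => (z : M)) h)
      have := u.2
      simp only [Finset.mem_insert, Finset.mem_singleton] at this
      rcases this with e | e | e | e | e <;> rw [e]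
      exacts [one_mem F, hx1, h2, h3, mul_mem hx1 h2]
    have hn1 : x1 * σ x1 ≠ 1 := fun e => h12 (by
      rw [← inv_eq_of_mul_eq_one_right e, inv_eq_of_mul_eq_one_right (hsq x1 hx1)])
    have hn2 : x1 * σ x1 ≠ x1 := fun e => hσ1 _ hx11 (mul_eq_left.1 e)
    have hn3 : x1 * σ x1 ≠ σ x1 := fun e => hx11 (mul_eq_right.1 e)
    rw [Finset.card_insert_of_notMem, Finset.card_insert_of_notMem, Finset.card_insert_of_notMem,
      Finset.card_insert_of_notMem, Finset.card_singleton] at hcard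
    · omega
    all_goals simp only [Finset.mem_insert, Finset.mem_singleton, not_or]
    · exact Ne.symm hne
    · exact ⟨h23.symm, hn3.symm⟩
    · exact ⟨h12.symm, h13.symm, hn2.symm⟩
    · exact ⟨hx11.symm, (hσ1 _ hx11).symm, (hσ1 _ (hσ1 _ hx11)).symm, hn1.symm⟩
  -- lifts
  obtain ⟨t1, ht1, hqt1⟩ := exists_involution_lift D.hq D.ker_pow
    (by norm_num : Nat.Coprime 3 2) (hsq x1 hx1)
  set t2 := s * t1 * s⁻¹ with ht2
  set t3 := s * t2 * s⁻¹ with ht3
  have hconj : ∀ a : D.N0, a * a = 1 → s * a * s⁻¹ * (s * a * s⁻¹) = 1 := fun a ha => by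
    rw [show s * a * s⁻¹ * (s * a * s⁻¹) = s * (a * a) * s⁻¹ by group, ha, mul_one, mul_inv_cancel]
  have hqc : ∀ a : D.N0, D.q (s * a * s⁻¹) = σ (D.q a) := fun a => by rw [map_mul, map_mul, map_inv]
  have ht31 : s * t3 * s⁻¹ = t1 := involution_unique D.central_ker D.ker_pow
    (by norm_num : Nat.Coprime 3 2) (hconj _ (hconj _ (hconj _ ht1))) ht1 (by
      rw [hqc, hqc, hqc, hσ3])
  have htc : Commute t1 y' := commute_of_image D.central_ker hy3 (m := 2) (by norm_num)
    (by rw [hqt1, pow_two, hsq x1 hx1]) (hqt1 ▸ (M22Order.four_involution D.cardM hyo hx1 hx11).2.symm)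
  have h12c : Commute t1 t2 := by
    have hq12 : Commute (D.q t1) (D.q t2) := by
      rw [ht2, hqc, hqt1]; exact M22Order.four_comm D.cardM hyo hx1 (hσF _ hx1)
    have he := involution_unique D.central_ker D.ker_pow (by norm_num : Nat.Coprime 3 2)
      (a := t1 * t2 * t1⁻¹) (b := t2)
      (by rw [show t1 * t2 * t1⁻¹ * (t1 * t2 * t1⁻¹) = t1 * (t2 * t2) * t1⁻¹ by group, hconj _ ht1,
        mul_one, mul_inv_cancel]) (hconj _ ht1)
      (by rw [map_mul, map_mul, map_inv, hq12.eq, mul_inv_cancel_right])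
    exact mul_inv_eq_iff_eq_mul.1 he
  have hp : t1 * t2 = t3 := involution_unique D.central_ker D.ker_pow
    (by norm_num : Nat.Coprime 3 2)
    (by rw [← pow_two, h12c.mul_pow, pow_two, pow_two, ht1, hconj _ ht1, one_mul])
    (hconj _ (hconj _ ht1)) (by
      show D.q (t1 * (s * t1 * s⁻¹)) = D.q (s * (s * t1 * s⁻¹) * s⁻¹)
      rw [map_mul, hqc, hqc, hqt1, hprod, hqc, hqt1])
  -- trivial actions
  set S : K := (s : K) with hS
  set Tr : K → K → Prop := fun t a => fx (V := V) a ≤ fx t with hTr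
  have hmove : ∀ t a, Tr t a ↔ Tr (S * t * S⁻¹) (S * a * S⁻¹) := by
    have h1 : ∀ (g t a : K), Tr t a → Tr (g * t * g⁻¹) (g * a * g⁻¹) := fun g t a h v hv => by
      have h2 : g⁻¹ • v ∈ fx a := by
        show a • (g⁻¹ • v) = g⁻¹ • v
        have e := congrArg (g⁻¹ • ·) (mem_fx.1 hv)
        simp only [mul_smul, inv_smul_smul] at e
        exact e
      show (g * t * g⁻¹) • v = v
      rw [mul_smul, mul_smul, mem_fx.1 (h h2), smul_inv_smul]
    intro t a
    refine ⟨h1 S t a, fun h => ?_⟩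
    have := h1 S⁻¹ _ _ h
    simpa [mul_assoc] using this
  set Y := D.y with hY
  have hSY : S * Y * S⁻¹ = Y * D.X := congrArg Subtype.val hsy
  have hSX : S * D.X * S⁻¹ = D.X := by rw [(D.mem_N0.1 s.2).eq, mul_inv_cancel_right]
  have hSY1 : S * (Y * D.X) * S⁻¹ = Y * D.X ^ 2 := by
    rw [show S * (Y * D.X) * S⁻¹ = (S * Y * S⁻¹) * (S * D.X * S⁻¹) by group, hSY, hSX, pow_two, mul_assoc]
  have hSY2 : S * (Y * D.X ^ 2) * S⁻¹ = Y := by
    rw [show S * (Y * D.X ^ 2) * S⁻¹ = (S * Y * S⁻¹) * (S * D.X * S⁻¹) ^ 2 by rw [conj_pow]; group,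
      hSY, hSX, mul_assoc, ← pow_succ', D.X3, mul_one]
  have hprodTr : ∀ a, (Tr t1 a → Tr t2 a → Tr t3 a) ∧ (Tr t2 a → Tr t3 a → Tr t1 a) ∧
      (Tr t3 a → Tr t1 a → Tr t2 a) := by
    intro a
    have e3 : (t3 : K) = t1 * t2 := (congrArg Subtype.val hp).symm
    refine ⟨fun h1 h2 v hv => ?_, fun h2 h3 v hv => ?_, fun h3 h1 v hv => ?_⟩
    · show (t3 : K) • v = v
      rw [e3, mul_smul, mem_fx.1 (h2 hv), mem_fx.1 (h1 hv)]
    · show (t1 : K) • v = v
      have := mem_fx.1 (h3 hv)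
      rwa [e3, mul_smul, mem_fx.1 (h2 hv)] at this
    · show (t2 : K) • v = v
      have := mem_fx.1 (h3 hv)
      rw [e3, mul_smul] at this
      have e := congrArg ((t1 : K) • ·) this
      simp only [← mul_smul] at e
      rw [← mul_assoc, show (t1 : K) * t1 = 1 from congrArg Subtype.val ht1, one_mul] at e
      rw [e, mem_fx.1 (h1 hv)]
  have e2 : S * (t1 : K) * S⁻¹ = t2 := rfl
  have e3 : S * (t2 : K) * S⁻¹ = t3 := rfl
  have e1 : S * (t3 : K) * S⁻¹ = t1 := congrArg Subtype.val ht31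
  have hP2 : Tr t2 Y ↔ Tr t1 (Y * D.X ^ 2) := by
    rw [hmove t1 (Y * D.X ^ 2), hSY2, e2]
  have hP1 : Tr t3 Y ↔ Tr t1 (Y * D.X) := by rw [hmove t3 Y, hSY, e1]
  have hall : ¬ (Tr t1 Y ∧ Tr t1 (Y * D.X) ∧ Tr t1 (Y * D.X ^ 2)) := by
    rintro ⟨h0, h1, h2⟩
    have : (t1 : K) = 1 := by
      refine D.faithful _ fun v => ?_
      obtain ⟨⟨p, q, r⟩, e⟩ := (D.decomp D.y_mem D.hy3 D.hy).2 v
      rw [← e]
      simp only [smul_add]
      rw [mem_fx.1 (h0 p.2), mem_fx.1 (h1 q.2), mem_fx.1 (h2 r.2)]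
    have e : t1 = 1 := Subtype.ext this
    rw [e, map_one] at hqt1
    exact hx11 hqt1.symm
  have htY : Commute (t1 : K) Y := congrArg Subtype.val htc.eq
  have htX : Commute (t1 : K) D.X := D.mem_N0.1 t1.2
  have htt : (t1 : K) * t1 = 1 := congrArg Subtype.val ht1
  have hmemX : ∀ i : ℕ, Y * D.X ^ i ∈ D.N0 ∧ (Y * D.X ^ i) ^ 3 = 1 ∧ Y * D.X ^ i ∉ zpowers D.X := by
    intro i
    refine ⟨mul_mem D.y_mem (pow_mem D.X_mem i), ?_, fun h => D.hy ?_⟩
    · rw [(D.hyX.pow_right i).mul_pow, D.hy3, one_mul, ← pow_mul, mul_comm, pow_mul, D.X3, one_pow]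
    · simpa using mul_mem h (inv_mem (pow_mem (mem_zpowers D.X) i))
  have hnone : Tr t1 Y ∨ Tr t1 (Y * D.X) ∨ Tr t1 (Y * D.X ^ 2) := by
    by_contra h
    push Not at h
    have h64 : Nat.card (fx (V := V) (t1 : K)) = 64 := by
      rw [D.card_fx_pieces D.y_mem D.hy3 D.hy htY htX,
        D.card_piece D.y_mem D.hy3 D.hy htt htY htX h.1]
      have a1 := hmemX 1
      rw [pow_one] at a1
      rw [D.card_piece a1.1 a1.2.1 a1.2.2 htt (htY.mul_right htX) htX h.2.1,
        D.card_piece (hmemX 2).1 (hmemX 2).2.1 (hmemX 2).2.2 htt (htY.mul_right (htX.pow_right 2)) htX h.2.2]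
    obtain ⟨g4, hg4, hg2⟩ := J4Local.exists_order_four D.cardM
    obtain ⟨m, hm⟩ := isConj_iff.1 (M22Order.isConj_involution D.cardM
      (s := g4 * g4) (t := D.q t1) (M22Order.orderOf_two_of_sq (by
        rw [← pow_two g4, ← pow_add]; exact hg4) hg2)
      (M22Order.orderOf_two_of_sq (by rw [← map_mul, ht1, map_one]) (hqt1 ▸ hx11)))
    obtain ⟨g0, hg0⟩ := D.hq (m * g4 * m⁻¹)
    set ζ := t1⁻¹ * (g0 * g0) with hζ
    have hζ1 : D.q ζ = 1 := by
      rw [hζ, map_mul, map_inv, map_mul, hg0, show m * g4 * m⁻¹ * (m * g4 * m⁻¹) = m * (g4 * g4) * m⁻¹ by group,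
        hm, inv_mul_cancel]
    have hg6 : g0 ^ 3 * g0 ^ 3 = t1 := by
      have e : g0 * g0 = t1 * ζ := by rw [hζ, mul_inv_cancel_left]
      rw [← pow_add, show 3 + 3 = 2 * 3 from rfl, pow_mul, pow_two, e,
        (D.central_ker ζ hζ1 t1).mul_pow, D.ker_pow ζ hζ1, mul_one, pow_succ, pow_two, ht1, one_mul]
    exact D.no_sixty_four htt (congrArg Subtype.val hg6 : (g0 : K) ^ 3 * (g0 : K) ^ 3 = t1)
      ((D.mem_N0.1 g0.2).pow_left 3) h64
  have hrule := hprodTr Y
  rw [hP1, hP2] at hrule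
  have a1 := hmemX 1
  rw [pow_one] at a1
  have ht1ne : (t1 : K) ≠ 1 := fun e => hx11 (by
    rw [← hqt1, show t1 = 1 from Subtype.ext e, map_one])
  rcases hnone with h | h | h
  · refine ⟨Y, t1, D.y_mem, D.hy3, D.hy, t1.2, htt, ht1ne, htY, h, fun h' => ?_, fun h' => ?_⟩
    · exact hall ⟨h, h', hrule.2.2 h' h⟩
    · exact hall ⟨h, hrule.1 h h', h'⟩
  · refine ⟨Y * D.X, t1, a1.1, a1.2.1, a1.2.2, t1.2, htt, ht1ne, htY.mul_right htX, h, ?_, ?_⟩
    · rw [mul_assoc, ← pow_two]
      exact fun h' => hall ⟨hrule.2.1 h' h, h, h'⟩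
    · rw [mul_assoc, ← pow_succ', D.X3, mul_one]
      exact fun h' => hall ⟨h', h, hrule.2.2 h h'⟩
  · refine ⟨Y * D.X ^ 2, t1, (hmemX 2).1, (hmemX 2).2.1, (hmemX 2).2.2, t1.2, htt, ht1ne,
      htY.mul_right (htX.pow_right 2), h, ?_, ?_⟩
    · rw [mul_assoc, ← pow_succ, D.X3, mul_one]
      exact fun h' => hall ⟨h', hrule.1 h' h, h⟩
    · rw [mul_assoc, ← pow_add, show 2 + 2 = 3 + 1 from rfl, pow_succ, D.X3, one_mul]
      exact fun h' => hall ⟨hrule.2.1 h h', h', h⟩

/-- The involutions of `C(X)` fix 256 vectors. -/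
theorem card_fx_inner {t : K} (ht : t ∈ D.N0) (htt : t * t = 1) (ht1 : t ≠ 1) :
    Nat.card (fx (V := V) t) = 256 := by
  obtain ⟨a, t', ha, ha3, haX, ht', htt', ht1', hta, h0, h1, h2⟩ := D.exists_frame
  obtain ⟨c, -, e⟩ := D.exists_involution_conj ht' ht htt' htt ht1' ht1
  rw [← e, card_fx_conj]
  have htX := D.mem_N0.1 ht'
  have hm : ∀ i : ℕ, a * D.X ^ i ∈ D.N0 ∧ (a * D.X ^ i) ^ 3 = 1 ∧ a * D.X ^ i ∉ zpowers D.X := by
    intro i
    refine ⟨mul_mem ha (pow_mem D.X_mem i), ?_, fun h => haX ?_⟩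
    · rw [((D.mem_N0.1 ha).pow_right i).mul_pow, ha3, one_mul, ← pow_mul, mul_comm, pow_mul, D.X3, one_pow]
    · simpa using mul_mem h (inv_mem (pow_mem (mem_zpowers D.X) i))
  have a1 := hm 1
  rw [pow_one] at a1
  rw [D.card_fx_pieces ha ha3 haX hta htX, inf_eq_left.2 h0, D.fx_three ha ha3 haX,
    D.card_piece a1.1 a1.2.1 a1.2.2 htt' (hta.mul_right htX) htX h1,
    D.card_piece (hm 2).1 (hm 2).2.1 (hm 2).2.2 htt' (hta.mul_right (htX.pow_right 2)) htX h2]

/-- **No fusion.** A conjugate inside `N` of an involution of `C(X)` lies in `C(X)`. -/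
theorem conj_mem_N0 {t k : K} (ht : t ∈ D.N0) (htt : t * t = 1) (ht1 : t ≠ 1)
    (hk : k * t * k⁻¹ ∈ D.N) : k * t * k⁻¹ ∈ D.N0 := by
  rcases D.N_cases hk with e | e
  · exact D.mem_N0.2 (mul_inv_eq_iff_eq_mul.1 e)
  · exfalso
    have h := D.card_fx_outer (by
      rw [show k * t * k⁻¹ * (k * t * k⁻¹) = k * (t * t) * k⁻¹ by group, htt, mul_one, mul_inv_cancel]) e
    rw [card_fx_conj, D.card_fx_inner ht htt ht1] at h
    norm_num at h

end CoreHyp

end Cfsg.Agent.J4ThreeLocal
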