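import Cfsg.Agent.Lib.J4ThreeLocal.CoreInvolution
import Cfsg.Agent.Lib.J4ThreeLocal.Code

/-!
# The centralizer of an involution of `C(X)` normalizes `⟨X⟩`
-/

set_option autoImplicit false
set_option linter.style.haveILetI false
set_option linter.unusedSectionVars false

namespace Cfsg.Agent.J4ThreeLocal

open Subgroup
open scoped commutatorElement Pointwise

universe u v w

namespace CoreHyp

variable {K : Type u} [Group K] [Finite K] {V : Type v} [AddCommGroup V] [Finite V]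
  [DistribMulAction K V] {M : Type w} [Group M] [Finite M] [IsSimpleGroup M] (D : CoreHyp K V M)

/-- A 3-element normalizing `⟨X⟩` centralizes `X`. -/
theorem mem_N0_of_pow_three {v : K} (hv : v ∈ D.N) {k : ℕ} (hk : v ^ 3 ^ k = 1) : v ∈ D.N0 := by
  rcases D.N_cases hv with e | e
  · exact D.mem_N0.2 (mul_inv_eq_iff_eq_mul.1 e)
  · exfalso
    have e' : v * D.X⁻¹ * v⁻¹ = D.X := by
      rw [show v * D.X⁻¹ * v⁻¹ = (v * D.X * v⁻¹)⁻¹ by group, e, inv_inv]
    have hodd : ∀ j : ℕ, v ^ (2 * j + 1) * D.X * (v ^ (2 * j + 1))⁻¹ = D.X⁻¹ := by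
      intro j
      induction j with
      | zero => simpa using e
      | succ j ih =>
        rw [show 2 * (j + 1) + 1 = 2 + (2 * j + 1) by ring, pow_add]
        calc v ^ 2 * v ^ (2 * j + 1) * D.X * (v ^ 2 * v ^ (2 * j + 1))⁻¹
            = v * (v * (v ^ (2 * j + 1) * D.X * (v ^ (2 * j + 1))⁻¹) * v⁻¹) * v⁻¹ := by
              simp [pow_two, mul_assoc]
          _ = D.X⁻¹ := by rw [ih, e', e]
    obtain ⟨j, hj⟩ := (show Odd (3 ^ k) from (by decide : Odd 3).pow)
    have h := hodd j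
    rw [← hj, hk, one_mul, inv_one, mul_one] at h
    have h2 : D.X ^ 2 = 1 := by rw [pow_two]; exact eq_inv_iff_mul_eq_one.1 h
    have h3 := orderOf_dvd_of_pow_eq_one h2
    rw [D.orderX] at h3
    norm_num at h3

/-- The 3-part of the centralizer in `C(X)` of an involution is at most nine. -/
theorem card_centralizer_dvd {t : K} (ht : t ∈ D.N0) (htt : t * t = 1) (ht1 : t ≠ 1) :
    Nat.card (D.N0 ⊓ centralizer ({t} : Set K) : Subgroup K) ∣ 1152 := by
  set t' : D.N0 := ⟨t, ht⟩ with ht'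
  set W := centralizer ({t'} : Set D.N0) with hW
  have hmap : W.map D.N0.subtype = D.N0 ⊓ centralizer ({t} : Set K) := by
    ext k
    constructor
    · rintro ⟨c, hc, rfl⟩
      exact ⟨c.2, mem_centralizer_singleton_iff.2
        (congrArg Subtype.val (mem_centralizer_singleton_iff.1 hc))⟩
    · rintro ⟨h1, h2⟩
      exact ⟨⟨k, h1⟩, mem_centralizer_singleton_iff.2 (Subtype.ext (mem_centralizer_singleton_iff.1 h2)), rfl⟩
  rw [← hmap, card_map_of_injective D.N0.subtype_injective]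
  have hne : D.q t' ≠ 1 := fun e => ht1 (congrArg Subtype.val
    (involution_unique D.central_ker D.ker_pow (by norm_num : Nat.Coprime 3 2)
      (a := t') (b := 1) (Subtype.ext htt) (one_mul 1) (by rw [e, map_one])))
  have ho : orderOf (D.q t') = 2 :=
    M22Order.orderOf_two_of_sq (by rw [← map_mul, show t' * t' = 1 from Subtype.ext htt, map_one]) hne
  have hle : W.map D.q ≤ centralizer ({D.q t'} : Set M) := by
    rintro _ ⟨c, hc, rfl⟩
    refine mem_centralizer_singleton_iff.2 ?_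
    rw [← map_mul, ← map_mul, mem_centralizer_singleton_iff.1 hc]
  have h1 : Nat.card (W.map D.q) ∣ 384 := by
    rw [← M22Order.cen_involution D.cardM ho]
    exact card_dvd_of_le hle
  have h2 : Nat.card (D.q.ker.subgroupOf W) ∣ 3 := by
    rw [← card_map_of_injective (subtype_injective W)]
    have := card_dvd_of_le (show (D.q.ker.subgroupOf W).map W.subtype ≤ D.q.ker by
      rintro _ ⟨c, hc, rfl⟩; exact hc)
    rwa [D.card_ker, mul_one] at this
  have h3 : Nat.card W = Nat.card (D.q.ker.subgroupOf W) * Nat.card (W.map D.q) := by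
    rw [← MonoidHom.domRestrict_range, ← index_ker, ← MonoidHom.ker_domRestrict, card_mul_index]
  rw [h3, show (1152 : ℕ) = 3 * 384 from rfl]
  exact Nat.mul_dvd_mul h2 h1

omit [Finite K] [Finite V] in
theorem xor_eq_zero_iff' {v w : ℕ} (h : v ^^^ w = 0) : v = w := by
  have := congrArg (· ^^^ w) h
  simpa [Nat.xor_assoc] using this

/-- **The local lemma.** -/
theorem cent_le {t w : K} (ht : t ∈ D.N0) (htt : t * t = 1) (ht1 : t ≠ 1) (hwt : Commute w t) :
    w ∈ D.N := by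
  classical
  haveI : Fact (Nat.Prime 3) := ⟨Nat.prime_three⟩
  suffices h : ∃ t', t' ∈ D.N0 ∧ t' * t' = 1 ∧ t' ≠ 1 ∧ ∀ w, Commute w t' → w ∈ D.N by
    obtain ⟨t', ht', htt', ht1', hall⟩ := h
    obtain ⟨c, hc, e⟩ := D.exists_involution_conj ht ht' htt htt' ht1 ht1'
    have : c * w * c⁻¹ ∈ D.N := hall _ (e ▸ hwt.map (MulAut.conj c).toMonoidHom)
    simpa [mul_assoc] using mul_mem (mul_mem (inv_mem (D.N0_le hc)) this) (D.N0_le hc)
  clear hwt ht1 htt ht w t
  obtain ⟨a, t, ha, ha3, haX, ht, htt, ht1, hta, h0, h1, h2⟩ := D.exists_frame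
  refine ⟨t, ht, htt, ht1, ?_⟩
  have htX : Commute t D.X := D.mem_N0.1 ht
  have haXc : Commute a D.X := D.mem_N0.1 ha
  -- a basis of the image of `delta t`
  obtain ⟨p, hp, hp0⟩ : ∃ p : V, (a * D.X ^ 2) • p = p ∧ delta t p ≠ 0 := by
    by_contra hh
    push Not at hh
    exact h2 fun v hv => D.delta_eq_zero.1 (hh v hv)
  obtain ⟨p', hp', hp0'⟩ : ∃ p : V, (a * D.X) • p = p ∧ delta t p ≠ 0 := by
    by_contra hh
    push Not at hh
    exact h1 fun v hv => D.delta_eq_zero.1 (hh v hv)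
  set a0 := delta t p with ha0
  set b0 := delta t p' with hb0
  have hda : ∀ k : K, Commute t k → ∀ v : V, k • delta t v = delta t (k • v) := fun k hk v => by
    rw [delta_apply, delta_apply, smul_add, ← mul_smul, ← hk.eq, mul_smul]
  have hfa : (a * D.X ^ 2) • a0 = a0 := by rw [ha0, hda _ (hta.mul_right (htX.pow_right 2)), hp]
  have hfb : (a * D.X) • b0 = b0 := by rw [hb0, hda _ (hta.mul_right htX), hp']
  have haa : a • a0 = D.X • a0 := by
    conv_rhs => rw [← hfa]
    rw [← mul_smul, ← mul_assoc, ← haXc.eq, mul_assoc, ← pow_succ', D.X3, mul_one]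
  have hab : a • b0 = D.X • (D.X • b0) := by
    conv_rhs => rw [← hfb]
    rw [← mul_smul, ← mul_smul, ← mul_assoc, ← (haXc.mul_right haXc).eq, mul_assoc, mul_assoc,
      ← pow_two, ← pow_succ', D.X3, mul_one]
  set φ := phi a0 (D.X • a0) b0 (D.X • b0) with hφ
  have hbase : φ 1 = a0 ∧ φ 2 = D.X • a0 ∧ φ 4 = b0 ∧ φ 8 = D.X • b0 := by
    simp [hφ, phi]
  obtain ⟨hb1, hb2, hb4, hb8⟩ := hbase
  have hinj : ∀ v < 16, φ v = 0 → v = 0 := by
    intro v hv h
    have hA : ∀ (q1 q2 : Prop) [Decidable q1] [Decidable q2] (e : V), e ≠ 0 →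
        (if q1 then e else 0) + (if q2 then D.X • e else 0) = 0 → ¬ q1 ∧ ¬ q2 := by
      intro q1 q2 _ _ e he hh
      by_cases g1 : q1 <;> by_cases g2 : q2 <;> simp [g1, g2, smul_eq_zero_iff_eq] at hh ⊢
      · exact he (D.fpf e (D.eq_of_add hh).symm)
      · exact he hh
      · exact he hh
    set uA := (if v &&& 1 = 1 then a0 else 0) + (if v &&& 2 = 2 then D.X • a0 else 0) with huA
    set uB := (if v &&& 4 = 4 then b0 else 0) + (if v &&& 8 = 8 then D.X • b0 else 0) with huB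
    have e : uA = uB := D.eq_of_add (by rw [huA, huB]; simpa [hφ, phi, add_assoc] using h)
    have hmA : uA ∈ fx (a * D.X ^ 2) := by
      refine add_mem ?_ ?_ <;> split
      exacts [hfa, zero_mem _, commute_smul ((haXc.symm.mul_right ((Commute.refl _).pow_right 2))) hfa, zero_mem _]
    have hmB : uB ∈ fx (a * D.X) := by
      refine add_mem ?_ ?_ <;> split
      exacts [hfb, zero_mem _, commute_smul (haXc.symm.mul_right (Commute.refl _)) hfb, zero_mem _]
    have hz : uB = 0 := D.fx_inter (a := a * D.X) 1 (Or.inl rfl) (mem_fx.1 hmB) (by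
      rw [pow_one, mul_assoc, ← pow_two]
      exact e ▸ hmA)
    obtain ⟨g1, g2⟩ := hA _ _ a0 hp0 (by rw [← huA, e, hz])
    obtain ⟨g4, g8⟩ := hA _ _ b0 hp0' (by rw [← huB, hz])
    exact eq_zero_of_bits v hv g1 g2 g4 g8
  set U := (delta (V := V) t).range with hU
  have hU16 : Nat.card U = 16 := by
    have := (delta (V := V) t).ker.card_mul_index
    rw [AddSubgroup.index_ker, show (delta (V := V) t).ker = fx t from
      AddSubgroup.ext fun v => D.delta_eq_zero, D.card_fx_inner ht htt ht1, D.cardV] at this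
    rw [hU]
    omega
  have hmemU : ∀ v, φ v ∈ U := fun v => by
    refine add_mem (add_mem (add_mem ?_ ?_) ?_) ?_ <;> split
    exacts [⟨p, rfl⟩, zero_mem _, ⟨D.X • p, (hda _ htX p).symm⟩, zero_mem _, ⟨p', rfl⟩, zero_mem _,
      ⟨D.X • p', (hda _ htX p').symm⟩, zero_mem _]
  have hφxor : ∀ {v w : ℕ}, v < 16 → w < 16 → φ (v ^^^ w) = φ v + φ w := fun hv hw =>
    phi_xor D.two hv hw
  have hφinj : ∀ v < 16, ∀ w < 16, φ v = φ w → v = w := fun v hv w hw h =>
    xor_eq_zero_iff' (hinj _ (Nat.xor_lt_two_pow (n := 4) hv hw) (by rw [hφxor hv hw, h, D.two]))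
  have hsurj : ∀ u ∈ U, ∃ v < 16, φ v = u := by
    intro u hu
    have hb : Function.Bijective fun v : Fin 16 => (⟨φ v, hmemU v⟩ : U) := by
      refine (Nat.bijective_iff_injective_and_card _).2 ⟨fun v w h => Fin.ext
        (hφinj v v.2 w w.2 (congrArg Subtype.val h)), ?_⟩
      rw [Nat.card_fin, hU16]
    obtain ⟨v, e⟩ := hb.2 ⟨u, hu⟩
    exact ⟨v, v.2, congrArg Subtype.val e⟩
  have hUinv : ∀ w, Commute w t → ∀ u ∈ U, w • u ∈ U := by
    rintro w hw _ ⟨x, rfl⟩
    exact ⟨w • x, (hda _ hw.symm x).symm⟩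
  -- codes
  let Cd : K → ℕ → Prop := fun w c => c < 65536 ∧ ∀ v, φ (app c v) = w • φ v
  have hCd : ∀ {w : K} {c : ℕ}, c < 65536 → φ (img c 0) = w • a0 → φ (img c 1) = w • (D.X • a0) →
      φ (img c 2) = w • b0 → φ (img c 3) = w • (D.X • b0) → Cd w c := fun {w c} hc e0 e1 e2 e3 =>
    ⟨hc, phi_app D.two (DistribSMul.toAddMonoidHom V w) e0 e1 e2 e3⟩
  have hCdU : ∀ {w : K} {c : ℕ}, Cd w c → φ (img c 0) = w • a0 ∧ φ (img c 1) = w • (D.X • a0) ∧
      φ (img c 2) = w • b0 ∧ φ (img c 3) = w • (D.X • b0) := fun {w c} h => by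
    refine ⟨?_, ?_, ?_, ?_⟩
    · rw [← hb1, ← h.2 1]; simp [app]
    · rw [← hb2, ← h.2 2]; simp [app]
    · rw [← hb4, ← h.2 4]; simp [app]
    · rw [← hb8, ← h.2 8]; simp [app]
  have hex : ∀ w, Commute w t → ∃ c, Cd w c := by
    intro w hw
    obtain ⟨i0, l0, e0⟩ := hsurj _ (hUinv w hw _ (hb1 ▸ hmemU 1))
    obtain ⟨i1, l1, e1⟩ := hsurj _ (hUinv w hw _ (hb2 ▸ hmemU 2))
    obtain ⟨i2, l2, e2⟩ := hsurj _ (hUinv w hw _ (hb4 ▸ hmemU 4))
    obtain ⟨i3, l3, e3⟩ := hsurj _ (hUinv w hw _ (hb8 ▸ hmemU 8))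
    obtain ⟨m0, m1, m2, m3⟩ := img_mk4 l0 l1 l2 l3
    exact ⟨_, hCd (mk4_lt l0 l1 l2 l3) (by rw [m0, e0]) (by rw [m1, e1]) (by rw [m2, e2]) (by rw [m3, e3])⟩
  have hcomp : ∀ {w w' : K} {c c' : ℕ}, Cd w c → Cd w' c' → Cd (w * w') (comp c c') := by
    intro w w' c c' h h'
    obtain ⟨m0, m1, m2, m3⟩ := img_mk4 (app_lt c (img c' 0)) (app_lt c (img c' 1)) (app_lt c (img c' 2))
      (app_lt c (img c' 3))
    obtain ⟨g0, g1, g2, g3⟩ := hCdU h'
    refine hCd (mk4_lt (app_lt _ _) (app_lt _ _) (app_lt _ _) (app_lt _ _)) ?_ ?_ ?_ ?_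
    · rw [comp, m0, h.2, g0, mul_smul]
    · rw [comp, m1, h.2, g1, mul_smul]
    · rw [comp, m2, h.2, g2, mul_smul]
    · rw [comp, m3, h.2, g3, mul_smul]
  have hCX : Cd D.X MX := by
    refine hCd (by norm_num [MX]) ?_ ?_ ?_ ?_
    · rw [show img MX 0 = 2 from rfl, hb2]
    · rw [show img MX 1 = 1 ^^^ 2 from rfl, hφxor (by norm_num) (by norm_num), hb1, hb2, D.X_rel', add_comm]
    · rw [show img MX 2 = 8 from rfl, hb8]
    · rw [show img MX 3 = 4 ^^^ 8 from rfl, hφxor (by norm_num) (by norm_num), hb4, hb8, D.X_rel', add_comm]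
  have hCA : Cd a MY := by
    refine hCd (by norm_num [MY]) ?_ ?_ ?_ ?_
    · rw [show img MY 0 = 2 from rfl, hb2, haa]
    · rw [show img MY 1 = 1 ^^^ 2 from rfl, hφxor (by norm_num) (by norm_num), hb1, hb2, ← mul_smul,
        haXc.eq, mul_smul, haa, D.X_rel', add_comm]
    · rw [show img MY 2 = 4 ^^^ 8 from rfl, hφxor (by norm_num) (by norm_num), hb4, hb8, hab, D.X_rel', add_comm]
    · rw [show img MY 3 = 4 from rfl, hb4, ← mul_smul, haXc.eq, mul_smul, hab, D.X_smul3]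
  have hsame : ∀ {w w' : K} {c : ℕ}, Cd w c → Cd w' c → ∀ u ∈ U, w • u = w' • u := by
    intro w w' c h h' u hu
    obtain ⟨v, -, rfl⟩ := hsurj u hu
    rw [← h.2, ← h'.2]
  have hcode : ∀ {w : K} {c c' : ℕ}, Cd w c → Cd w c' → c = c' := by
    intro w c c' h h'
    obtain ⟨g0, g1, g2, g3⟩ := hCdU h
    obtain ⟨g0', g1', g2', g3'⟩ := hCdU h'
    exact code_ext h.1 h'.1 (hφinj _ (img_lt _ _) _ (img_lt _ _) (g0.trans g0'.symm))
      (hφinj _ (img_lt _ _) _ (img_lt _ _) (g1.trans g1'.symm))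
      (hφinj _ (img_lt _ _) _ (img_lt _ _) (g2.trans g2'.symm))
      (hφinj _ (img_lt _ _) _ (img_lt _ _) (g3.trans g3'.symm))
  -- the pointwise stabilizer of `U`
  set W := centralizer ({t} : Set K) with hW
  have hmW : ∀ {w : K}, w ∈ W ↔ Commute w t := mem_centralizer_singleton_iff
  set U1 : Subgroup K := W ⊓ (⨅ u : U, MulAction.stabilizer K (u : V)) with hU1
  have hmU1 : ∀ {w : K}, w ∈ U1 ↔ Commute w t ∧ ∀ u ∈ U, w • u = u := by
    intro w
    rw [hU1, mem_inf, mem_iInf, hmW]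
    exact and_congr_right fun _ => ⟨fun h u hu => h ⟨u, hu⟩, fun h u => h u u.2⟩
  have hU1W : ∀ g ∈ W, ∀ u ∈ U1, g * u * g⁻¹ ∈ U1 := by
    intro g hg u hu
    refine hmU1.2 ⟨hmW.1 (mul_mem (mul_mem hg (hmW.2 (hmU1.1 hu).1)) (inv_mem hg)), fun x hx => ?_⟩
    rw [mul_smul, mul_smul, (hmU1.1 hu).2 _ (hUinv _ (hmW.1 hg).inv_left x hx), smul_inv_smul]
  have haW : a ∈ W := hmW.2 hta.symm
  have hXW : D.X ∈ W := hmW.2 htX.symm
  set A := closure ({D.X, a} : Set K) with hA
  have hArep : ∀ x ∈ A, ∃ i j : ℕ, x = D.X ^ i * a ^ j := by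
    intro x hx
    induction hx using closure_induction with
    | mem x hx => rcases hx with hx | hx
                  · exact ⟨1, 0, by rw [hx, pow_one, pow_zero, mul_one]⟩
                  · exact ⟨0, 1, by rw [Set.mem_singleton_iff.1 hx, pow_zero, pow_one, one_mul]⟩
    | one => exact ⟨0, 0, by simp⟩
    | mul x y hx hy ex ey =>
      obtain ⟨i, j, rfl⟩ := ex
      obtain ⟨k, l, rfl⟩ := ey
      exact ⟨i + k, j + l, by rw [pow_add, pow_add, mul_assoc, ← mul_assoc (a ^ j),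
        ((haXc.pow_left j).pow_right k).eq]; simp [mul_assoc]⟩
    | inv x hx ex =>
      obtain ⟨i, j, rfl⟩ := ex
      refine ⟨2 * i, 2 * j, inv_eq_of_mul_eq_one_right ?_⟩
      have hc : Commute (D.X ^ i) (a ^ j) := (haXc.symm.pow_left i).pow_right j
      rw [pow_mul', pow_mul', ← hc.mul_pow, ← pow_succ', hc.mul_pow, ← pow_mul, ← pow_mul,
        mul_comm i, mul_comm j, pow_mul, pow_mul, D.X3, ha3, one_pow, one_pow, one_mul]
  have hU13 : ¬ 3 ∣ Nat.card U1 := by
    intro h3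
    obtain ⟨u, hu⟩ := exists_prime_orderOf_dvd_card' (G := U1) 3 h3
    have huW : (u : K) ∈ W := (inf_le_left : U1 ≤ W) u.2
    have hAp : IsPGroup 3 (A.subgroupOf W) := fun x => by
      obtain ⟨i, j, e⟩ := hArep _ x.2
      refine ⟨1, Subtype.ext (Subtype.ext ?_)⟩
      show ((x : W) : K) ^ 3 ^ 1 = 1
      change ((x : W) : K) = _ at e
      rw [e, pow_one, ((haXc.symm.pow_left i).pow_right j).mul_pow, ← pow_mul, ← pow_mul,
        mul_comm i, mul_comm j, pow_mul, pow_mul, D.X3, ha3, one_pow, one_pow, one_mul]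
    obtain ⟨R, hR⟩ := hAp.exists_le_sylow
    have hRA : (R : Subgroup W) = A.subgroupOf W := by
      by_contra hne
      have hlt : A.subgroupOf W < R := lt_of_le_of_ne hR (Ne.symm hne)
      haveI : Group.IsNilpotent R := R.2.isNilpotent
      have hlt' : (A.subgroupOf W).subgroupOf R < ⊤ := by
        rw [lt_top_iff_ne_top, Ne, subgroupOf_eq_top]
        exact not_le_of_gt hlt
      obtain ⟨s, hsN, hsA⟩ := SetLike.exists_of_lt (Group.normalizerCondition_of_isNilpotent _ hlt')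
      have hXs : ((s : W) : K) * D.X * ((s : W) : K)⁻¹ ∈ A := by
        have hX' : (⟨⟨D.X, hXW⟩, hR (show (⟨D.X, hXW⟩ : W) ∈ A.subgroupOf W from
          subset_closure (Or.inl rfl))⟩ : R) ∈ (A.subgroupOf W).subgroupOf R := subset_closure (Or.inl rfl)
        exact (mem_normalizer_iff.1 hsN _).1 hX'
      have hAN : A ≤ D.N0 := by
        rw [hA, closure_le]
        rintro x (hx | hx)
        · rw [hx]; exact D.X_mem
        · rw [Set.mem_singleton_iff.1 hx]; exact ha
      obtain ⟨k, hk⟩ := R.2 s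
      have hsN0 : ((s : W) : K) ∈ D.N0 := D.mem_N0_of_pow_three (D.weak (hAN hXs)) (k := k)
        (congrArg (fun z : R => ((z : W) : K)) hk)
      set B := (R : Subgroup W).map W.subtype ⊓ D.N0 with hB
      have hB3 : IsPGroup 3 B := (R.2.map W.subtype).to_le inf_le_left
      obtain ⟨n, hn⟩ := hB3.exists_card_eq
      have hBd : Nat.card B ∣ 1152 := (card_dvd_of_le (show B ≤ D.N0 ⊓ W from
        le_inf inf_le_right (inf_le_left.trans (map_subtype_le _)))).trans (D.card_centralizer_dvd ht htt ht1)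
      have hAB : A ≤ B := le_inf (fun x hx => ⟨⟨x, (closure_le W).2 (by
          rintro y (hy | hy)
          · rw [hy]; exact hXW
          · rw [Set.mem_singleton_iff.1 hy]; exact haW) hx⟩, hR hx, rfl⟩) hAN
      have hA9 : 9 ∣ Nat.card A := by
        obtain ⟨m, hm⟩ := (hB3.to_le hAB).exists_card_eq
        rw [hm]
        rcases m with _ | _ | m
        · rw [pow_zero, card_eq_one] at hm
          exact absurd (mem_bot.1 (hm ▸ subset_closure (Or.inl rfl) : D.X ∈ (⊥ : Subgroup K)))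
            (fun e => by simpa [e] using D.orderX)
        · exfalso
          refine haX ?_
          rw [eq_of_le_of_card_ge (zpowers_le.2 (subset_closure (Or.inl rfl) : D.X ∈ A))
            (by rw [Nat.card_zpowers, D.orderX, hm]; norm_num)]
          exact subset_closure (Or.inr rfl)
        · exact Dvd.dvd.trans (by norm_num) (pow_dvd_pow 3 (show 2 ≤ m + 2 by omega))
      have hlt2 : Nat.card A < Nat.card B := by
        by_contra hle
        refine hsA ?_
        have hsB : ((s : W) : K) ∈ B := ⟨⟨s, s.2, rfl⟩, hsN0⟩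
        rw [← eq_of_le_of_card_ge hAB (not_lt.1 hle)] at hsB
        exact hsB
      have hd3 : 3 ^ n ∣ 3 ^ 2 := (Nat.Coprime.pow_left n (by norm_num : Nat.Coprime 3 128)).dvd_of_dvd_mul_right
        (show 3 ^ n ∣ 3 ^ 2 * 128 from hn ▸ hBd)
      have := Nat.le_of_dvd (by norm_num) hd3
      have := Nat.le_of_dvd Nat.card_pos hA9
      omega
    have hu3 : IsPGroup 3 (zpowers (⟨u, huW⟩ : W)) := IsPGroup.of_card (n := 1) (by
      rw [Nat.card_zpowers, pow_one, Subgroup.orderOf_mk, Subgroup.orderOf_coe, hu])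
    obtain ⟨R', hR'⟩ := hu3.exists_le_sylow
    obtain ⟨g, hg⟩ := MulAction.exists_smul_eq W R' R
    have hgu : g * ⟨u, huW⟩ * g⁻¹ ∈ (R : Subgroup W) := by
      rw [← hg, Sylow.coe_subgroup_smul]
      exact smul_mem_pointwise_smul _ _ _ (hR' (mem_zpowers _))
    rw [hRA, mem_subgroupOf] at hgu
    simp only [coe_mul, coe_inv] at hgu
    obtain ⟨i, j, e⟩ := hArep _ hgu
    have hv := hU1W g g.2 u u.2
    have hp : ∀ (n : ℕ) (x : V), D.X ^ n • x = D.X ^ (n % 3) • x := fun n x => by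
      rw [← pow_mod_orderOf, D.orderX]
    have hpowa : ∀ (n : ℕ), a ^ n • a0 = D.X ^ n • a0 ∧ a ^ n • b0 = D.X ^ (2 * n) • b0 := by
      intro n
      induction n with
      | zero => simp
      | succ n ih =>
        constructor
        · rw [pow_succ', mul_smul, ih.1, ← mul_smul, (haXc.pow_right n).eq, mul_smul, haa, ← mul_smul,
            ← pow_succ]
        · rw [pow_succ', mul_smul, ih.2, ← mul_smul, (haXc.pow_right (2 * n)).eq, mul_smul, hab,
            ← mul_smul, ← mul_smul, ← pow_succ, ← pow_succ]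
          rfl
    have hA0 := (hmU1.1 hv).2 a0 (hb1 ▸ hmemU 1)
    have hB0 := (hmU1.1 hv).2 b0 (hb4 ▸ hmemU 4)
    rw [e, mul_smul, (hpowa j).1, ← mul_smul, ← pow_add, hp] at hA0
    rw [e, mul_smul, (hpowa j).2, ← mul_smul, ← pow_add, hp] at hB0
    have hX2 : ∀ x : V, x ≠ 0 → ∀ r < 3, D.X ^ r • x = x → r = 0 := by
      intro x hx r hr hh
      interval_cases r
      · rfl
      · exact absurd (D.fpf x (by rwa [pow_one] at hh)) hx
      · exfalso
        refine hx (D.fpf x ?_)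
        rw [pow_two, mul_smul] at hh
        conv_lhs => rw [← hh]
        exact D.X_smul3 x
    have r1 := hX2 a0 hp0 _ (Nat.mod_lt _ (by norm_num)) hA0
    have r2 := hX2 b0 hp0' _ (Nat.mod_lt _ (by norm_num)) hB0
    have hone : D.X ^ i * a ^ j = 1 := by
      rw [← Nat.div_add_mod i 3, ← Nat.div_add_mod j 3, pow_add, pow_add, pow_mul, pow_mul, D.X3, ha3,
        one_pow, one_pow, show i % 3 = 0 by omega, show j % 3 = 0 by omega, pow_zero, pow_zero]
      simp
    rw [← e, conj_eq_one_iff] at hone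
    rw [← Subgroup.orderOf_coe, hone, orderOf_one] at hu
    norm_num at hu
  have hU1N : U1 ≤ D.N0 := D.signalizer ha ha3 haX U1 hU13
    (mem_normalizer_iff.2 fun x => ⟨hU1W _ hXW x, fun h => by
      simpa [mul_assoc] using hU1W _ (inv_mem hXW) _ h⟩)
    (mem_normalizer_iff.2 fun x => ⟨hU1W _ haW x, fun h => by
      simpa [mul_assoc] using hU1W _ (inv_mem haW) _ h⟩)
  have hdiff : ∀ {g g' : K}, Commute g t → Commute g' t → (∀ u ∈ U, g • u = g' • u) → g * g'⁻¹ ∈ U1 := by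
    intro g g' hg hg' h
    refine hmU1.2 ⟨hg.mul_left hg'.inv_left, fun u hu => ?_⟩
    rw [mul_smul, h _ (hUinv _ hg'.inv_left u hu), smul_inv_smul]
  -- conjugates of `X`
  have hconjt : ∀ w, Commute w t → Commute (w * D.X * w⁻¹) t := fun w hw =>
    (hw.mul_left htX.symm).mul_left hw.inv_left
  have hXc : ∀ w, Commute w t → (∀ u ∈ U, (w * D.X * w⁻¹) • (D.X • u) = D.X • ((w * D.X * w⁻¹) • u)) →
      w * D.X * w⁻¹ ∈ zpowers D.X := by
    intro w hw h
    set k := w * D.X * w⁻¹ with hk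
    have hmem : k * D.X * k⁻¹ * D.X⁻¹ ∈ U1 := by
      refine hdiff ((((hconjt w hw).mul_left htX.symm)).mul_left (hconjt w hw).inv_left) htX.symm fun u hu => ?_
      rw [mul_smul, mul_smul, h _ (hUinv _ (hconjt w hw).inv_left u hu), smul_inv_smul]
    have hcX : Commute (k * D.X * k⁻¹ * D.X⁻¹) D.X := D.mem_N0.1 (hU1N hmem)
    set d := k * D.X * k⁻¹ * D.X⁻¹ with hd
    have hd3 : d ^ 3 = 1 := by
      have e : (d * D.X) ^ 3 = 1 := by
        rw [hd, inv_mul_cancel_right, conj_pow, D.X3, mul_one, mul_inv_cancel]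
      rwa [hcX.mul_pow, D.X3, mul_one] at e
    have hd1 : d = 1 := by
      by_contra hne
      refine hU13 ?_
      rw [← orderOf_eq_prime hd3 hne]
      exact Subgroup.orderOf_dvd_natCard U1 hmem
    rw [hd] at hd1
    have hkN0 : k ∈ D.N0 := D.mem_N0.2 (commutatorElement_eq_one_iff_commute.1 hd1)
    exact D.conj_mem_iff.1 (D.weak hkN0)
  have hAc : ∀ w, Commute w t → (∀ u ∈ U, (w * D.X * w⁻¹) • (a • u) = a • ((w * D.X * w⁻¹) • u)) →
      w * D.X * w⁻¹ ∈ zpowers D.X := by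
    intro w hw h
    set k := w * D.X * w⁻¹ with hk
    have hmem : k * a * k⁻¹ * a⁻¹ ∈ U1 := by
      refine hdiff ((((hconjt w hw).mul_left hta.symm)).mul_left (hconjt w hw).inv_left) hta.symm fun u hu => ?_
      rw [mul_smul, mul_smul, h _ (hUinv _ (hconjt w hw).inv_left u hu), smul_inv_smul]
    obtain ⟨u, hu, hue⟩ := exists_conj_of_coset U1 ha3 (by rw [conj_pow, ha3, mul_one, mul_inv_cancel])
      (hU1W a haW) hmem hU13
    have hN : u⁻¹ * k ∈ D.N := D.cent_three ha ha3 haX (by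
      show u⁻¹ * k * a = a * (u⁻¹ * k)
      conv_rhs => rw [← hue]
      group)
    have hkN : k ∈ D.N := by simpa using mul_mem (D.N0_le (hU1N hu)) hN
    exact D.conj_mem_iff.1 (D.weak (D.mem_N0_of_three hkN (by rw [conj_pow, D.X3, mul_one, mul_inv_cancel])))
  -- bad codes do not occur
  have hbad : ∀ w, Commute w t → ∀ d, Cd (w * D.X * w⁻¹) d → bad d = false := by
    intro w hw d hd
    by_contra hb
    rw [Bool.not_eq_false] at hb
    simp only [bad, Bool.and_eq_true, Bool.or_eq_true, Bool.not_eq_true'] at hb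
    obtain ⟨⟨n1, n2⟩, hor⟩ := hb
    have hmem : w * D.X * w⁻¹ ∈ zpowers D.X := by
      rcases hor with e | e
      · refine hXc w hw fun u hu => ?_
        rw [← mul_smul, ← mul_smul]
        exact hsame (hcomp hd hCX) ((Nat.eq_of_beq_eq_true e).symm ▸ hcomp hCX hd) u hu
      · refine hAc w hw fun u hu => ?_
        rw [← mul_smul, ← mul_smul]
        exact hsame (hcomp hd hCA) ((Nat.eq_of_beq_eq_true e).symm ▸ hcomp hCA hd) u hu
    rcases D.N_cases (D.conj_mem_iff.2 hmem) with e | e <;> rw [e] at hd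
    · rw [hcode hd hCX] at n1
      simp at n1
    · have e2 : D.X⁻¹ = D.X * D.X := inv_eq_of_mul_eq_one_right (by rw [← mul_assoc, ← pow_three', D.X3])
      rw [e2] at hd
      rw [hcode hd (hcomp hCX hCX)] at n2
      simp at n2
  intro w hw
  rw [D.conj_mem_iff]
  set k := w * D.X * w⁻¹ with hk
  obtain ⟨c, hc⟩ := hex k (hconjt w hw)
  have hk2 : k⁻¹ = k * k := inv_eq_of_mul_eq_one_right (by
    rw [hk, show w * D.X * w⁻¹ * (w * D.X * w⁻¹ * (w * D.X * w⁻¹)) = w * D.X ^ 3 * w⁻¹ by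
      simp [pow_succ, mul_assoc], D.X3, mul_one, mul_inv_cancel])
  have hA2 : a⁻¹ = a * a := inv_eq_of_mul_eq_one_right (by rw [← mul_assoc, ← pow_three', ha3])
  have hrel : ∀ v < 16, rel c v = true := by
    intro v hv
    suffices h : app c (app c v) ^^^ app c v ^^^ v = 0 by
      rw [rel, h]
      rfl
    refine hinj _ (Nat.xor_lt_two_pow (n := 4) (Nat.xor_lt_two_pow (n := 4) (app_lt _ _) (app_lt _ _)) hv) ?_
    rw [hφxor (Nat.xor_lt_two_pow (n := 4) (app_lt _ _) (app_lt _ _)) hv, hφxor (app_lt _ _) (app_lt _ _),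
      hc.2, hc.2]
    have h := congrArg (w • ·) (D.X_rel (w⁻¹ • φ v))
    simp only [smul_add, smul_inv_smul, smul_zero] at h
    simpa [hk, mul_smul] using h
  -- conjugates by words
  have hwk : ∀ g, Commute g t → ∀ e, Cd g e → ∀ g', Cd g' (comp e e) → g' = g⁻¹ →
      ∀ h d, Cd (h * D.X * h⁻¹) d → Cd (g * h * D.X * (g * h)⁻¹) (conj3 e d) := by
    intro g _ e he g' he' hg' h d hd
    subst hg'
    have := hcomp (hcomp he hd) he'
    rwa [show g * (h * D.X * h⁻¹) * g⁻¹ = g * h * D.X * (g * h)⁻¹ by group] at this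
  have hK : ∀ h d, Cd (h * D.X * h⁻¹) d → Cd (k * h * D.X * (k * h)⁻¹) (conj3 c d) :=
    hwk k (hconjt w hw) c hc _ (hcomp hc hc) hk2.symm
  have hK2 : ∀ h d, Cd (h * D.X * h⁻¹) d → Cd (k * k * h * D.X * (k * k * h)⁻¹) (conj3 (comp c c) d) := by
    refine hwk (k * k) ((hconjt w hw).mul_left (hconjt w hw)) _ (hcomp hc hc) _
      (hcomp (hcomp hc hc) (hcomp hc hc)) ?_
    rw [← hk2, ← mul_inv_rev, ← hk2, inv_inv]
  have hY : ∀ h d, Cd (h * D.X * h⁻¹) d → Cd (a * h * D.X * (a * h)⁻¹) (conj3 MY d) :=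
    hwk a hta.symm MY hCA _ (hcomp hCA hCA) hA2.symm
  have hX0 : Cd ((1 : K) * D.X * 1⁻¹) MX := by simpa using hCX
  have hkt : Commute k t := hconjt w hw
  have hcc : c = MX ∨ c = comp MX MX := by
    have hchk := chk_all (c % 256) (Nat.mod_lt _ (by norm_num)) (c / 256) (by
      have := hc.1
      omega)
    rw [Nat.mod_add_div] at hchk
    have p1 := hY _ _ hc
    simp only [chk, hrel 1 (by norm_num), hrel 2 (by norm_num), hrel 4 (by norm_num),
      hrel 8 (by norm_num), hbad w hw c hc,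
      hbad _ (hkt.mul_left (Commute.one_left t)) _ (hK _ _ hX0),
      hbad _ ((hkt.mul_left hkt).mul_left (Commute.one_left t)) _ (hK2 _ _ hX0),
      hbad _ (hkt.mul_left (hta.symm.mul_left hw)) _ (hK _ _ p1),
      hbad _ ((hkt.mul_left hkt).mul_left (hta.symm.mul_left hw)) _ (hK2 _ _ p1),
      hbad _ (hkt.mul_left (hta.symm.mul_left (hkt.mul_left (hta.symm.mul_left hw)))) _
        (hK _ _ (hY _ _ (hK _ _ p1))),
      Bool.and_self, Bool.not_true, Bool.false_or, Bool.or_false, Bool.or_eq_true] at hchk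
    exact hchk.imp Nat.eq_of_beq_eq_true Nat.eq_of_beq_eq_true
  refine hXc w hw fun u hu => ?_
  rcases hcc with e | e <;> subst e
  · rw [hsame hc hCX _ (hUinv _ htX.symm u hu), hsame hc hCX u hu]
  · rw [hsame hc (hcomp hCX hCX) _ (hUinv _ htX.symm u hu), hsame hc (hcomp hCX hCX) u hu, ← mul_smul,
      ← mul_smul, mul_assoc]

end CoreHyp

end Cfsg.Agent.J4ThreeLocal
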