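import Cfsg.Agent.Lib.J4Local.M22Facts

/-!
# Central covers of M22 with kernel of order three or six

Elements of order three outside the kernel of a perfect cover form one class; elements of order prime
to three commuting with such an element modulo the kernel commute with it.
-/

set_option autoImplicit false
set_option linter.style.haveILetI false
set_option linter.unusedSectionVars false

namespace Cfsg.Agent.J4ThreeLocal

open Subgroup
open scoped commutatorElement

universe u v

/-- A fixed point of a coset under a twisted action: elements of order dividing three in one coset of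
a subgroup of order prime to three are conjugate by it. -/
theorem exists_conj_of_coset {K : Type u} [Group K] [Finite K] (U : Subgroup K) {a b : K}
    (ha : a ^ 3 = 1) (hb : b ^ 3 = 1) (hn : ∀ u ∈ U, a * u * a⁻¹ ∈ U) (hab : b * a⁻¹ ∈ U)
    (h3 : ¬ 3 ∣ Nat.card U) : ∃ u ∈ U, u⁻¹ * b * u = a := by
  classical
  haveI : Fintype U := Fintype.ofFinite U
  let f : U → U := fun u => ⟨b * u * a⁻¹, by
    have := mul_mem hab (hn u u.2)
    rwa [show b * a⁻¹ * (a * (u : K) * a⁻¹) = b * u * a⁻¹ by group] at this⟩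
  have hinj : Function.Injective f := fun x y h => Subtype.ext (by simpa [f] using congrArg Subtype.val h)
  set σ : Equiv.Perm U := Equiv.ofBijective f (Finite.injective_iff_bijective.1 hinj) with hσ
  have hp : σ ^ 3 ^ 1 = 1 := by
    refine Equiv.ext fun x => Subtype.ext ?_
    show (σ (σ (σ x)) : K) = x
    show b * (b * (b * (x : K) * a⁻¹) * a⁻¹) * a⁻¹ = x
    calc b * (b * (b * (x : K) * a⁻¹) * a⁻¹) * a⁻¹ = b ^ 3 * x * (a ^ 3)⁻¹ := by
          simp [pow_succ, mul_assoc]
      _ = x := by rw [ha, hb, inv_one, mul_one, one_mul]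
  haveI : Fact (Nat.Prime 3) := ⟨Nat.prime_three⟩
  obtain ⟨u, hu⟩ := Equiv.Perm.exists_fixed_point_of_prime
    (by rwa [← Nat.card_eq_fintype_card]) hp
  refine ⟨u, u.2, ?_⟩
  have e : b * (u : K) * a⁻¹ = u := congrArg Subtype.val hu
  calc (u : K)⁻¹ * b * u = (u : K)⁻¹ * (b * u * a⁻¹) * a := by group
    _ = a := by rw [e, inv_mul_cancel, one_mul]

section cover

variable {Γ : Type u} [Group Γ] {M : Type v} [Group M] (q : Γ →* M)

/-- The kernel is central. -/
def CentralKer : Prop := ∀ k : Γ, q k = 1 → ∀ g : Γ, Commute g k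

variable {q}

/-- The commutator with an element modulo the kernel is multiplicative in powers. -/
theorem conj_pow_of_ker (hc : CentralKer q) {n r ζ : Γ} (hζ : q ζ = 1)
    (h : n * r * n⁻¹ = r * ζ) : ∀ m : ℕ, n ^ m * r * (n ^ m)⁻¹ = r * ζ ^ m
  | 0 => by simp
  | m + 1 => by
    have e : n * ζ ^ m * n⁻¹ = ζ ^ m := by
      rw [((hc ζ hζ n).pow_right m).eq, mul_inv_cancel_right]
    calc n ^ (m + 1) * r * (n ^ (m + 1))⁻¹ = n * (n ^ m * r * (n ^ m)⁻¹) * n⁻¹ := by
          rw [pow_succ']; group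
      _ = n * (r * ζ ^ m) * n⁻¹ := by rw [conj_pow_of_ker hc hζ h m]
      _ = n * r * n⁻¹ * (n * ζ ^ m * n⁻¹) := by group
      _ = r * ζ ^ (m + 1) := by rw [h, e, mul_assoc, ← pow_succ']

/-- An element of order prime to three commuting modulo the kernel with an element of order three
commutes with it. -/
theorem commute_of_image (hc : CentralKer q) {n r : Γ} (hr : r ^ 3 = 1) {m : ℕ}
    (hm : Nat.Coprime m 3) (hn : q n ^ m = 1) (h : Commute (q n) (q r)) : Commute n r := by
  set ζ := r⁻¹ * (n * r * n⁻¹) with hζdef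
  have hζ : q ζ = 1 := by
    rw [hζdef, map_mul, map_mul, map_mul, map_inv, map_inv, h.eq, mul_inv_cancel_right, inv_mul_cancel]
  have he : n * r * n⁻¹ = r * ζ := by rw [hζdef, mul_inv_cancel_left]
  have h3 : ζ ^ 3 = 1 := by
    have e := congrArg (· ^ 3) he
    simp only [conj_pow, hr, mul_one, mul_inv_cancel, (hc ζ hζ r).mul_pow, one_mul] at e
    exact e.symm
  have hm1 : ζ ^ m = 1 := by
    have e := conj_pow_of_ker hc hζ he m
    have hcm : Commute r (n ^ m) := hc _ (by rw [map_pow, hn]) r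
    rw [← hcm.eq, mul_inv_cancel_right] at e
    exact (left_eq_mul.1 e)
  have hζ1 : ζ = 1 := by
    have := (pow_gcd_eq_one (m := 3) (n := m) (a := ζ)).2 ⟨h3, hm1⟩
    rwa [show Nat.gcd 3 m = 1 from (Nat.coprime_comm.1 hm), pow_one] at this
  rw [hζ1, mul_one] at he
  exact mul_inv_eq_iff_eq_mul.1 he

/-- A cover by an odd central kernel lifts an involution uniquely. -/
theorem involution_unique (hc : CentralKer q) {k : ℕ} (hk : ∀ ζ : Γ, q ζ = 1 → ζ ^ k = 1)
    (hodd : Nat.Coprime k 2) {a b : Γ} (ha : a * a = 1) (hb : b * b = 1) (h : q a = q b) : a = b := by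
  have hζ : q (a⁻¹ * b) = 1 := by rw [map_mul, map_inv, h, inv_mul_cancel]
  have hab : Commute a (a⁻¹ * b) := hc _ hζ a
  have h2 : (a⁻¹ * b) ^ 2 = 1 := by
    have e : (a * (a⁻¹ * b)) ^ 2 = a ^ 2 * (a⁻¹ * b) ^ 2 := hab.mul_pow 2
    rwa [mul_inv_cancel_left, pow_two b, hb, pow_two a, ha, one_mul, eq_comm] at e
  have := (pow_gcd_eq_one (m := k) (n := 2) (a := a⁻¹ * b)).2 ⟨hk _ hζ, h2⟩
  rw [show Nat.gcd k 2 = 1 from hodd, pow_one] at this
  exact inv_mul_eq_one.1 this

/-- Every involution of the quotient lifts to an involution when the kernel is odd. -/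
theorem exists_involution_lift (hq : Function.Surjective q) {k : ℕ}
    (hk : ∀ ζ : Γ, q ζ = 1 → ζ ^ k = 1) (hodd : Nat.Coprime k 2) {t : M} (ht : t * t = 1) :
    ∃ a : Γ, a * a = 1 ∧ q a = t := by
  obtain ⟨a, rfl⟩ := hq t
  have hodd' : Odd k := Nat.Coprime.odd_of_right hodd
  obtain ⟨j, hj⟩ := hodd'
  refine ⟨a ^ k, ?_, ?_⟩
  · rw [← pow_add, ← two_mul, pow_mul]
    refine hk _ ?_
    rw [map_pow, pow_two, ht]
  · rw [map_pow, hj, pow_succ, pow_mul, pow_two, ht, one_pow, one_mul]

end cover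

section m22

variable {Γ : Type u} [Group Γ] [Finite Γ] {M : Type v} [Group M] [Finite M] [IsSimpleGroup M]
  (hM : Nat.card M = 443520) {q : Γ →* M} (hq : Function.Surjective q) (hc : CentralKer q)
  (hperf : ⁅(⊤ : Subgroup Γ), (⊤ : Subgroup Γ)⁆ = ⊤) {ζ₀ : Γ} (hζ₀ : q ζ₀ = 1) (ho : orderOf ζ₀ = 3)
  {d : ℕ} (hker : Nat.card q.ker = 3 * d) (hd : Nat.Coprime d 3)

include hM hq hker hd in
/-- The order of the cover has 3-part 27. -/
theorem card_cover : Nat.card Γ = 27 * (49280 * d) := by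
  have := q.ker.card_mul_index
  rw [index_ker, MonoidHom.range_eq_top.2 hq, Subgroup.card_top, hM, hker] at this
  omega

include hζ₀ ho hker hd hc in
/-- The elements of order three of the kernel are the powers of `ζ₀`. -/
theorem mem_zpowers_of_ker {ζ : Γ} (hζ : q ζ = 1) (h3 : ζ ^ 3 = 1) : ζ ∈ zpowers ζ₀ := by
  set Z := (zpowers ζ₀).subgroupOf q.ker with hZ
  haveI : Z.Normal := ⟨fun a ha g => by
    have : g * a * g⁻¹ = a := Subtype.ext (by
      rw [coe_mul, coe_mul, (hc (a : Γ) a.2 g).eq, coe_inv, mul_inv_cancel_right])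
    rwa [this]⟩
  have hcZ : Nat.card Z = 3 := by
    rw [hZ, Nat.card_congr (subgroupOfEquivOfLe (zpowers_le.2 (show ζ₀ ∈ q.ker from hζ₀))).toEquiv,
      Nat.card_zpowers, ho]
  have hi : Z.index = d := by
    have := Z.card_mul_index
    rw [hcZ, hker] at this
    omega
  have h := Z.pow_index_mem ⟨ζ, hζ⟩
  rw [hi, hZ, mem_subgroupOf] at h
  obtain ⟨a, ha⟩ := exists_pow_eq_self_of_coprime (x := ζ) (n := d)
    (Nat.Coprime.coprime_dvd_right (orderOf_dvd_of_pow_eq_one h3) hd)
  rw [← ha]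
  exact pow_mem h a

omit [Finite M] [IsSimpleGroup M] in
include hc in
/-- A perfect group with an abelian Sylow 3-subgroup has no central element of order three in it. -/
theorem false_of_abelian (hperf : ⁅(⊤ : Subgroup Γ), (⊤ : Subgroup Γ)⁆ = ⊤) {ζ : Γ} (hζ : q ζ = 1)
    (hζo : orderOf ζ = 3) (S : Subgroup Γ) (_hmem : ζ ∈ S) (habel : ∀ a ∈ S, ∀ b ∈ S, Commute a b)
    (hidx : Nat.Coprime S.index 3) : False := by
  letI : CommGroup S := { (inferInstance : Group S) with
    mul_comm := fun a b => Subtype.ext (habel a a.2 b b.2).eq }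
  set f : Γ →* S := MonoidHom.transfer (MonoidHom.id S) with hf
  have htriv : ∀ g : Γ, f g = 1 := by
    intro g
    have hle : (⊤ : Subgroup Γ) ≤ f.ker := by
      rw [← hperf]
      exact commutator_le.2 fun a _ b _ => by
        rw [MonoidHom.mem_ker, map_commutatorElement]
        exact commutatorElement_eq_one_iff_commute.2 (Commute.all _ _)
    exact hle (mem_top g)
  have h := MonoidHom.transfer_eq_pow (MonoidHom.id S) ζ fun k g₀ h => by
    rw [((hc ζ hζ g₀⁻¹).pow_right k).eq, inv_mul_cancel_right]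
  rw [← hf, htriv ζ] at h
  have h1 : ζ ^ S.index = 1 := (congrArg Subtype.val h).symm
  have := Nat.eq_one_of_dvd_coprimes hidx (orderOf_dvd_of_pow_eq_one h1) (dvd_of_eq hζo)
  omega

include hM hq hc hperf hζ₀ ho hker hd in
/-- An element of order three outside the kernel is moved by any amount inside the kernel. -/
theorem exists_shift {r : Γ} (hr : r ^ 3 = 1) (hr1 : q r ≠ 1) (i : ℕ) :
    ∃ s : Γ, s * r * s⁻¹ = r * ζ₀ ^ i := by
  classical
  haveI : Fact (Nat.Prime 3) := ⟨Nat.prime_three⟩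
  have hro : orderOf (q r) = 3 := orderOf_eq_prime (by rw [← map_pow, hr, map_one]) hr1
  have hrpow : IsPGroup 3 (zpowers (q r)) :=
    IsPGroup.of_card (n := 1) (by rw [Nat.card_zpowers, hro, pow_one])
  obtain ⟨P, hP⟩ := hrpow.exists_le_sylow
  have hrP : q r ∈ (P : Subgroup M) := hP (mem_zpowers _)
  suffices h : ∃ s : Γ, q s ∈ (P : Subgroup M) ∧ ¬ Commute s r by
    obtain ⟨s, hsP, hsr⟩ := h
    set ξ := r⁻¹ * (s * r * s⁻¹) with hξ
    have hξ1 : q ξ = 1 := by
      rw [hξ, map_mul, map_mul, map_mul, map_inv, map_inv,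
        (J4Local.three_commute hM P hsP hrP).eq, mul_inv_cancel_right, inv_mul_cancel]
    have he : s * r * s⁻¹ = r * ξ := by rw [hξ, mul_inv_cancel_left]
    have hξ3 : ξ ^ 3 = 1 := by
      have e := congrArg (· ^ 3) he
      simp only [conj_pow, hr, mul_one, mul_inv_cancel, (hc ξ hξ1 r).mul_pow, one_mul] at e
      exact e.symm
    obtain ⟨j, hj⟩ := mem_zpowers_iff.1 (mem_zpowers_of_ker hc hζ₀ ho hker hd hξ1 hξ3)
    have hξne : ξ ≠ 1 := fun e => hsr (mul_inv_eq_iff_eq_mul.1 (by rw [he, e, mul_one]))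
    have hξo : orderOf ξ = 3 := orderOf_eq_prime hξ3 hξne
    have hmem : ζ₀ ∈ zpowers ξ := by
      have hle : zpowers ξ ≤ zpowers ζ₀ := zpowers_le.2 (mem_zpowers_iff.2 ⟨j, hj⟩)
      rw [eq_of_le_of_card_ge hle (by rw [Nat.card_zpowers, Nat.card_zpowers, hξo, ho])]
      exact mem_zpowers ζ₀
    obtain ⟨k, hk⟩ : ∃ k : ℕ, ξ ^ k = ζ₀ := by
      rw [← mem_powers_iff_mem_zpowers] at hmem
      exact hmem
    refine ⟨s ^ (k * i), ?_⟩
    rw [conj_pow_of_ker hc hξ1 he, pow_mul, hk]
  by_contra hno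
  push Not at hno
  obtain ⟨t, htP, htr⟩ : ∃ t, q t ∈ (P : Subgroup M) ∧ q t ∉ zpowers (q r) := by
    by_contra hh
    push Not at hh
    have hle : (P : Subgroup M) ≤ zpowers (q r) := fun m hm => by
      obtain ⟨g, rfl⟩ := hq m
      exact hh g hm
    have := Subgroup.card_le_of_le hle
    rw [J4Local.three_card hM P, Nat.card_zpowers, hro] at this
    omega
  set gen : Set Γ := ({r, t} : Set Γ) ∪ (q.ker : Set Γ) with hgen
  set Y := (P : Subgroup M).comap q with hY
  have hYle : Y ≤ closure gen := by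
    intro g hg
    have hW : (P : Subgroup M) ≤ (closure gen).map q := by
      set W := (closure gen).map q ⊓ (P : Subgroup M) with hWdef
      obtain ⟨n, hn⟩ := (P.2.to_le (inf_le_right : W ≤ _) : IsPGroup 3 W).exists_card_eq
      have hrW : q r ∈ W := ⟨⟨r, subset_closure (Or.inl (Or.inl rfl)), rfl⟩, hrP⟩
      have htW : q t ∈ W := ⟨⟨t, subset_closure (Or.inl (Or.inr rfl)), rfl⟩, htP⟩
      have hlt : 3 < Nat.card W := by
        by_contra hle
        refine htr ?_
        rwa [eq_of_le_of_card_ge (zpowers_le.2 hrW) (by rw [Nat.card_zpowers, hro]; omega)]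
      have h9 : Nat.card W = 9 := by
        have := Nat.le_of_dvd (by norm_num) (J4Local.three_card hM P ▸ card_dvd_of_le (inf_le_right : W ≤ _))
        rw [hn] at hlt this ⊢
        rcases n with _ | _ | _ | n
        · norm_num at hlt
        · norm_num at hlt
        · norm_num
        · have : (3 : ℕ) ^ 3 ≤ 3 ^ (n + 3) := Nat.pow_le_pow_right (by norm_num) (by omega)
          omega
      rw [← eq_of_le_of_card_ge (inf_le_right : W ≤ (P : Subgroup M)) (by rw [J4Local.three_card hM P, h9])]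
      exact inf_le_left
    obtain ⟨c, hcc, e⟩ := hW hg
    have : q (c⁻¹ * g) = 1 := by rw [map_mul, map_inv, e, inv_mul_cancel]
    simpa using mul_mem hcc (subset_closure (Or.inr this) : c⁻¹ * g ∈ closure gen)
  haveI : IsMulCommutative (closure gen) := Subgroup.isMulCommutative_closure fun a ha b hb => by
    rcases ha with ha | ha <;> rcases hb with hb | hb
    · rcases ha with ha | ha <;> rcases hb with hb | hb
      · rw [ha, hb]
      · rw [ha, Set.mem_singleton_iff.1 hb]; exact (hno t htP).symm.eq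
      · rw [hb, Set.mem_singleton_iff.1 ha]; exact (hno t htP).eq
      · rw [Set.mem_singleton_iff.1 ha, Set.mem_singleton_iff.1 hb]
    · exact (hc b hb a).eq
    · exact (hc a ha b).symm.eq
    · exact (hc b hb a).eq
  have habelY : ∀ a ∈ Y, ∀ b ∈ Y, Commute a b := fun a ha b hb =>
    congrArg Subtype.val (mul_comm' (⟨a, hYle ha⟩ : closure gen) ⟨b, hYle hb⟩)
  have hcY : Nat.card Y = 27 * d := by
    have h1 := Y.card_mul_index
    have h2 := (P : Subgroup M).card_mul_index
    rw [hY, Subgroup.index_comap_of_surjective _ hq, ← hY, card_cover hM hq hker hd] at h1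
    rw [J4Local.three_card hM P, hM] at h2
    have h3 : (P : Subgroup M).index = 49280 := by omega
    rw [h3] at h1
    omega
  obtain ⟨S, hS⟩ := Sylow.exists_subgroup_card_pow_prime (G := Y) 3 (n := 3) ⟨d, by rw [hcY]; norm_num⟩
  haveI : S.Normal := ⟨fun a ha g => by
    have : g * a * g⁻¹ = a := mul_inv_eq_iff_eq_mul.2
      (Subtype.ext (habelY g g.2 a a.2).eq)
    rwa [this]⟩
  have hzY : ζ₀ ∈ Y := by rw [hY, mem_comap, hζ₀]; exact one_mem _
  have hiS : S.index = d := by
    have := S.card_mul_index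
    rw [hS, hcY] at this
    omega
  have hzS : (⟨ζ₀, hzY⟩ : Y) ∈ S := by
    obtain ⟨a, ha⟩ := exists_pow_eq_self_of_coprime (x := (⟨ζ₀, hzY⟩ : Y)) (n := d)
      (by rw [Subgroup.orderOf_mk, ho]; exact hd)
    rw [← ha]
    exact pow_mem (hiS ▸ S.pow_index_mem _) a
  refine false_of_abelian hc hperf hζ₀ ho (S.map Y.subtype) ⟨_, hzS, rfl⟩
    (fun a ha b hb => habelY a (map_subtype_le S ha) b (map_subtype_le S hb)) ?_
  have h1 := (S.map Y.subtype).card_mul_index
  rw [card_map_of_injective Y.subtype_injective, hS, card_cover hM hq hker hd] at h1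
  have : (S.map Y.subtype).index = 49280 * d := by omega
  rw [this]
  exact Nat.Coprime.mul_left (by norm_num) hd

include hM hq hc hperf hζ₀ ho hker hd in
/-- Elements of order three outside the kernel are conjugate. -/
theorem exists_conj_three {r v : Γ} (hr : r ^ 3 = 1) (hr1 : q r ≠ 1) (hv : v ^ 3 = 1)
    (hv1 : q v ≠ 1) : ∃ c : Γ, c * v * c⁻¹ = r := by
  haveI : Fact (Nat.Prime 3) := ⟨Nat.prime_three⟩
  have hor : orderOf (q r) = 3 := orderOf_eq_prime (by rw [← map_pow, hr, map_one]) hr1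
  have hov : orderOf (q v) = 3 := orderOf_eq_prime (by rw [← map_pow, hv, map_one]) hv1
  obtain ⟨m, hm⟩ := isConj_iff.1 (M22Order.isConj_three hM hov hor)
  obtain ⟨c, rfl⟩ := hq m
  set ξ := r⁻¹ * (c * v * c⁻¹) with hξ
  have hξ1 : q ξ = 1 := by rw [hξ, map_mul, map_mul, map_mul, map_inv, map_inv, hm, inv_mul_cancel]
  have he : c * v * c⁻¹ = r * ξ := by rw [hξ, mul_inv_cancel_left]
  have hξ3 : ξ ^ 3 = 1 := by
    have e := congrArg (· ^ 3) he
    simp only [conj_pow, hv, mul_one, mul_inv_cancel, (hc ξ hξ1 r).mul_pow, hr, one_mul] at e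
    exact e.symm
  have hmem := mem_zpowers_of_ker hc hζ₀ ho hker hd hξ1 hξ3
  rw [← mem_powers_iff_mem_zpowers] at hmem
  obtain ⟨j, hj⟩ := hmem
  obtain ⟨s, hs⟩ := exists_shift hM hq hc hperf hζ₀ ho hker hd hr hr1 j
  refine ⟨s⁻¹ * c, ?_⟩
  calc s⁻¹ * c * v * (s⁻¹ * c)⁻¹ = s⁻¹ * (c * v * c⁻¹) * s := by group
    _ = r := by rw [he, ← hj, ← hs]; group

end m22

end Cfsg.Agent.J4ThreeLocal
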