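import Cfsg.Agent.Lib.J4ThreeLocal.Setup

/-!
# The data from the hypotheses
-/

set_option autoImplicit false
set_option linter.style.haveILetI false
set_option linter.unusedSectionVars false

namespace Cfsg.Agent.J4ThreeLocal

open Subgroup
open scoped commutatorElement Pointwise

universe u

theorem exists_base {G : Type u} [Group G] [Finite G] (h2 : Cfsg.IsCharacteristicTwoType G) (x : G)
    (hx : orderOf x = 3)
    (hperf : ⁅(⊤ : Subgroup ↥(centralizer ({x} : Set G))), (⊤ : Subgroup ↥(centralizer ({x} : Set G)))⁆ = ⊤)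
    (hZ : IsCyclic ↥(center ↥(centralizer ({x} : Set G))))
    (hZc : Nat.card ↥(center ↥(centralizer ({x} : Set G))) = 6)
    (e : ↥(centralizer ({x} : Set G)) ⧸ center ↥(centralizer ({x} : Set G)) ≃* ↥Cfsg.Spor.M22)
    (S : Sylow 3 G) (g : G)
    (hng : ((center ↥(S : Subgroup G)).map (S : Subgroup G).subtype).map (MulAut.conj g).toMonoidHom ≤
      (S : Subgroup G))
    (hne : ((center ↥(S : Subgroup G)).map (S : Subgroup G).subtype).map (MulAut.conj g).toMonoidHom ≠
      ((center ↥(S : Subgroup G)).map (S : Subgroup G).subtype)) :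
    ∃ B : Base G, B.x = x := by
  classical
  haveI := Cfsg.Agent.Golay.M22TwoBlock.isSimple
  haveI : Fact (Nat.Prime 3) := ⟨Nat.prime_three⟩
  haveI : Fact (Nat.Prime 2) := ⟨Nat.prime_two⟩
  set C := centralizer ({x} : Set G) with hC
  set q : C →* ↥Cfsg.Spor.M22 := e.toMonoidHom.comp (QuotientGroup.mk' (center C)) with hq
  have hqk : ∀ c, q c = 1 ↔ c ∈ center C := fun c => by
    rw [hq, MonoidHom.comp_apply, MulEquiv.coe_toMonoidHom, MulEquiv.map_eq_one_iff,
      QuotientGroup.mk'_apply, QuotientGroup.eq_one_iff]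
  have hqs : Function.Surjective q := e.surjective.comp (QuotientGroup.mk'_surjective _)
  have hker : q.ker = center C := Subgroup.ext fun c => hqk c
  have hxC : x ∈ C := mem_centralizer_singleton_iff.2 rfl
  set x' : C := ⟨x, hxC⟩ with hx'
  have hx'o : orderOf x' = 3 := by rw [← Subgroup.orderOf_coe]; exact hx
  have hx'c : x' ∈ center C := mem_center_iff.2 fun c =>
    Subtype.ext (mem_centralizer_singleton_iff.1 c.2)
  obtain ⟨z', hz'⟩ := exists_prime_orderOf_dvd_card' (G := center C) 2 (by rw [hZc]; norm_num)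
  set z : G := ((z' : C) : G) with hz
  have hzo : orderOf z = 2 := by rw [hz, Subgroup.orderOf_coe, Subgroup.orderOf_coe, hz']
  have hzC : ∀ c ∈ C, Commute c z := fun c hc =>
    congrArg Subtype.val (mem_center_iff.1 z'.2 ⟨c, hc⟩)
  have hxz : Commute z x := (hzC x hxC).symm
  have hcen : CentralKer q := fun k hk c => mem_center_iff.1 ((hqk k).1 hk) c
  have hzc : (z' : C) ∈ center C := z'.2
  have hgen : center C = zpowers x' ⊔ zpowers (z' : C) := by
    refine (eq_of_le_of_card_ge (sup_le (zpowers_le.2 hx'c) (zpowers_le.2 hzc)) ?_).symm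
    rw [hZc]
    refine Nat.le_of_dvd Nat.card_pos (Nat.Coprime.mul_dvd_of_dvd_of_dvd (m := 3) (n := 2) (by norm_num) ?_ ?_)
    · exact hx'o ▸ Subgroup.orderOf_dvd_natCard _ (mem_sup_left (mem_zpowers _))
    · rw [← show orderOf (z' : C) = 2 by rw [Subgroup.orderOf_coe, hz']]
      exact Subgroup.orderOf_dvd_natCard _ (mem_sup_right (mem_zpowers _))
  have hcard : Nat.card C = 27 * (49280 * 2) :=
    card_cover Cfsg.Agent.Golay.M22Involution.card_M22 hqs (by rw [hker, hZc]) (by norm_num)
  -- a Sylow subgroup inside `C` with centre `⟨x⟩`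
  obtain ⟨T₀, hT₀, hxT⟩ : ∃ T : Subgroup C, Nat.card T = 27 ∧ x' ∈ T := by
    obtain ⟨P, hP⟩ := (IsPGroup.of_card (p := 3) (n := 1) (by rw [Nat.card_zpowers, hx'o, pow_one]) :
      IsPGroup 3 (zpowers x')).exists_le_sylow
    refine ⟨P, ?_, hP (mem_zpowers _)⟩
    rw [P.card_eq_multiplicity, hcard, Nat.factorization_mul (by norm_num) (by norm_num), Finsupp.add_apply,
      Nat.factorization_eq_zero_of_not_dvd (n := 49280 * 2) (by norm_num), add_zero,
      show (27 : ℕ) = 3 ^ 3 by norm_num, Nat.Prime.factorization_pow Nat.prime_three, Finsupp.single_eq_same]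
  set T := T₀.map C.subtype with hT
  have hT27 : Nat.card T = 3 ^ 3 := by rw [hT, card_map_of_injective C.subtype_injective, hT₀]; norm_num
  have hTC : T ≤ C := map_subtype_le _
  have hTp : IsPGroup 3 T := IsPGroup.of_card hT27
  have hxT' : x ∈ T := ⟨x', hxT, rfl⟩
  have habel : ¬ ∀ a ∈ T₀, ∀ b ∈ T₀, Commute a b := fun h =>
    false_of_abelian hcen hperf ((hqk x').2 hx'c) hx'o T₀ hxT h (by
      have := T₀.card_mul_index
      rw [hT₀, hcard] at this
      rw [show T₀.index = 49280 * 2 by omega]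
      norm_num)
  have hZT : ∀ a ∈ T, (∀ b ∈ T, Commute a b) → a ∈ zpowers x := by
    have hc3 : Nat.card (center T) = 3 := by
      obtain ⟨k, hk, hkc⟩ := (Nat.dvd_prime_pow Nat.prime_three).1 (hT27 ▸ card_subgroup_dvd_card (center T))
      have hxc : (⟨x, hxT'⟩ : T) ∈ center T := mem_center_iff.2 fun b =>
        Subtype.ext (mem_centralizer_singleton_iff.1 (hTC b.2))
      have h3 : 3 ∣ Nat.card (center T) := by
        rw [← show orderOf (⟨x, hxT'⟩ : T) = 3 by rw [Subgroup.orderOf_mk, hx]]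
        exact Subgroup.orderOf_dvd_natCard _ hxc
      rw [hkc] at h3 ⊢
      by_contra hne
      have hk2 : 2 ≤ k := by
        rcases k with _ | _ | k
        · norm_num at h3
        · norm_num at hne
        · omega
      have hcyc : IsCyclic (T ⧸ center T) := by
        have h := card_eq_card_quotient_mul_card_subgroup (center T)
        rw [hT27, hkc] at h
        interval_cases k
        · exact isCyclic_of_prime_card (p := 3) (by omega)
        · haveI : Subsingleton (T ⧸ center T) := (Nat.card_eq_one_iff_unique.1 (by omega)).1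
          infer_instance
      have hcomm : ∀ a b : T, a * b = b * a := fun a b =>
        commutative_of_cyclic_center_quotient (QuotientGroup.mk' (center T))
          (le_of_eq (QuotientGroup.ker_mk' _)) a b
      exact habel fun a ha b hb => Subtype.ext (congrArg Subtype.val
        (hcomm ⟨a, ⟨a, ha, rfl⟩⟩ ⟨b, ⟨b, hb, rfl⟩⟩) :)
    intro a ha hc
    have hmem : a ∈ (center T).map T.subtype :=
      ⟨⟨a, ha⟩, mem_center_iff.2 fun b => Subtype.ext (hc b b.2).eq.symm, rfl⟩
    rw [← eq_of_le_of_card_ge (K := (center T).map T.subtype) (zpowers_le.2 ?_) ?_] at hmem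
    · exact hmem
    · exact ⟨⟨x, hxT'⟩, mem_center_iff.2 fun b => Subtype.ext (mem_centralizer_singleton_iff.1 (hTC b.2)), rfl⟩
    · rw [card_map_of_injective T.subtype_injective, hc3, Nat.card_zpowers, hx]
  -- it is a Sylow subgroup of `G`
  obtain ⟨P, hP⟩ := hTp.exists_le_sylow
  have hPT : (P : Subgroup G) = T := by
    refine le_antisymm ?_ hP
    by_contra hne'
    have hlt : T < P := lt_of_le_of_ne hP fun e => hne' e.ge
    haveI : Group.IsNilpotent P := P.2.isNilpotent
    have hlt' : T.subgroupOf P < ⊤ := by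
      rw [lt_top_iff_ne_top, Ne, subgroupOf_eq_top]
      exact not_le_of_gt hlt
    obtain ⟨n, hn, hnT⟩ := SetLike.exists_of_lt (Group.normalizerCondition_of_isNilpotent _ hlt')
    have hnorm : ∀ b ∈ T, (n : G) * b * (n : G)⁻¹ ∈ T := fun b hb =>
      (mem_normalizer_iff.1 hn ⟨b, hP hb⟩).1 hb
    have hnorm' : ∀ b ∈ T, (n : G)⁻¹ * b * n ∈ T := fun b hb => by
      simpa [mem_subgroupOf] using (mem_normalizer_iff.1 (inv_mem hn) ⟨b, hP hb⟩).1 hb
    have hnx : (n : G) * x * (n : G)⁻¹ ∈ zpowers x := hZT _ (hnorm x hxT') fun b hb => by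
      have := (show Commute x ((n : G)⁻¹ * b * n) from
        (mem_centralizer_singleton_iff.1 (hTC (hnorm' b hb))).symm).map (MulAut.conj (n : G)).toMonoidHom
      simp only [MulEquiv.coe_toMonoidHom, MulAut.conj_apply] at this
      rwa [show (n : G) * ((n : G)⁻¹ * b * n) * (n : G)⁻¹ = b by group] at this
    obtain ⟨k, hk⟩ := P.2 n
    have hk' : (n : G) ^ 3 ^ k = 1 := congrArg Subtype.val hk
    -- a 3-element normalizing `⟨x⟩` centralizes it
    have hnC : (n : G) ∈ C := by
      rw [← mem_powers_iff_mem_zpowers] at hnx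
      obtain ⟨j, hj⟩ := hnx
      have hj' : (n : G) * x * (n : G)⁻¹ = x ^ j := hj.symm
      have hiter : ∀ m : ℕ, (n : G) ^ m * x * ((n : G) ^ m)⁻¹ = x ^ (j ^ m) := by
        intro m
        induction m with
        | zero => simp
        | succ m ih =>
          rw [pow_succ', mul_inv_rev, show (n : G) * n ^ m * x * (((n : G) ^ m)⁻¹ * (n : G)⁻¹) =
            (n : G) * ((n : G) ^ m * x * ((n : G) ^ m)⁻¹) * (n : G)⁻¹ by group, ih, ← conj_pow, hj',
            ← pow_mul, pow_succ']
      have h1 := hiter (3 ^ k)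
      rw [hk', one_mul, inv_one, mul_one] at h1
      conv_lhs at h1 => rw [← pow_one x]
      rw [pow_eq_pow_iff_modEq, hx] at h1
      have hjm : j % 3 = 1 := by
        have hcase : j % 3 = 0 ∨ j % 3 = 1 ∨ j % 3 = 2 := by omega
        rcases hcase with h | h | h
        · exfalso
          rw [Nat.ModEq, Nat.pow_mod, h, zero_pow (by positivity)] at h1
          norm_num at h1
        · exact h
        · exfalso
          obtain ⟨i, hi⟩ := (show Odd (3 ^ k) from (by decide : Odd 3).pow)
          rw [Nat.ModEq, Nat.pow_mod, h, hi, pow_add, pow_mul, Nat.mul_mod, Nat.pow_mod] at h1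
          norm_num at h1
      refine mem_centralizer_singleton_iff.2 (mul_inv_eq_iff_eq_mul.1 ?_)
      rw [hj', ← pow_mod_orderOf, hx, hjm, pow_one]
    set W := (P : Subgroup G) ⊓ C with hW
    have hTW : T ≤ W := le_inf hP hTC
    obtain ⟨i, hi⟩ := (P.2.to_le (inf_le_left : W ≤ P) : IsPGroup 3 W).exists_card_eq
    have hdvd : 3 ^ i ∣ 3 ^ 3 * (49280 * 2) := by
      rw [← hi, show 3 ^ 3 * (49280 * 2) = Nat.card C by rw [hcard]; norm_num]
      exact card_dvd_of_le inf_le_right
    have hi3 : 3 ^ i ≤ 3 ^ 3 := Nat.le_of_dvd (by norm_num)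
      ((Nat.Coprime.pow_left i (by norm_num : Nat.Coprime 3 (49280 * 2))).dvd_of_dvd_mul_right hdvd)
    refine hnT ?_
    show (n : G) ∈ T
    rw [eq_of_le_of_card_ge hTW (by rw [hi, hT27]; exact hi3)]
    exact ⟨n.2, hnC⟩
  obtain ⟨c, hc⟩ := MulAction.exists_smul_eq G P S
  have hS : (S : Subgroup G) = T.map (MulAut.conj c).toMonoidHom := by
    rw [← hc, Sylow.coe_subgroup_smul, hPT]; rfl
  have hmS : ∀ b, b ∈ (S : Subgroup G) ↔ c⁻¹ * b * c ∈ T := fun b => by
    rw [hS]
    refine ⟨?_, fun h => ⟨_, h, ?_⟩⟩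
    · rintro ⟨a, ha, rfl⟩
      show c⁻¹ * (c * a * c⁻¹) * c ∈ T
      simpa [mul_assoc] using ha
    · show c * (c⁻¹ * b * c) * c⁻¹ = b
      group
  have hZS : (center ↥(S : Subgroup G)).map (S : Subgroup G).subtype = zpowers (c * x * c⁻¹) := by
    refine le_antisymm ?_ (zpowers_le.2 ?_)
    · rintro _ ⟨⟨a, ha⟩, hac, rfl⟩
      have h := hZT _ ((hmS a).1 ha) fun b hb => by
        have hb' : c * b * c⁻¹ ∈ (S : Subgroup G) := (hmS _).2 (by simpa [mul_assoc] using hb)
        have := (show Commute a (c * b * c⁻¹) from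
          (congrArg Subtype.val (mem_center_iff.1 hac ⟨_, hb'⟩)).symm).map (MulAut.conj c⁻¹).toMonoidHom
        simp only [MulEquiv.coe_toMonoidHom, MulAut.conj_apply, inv_inv] at this
        rwa [show c⁻¹ * (c * b * c⁻¹) * c = b by group] at this
      obtain ⟨i, hi⟩ := mem_zpowers_iff.1 h
      exact mem_zpowers_iff.2 ⟨i, by rw [conj_zpow, hi]; show c * (c⁻¹ * a * c) * c⁻¹ = a; group⟩
    · refine ⟨⟨c * x * c⁻¹, (hmS _).2 (by simpa [mul_assoc] using hxT')⟩, mem_center_iff.2 fun b => Subtype.ext ?_, rfl⟩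
      have h : Commute (c⁻¹ * (b : G) * c) x := mem_centralizer_singleton_iff.1 (hTC ((hmS _).1 b.2))
      have := h.map (MulAut.conj c).toMonoidHom
      simp only [MulEquiv.coe_toMonoidHom, MulAut.conj_apply] at this
      rw [show c * (c⁻¹ * (b : G) * c) * c⁻¹ = b by group] at this
      exact this.eq
  rw [hZS, MonoidHom.map_zpowers, zpowers_le] at hng
  rw [hZS, MonoidHom.map_zpowers] at hne
  set r := c⁻¹ * (g * (c * x * c⁻¹) * g⁻¹) * c with hr
  have hrT : r ∈ T := (hmS _).1 hng
  refine ⟨{ x := x, hx := hx, z := z, hz := hzo, hzC := hzC, hxz := hxz, q := q, hq := hqs,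
            perf := hperf, central := hcen, cardKer := by rw [hker, hZc],
            ker_cases := fun a ha => ?_, qx := fun h => (hqk _).2 hx'c,
            qz := fun h => (hqk _).2 hzc, out := ⟨c⁻¹ * g * c, ?_, ?_⟩, twoType := h2 }, rfl⟩
  · have h := (hqk a).1 ha
    rw [hgen] at h
    have := mem_map_of_mem C.subtype h
    rwa [Subgroup.map_sup, MonoidHom.map_zpowers, MonoidHom.map_zpowers] at this
  · rw [show c⁻¹ * g * c * x * (c⁻¹ * g * c)⁻¹ = r by rw [hr]; group]
    exact mem_centralizer_singleton_iff.1 (hTC hrT)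
  · rw [show c⁻¹ * g * c * x * (c⁻¹ * g * c)⁻¹ = r by rw [hr]; group]
    intro h
    refine hne (eq_of_le_of_card_ge (zpowers_le.2 ?_) ?_)
    · obtain ⟨i, hi⟩ := mem_zpowers_iff.1 h
      refine mem_zpowers_iff.2 ⟨i, ?_⟩
      rw [conj_zpow, hi, hr]
      show c * (c⁻¹ * (g * (c * x * c⁻¹) * g⁻¹) * c) * c⁻¹ = g * (c * x * c⁻¹) * g⁻¹
      group
    · refine le_of_eq ?_
      rw [Nat.card_zpowers, Nat.card_zpowers, ← MulEquiv.orderOf_eq (MulAut.conj g) (c * x * c⁻¹)]
      rfl

end Cfsg.Agent.J4ThreeLocal
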