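import Mathlib

/-!
# An element of order eleven on a small 2-section
-/

set_option autoImplicit false
set_option linter.style.haveILetI false
set_option linter.unusedSectionVars false

namespace Cfsg.Agent.J4ThreeLocal

open Subgroup

universe u

/-- An element of order dividing eleven fixes every coset of a normal subgroup of index below `2¹⁰` of a
2-group it normalizes, hence a point in each. -/
theorem le_fixed_sup {G : Type u} [Group G] [Finite G] {σ : G} (hσ : σ ^ 11 = 1) (K N : Subgroup G)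
    (hNK : N ≤ K) (hK : IsPGroup 2 K) (hσK : ∀ k ∈ K, σ * k * σ⁻¹ ∈ K) (hσN : ∀ k ∈ N, σ * k * σ⁻¹ ∈ N)
    (hKN : ∀ k ∈ K, ∀ n ∈ N, k * n * k⁻¹ ∈ N) (hsmall : Nat.card K < Nat.card N * 2 ^ 10) :
    K ≤ (K ⊓ centralizer ({σ} : Set G)) ⊔ N := by
  classical
  haveI : Fact (Nat.Prime 2) := ⟨Nat.prime_two⟩
  haveI : Fact (Nat.Prime 11) := ⟨by norm_num⟩
  set N' := N.subgroupOf K with hN'
  haveI : N'.Normal := ⟨fun n hn k => hKN k k.2 n hn⟩
  haveI : Fintype (↥K ⧸ N') := Fintype.ofFinite _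
  let f : K →* K :=
    { toFun := fun k => ⟨σ * k * σ⁻¹, hσK k k.2⟩
      map_one' := Subtype.ext (by simp)
      map_mul' := fun a b => Subtype.ext (by simp [mul_assoc]) }
  have hf11 : ∀ k : K, ((f^[11]) k : G) = k := by
    have hit : ∀ (n : ℕ) (k : K), ((f^[n]) k : G) = σ ^ n * k * (σ ^ n)⁻¹ := by
      intro n
      induction n with
      | zero => simp
      | succ n ih =>
        intro k
        rw [Function.iterate_succ_apply', pow_succ', mul_inv_rev]
        show σ * ((f^[n]) k : G) * σ⁻¹ = _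
        rw [ih]; simp [mul_assoc]
    intro k
    rw [hit, hσ, one_mul, inv_one, mul_one]
  let g : ↥K ⧸ N' →* ↥K ⧸ N' := QuotientGroup.map N' N' f fun k hk => hσN k hk
  have hg : ∀ (n : ℕ) (k : K), (g^[n]) (QuotientGroup.mk k) = QuotientGroup.mk ((f^[n]) k) := by
    intro n
    induction n with
    | zero => simp
    | succ n ih => intro k; rw [Function.iterate_succ_apply', Function.iterate_succ_apply', ih]; rfl
  have hg11 : ∀ q, (g^[11]) q = q := fun q => by
    obtain ⟨k, rfl⟩ := QuotientGroup.mk_surjective q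
    rw [hg, Subtype.ext (hf11 k)]
  let π : Equiv.Perm (↥K ⧸ N') :=
    { toFun := g
      invFun := g^[10]
      left_inv := fun q => hg11 q
      right_inv := fun q => by
        have h := hg11 q
        rwa [Function.iterate_succ_apply' g 10] at h }
  have hpow : π ^ 11 ^ 1 = 1 := Equiv.ext fun q => by
    rw [pow_one, Equiv.Perm.coe_pow]
    exact hg11 q
  have hmod := Equiv.Perm.card_compl_support_modEq hpow
  set F := g.eqLocus (MonoidHom.id _) with hF
  have hFs : π.supportᶜ.card = Nat.card F := by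
    rw [← Nat.card_eq_finsetCard]
    refine Nat.card_congr (Equiv.subtypeEquivRight fun q => ?_)
    rw [Finset.mem_compl, Equiv.Perm.mem_support, not_not]
    rfl
  have hQ : IsPGroup 2 (↥K ⧸ N') := hK.to_quotient N'
  obtain ⟨j, hj⟩ := hQ.exists_card_eq
  have hFd : Nat.card F ∣ 2 ^ j := hj ▸ card_subgroup_dvd_card F
  obtain ⟨i, hij, hi⟩ := (Nat.dvd_prime_pow Nat.prime_two).1 hFd
  have hcard : Nat.card K = 2 ^ j * Nat.card N := by
    rw [card_eq_card_quotient_mul_card_subgroup N', hj, Nat.card_congr (subgroupOfEquivOfLe hNK).toEquiv]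
  have hj10 : j < 10 := by
    rw [hcard, mul_comm] at hsmall
    exact (Nat.pow_lt_pow_iff_right (by norm_num)).1 (Nat.lt_of_mul_lt_mul_left hsmall)
  rw [hFs, hi, ← Nat.card_eq_fintype_card, hj, Nat.ModEq] at hmod
  have hall : F = ⊤ := by
    refine eq_top_of_card_eq F ?_
    rw [hi, hj]
    interval_cases j <;> interval_cases i <;> omega
  intro k hk
  have hcos : g (QuotientGroup.mk (⟨k, hk⟩ : K)) = QuotientGroup.mk ⟨k, hk⟩ :=
    (hall ▸ mem_top _ : QuotientGroup.mk (⟨k, hk⟩ : K) ∈ F)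
  have hmem : k⁻¹ * (σ * k * σ⁻¹) ∈ N := by
    have h : ((⟨k, hk⟩ : K)⁻¹ * f ⟨k, hk⟩) ∈ N' := QuotientGroup.eq.1 hcos.symm
    exact h
  -- a fixed point in the coset
  haveI : Fintype N := Fintype.ofFinite N
  let φ : N → N := fun n => ⟨k⁻¹ * (σ * (k * n) * σ⁻¹), by
    have := mul_mem hmem (hσN n n.2)
    rwa [show k⁻¹ * (σ * k * σ⁻¹) * (σ * (n : G) * σ⁻¹) = k⁻¹ * (σ * (k * n) * σ⁻¹) by group] at this⟩
  have hinj : Function.Injective φ := fun a b e => Subtype.ext (by simpa [φ] using congrArg Subtype.val e)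
  set ψ : Equiv.Perm N := Equiv.ofBijective φ (Finite.injective_iff_bijective.1 hinj) with hψ
  have hit : ∀ (m : ℕ) (n : N), ((φ^[m]) n : G) = k⁻¹ * (σ ^ m * (k * n) * (σ ^ m)⁻¹) := by
    intro m
    induction m with
    | zero => simp
    | succ m ih =>
      intro n
      rw [Function.iterate_succ_apply', pow_succ', mul_inv_rev]
      show k⁻¹ * (σ * (k * ((φ^[m]) n : G)) * σ⁻¹) = _
      rw [ih]; simp [mul_assoc]
  have hψp : ψ ^ 11 ^ 1 = 1 := Equiv.ext fun n => Subtype.ext (by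
    rw [pow_one, Equiv.Perm.coe_pow]
    show ((φ^[11]) n : G) = n
    rw [hit, hσ]; simp)
  obtain ⟨m, hm⟩ := (hK.to_le hNK).exists_card_eq
  obtain ⟨n, hn⟩ := Equiv.Perm.exists_fixed_point_of_prime (by
    rw [← Nat.card_eq_fintype_card, hm]
    intro h
    have h2 := (by norm_num : Nat.Prime 11).dvd_of_dvd_pow h
    norm_num at h2) hψp
  have e : k⁻¹ * (σ * (k * (n : G)) * σ⁻¹) = n := congrArg Subtype.val hn
  have hc : k * (n : G) ∈ K ⊓ centralizer ({σ} : Set G) := by
    refine ⟨mul_mem hk (hNK n.2), mem_centralizer_singleton_iff.2 ?_⟩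
    have e' : σ * (k * (n : G)) * σ⁻¹ = k * n := by rw [inv_mul_eq_iff_eq_mul.1 e]
    exact (mul_inv_eq_iff_eq_mul.1 e').symm
  simpa [mul_assoc] using mul_mem_sup hc (inv_mem n.2)

end Cfsg.Agent.J4ThreeLocal
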