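import Cfsg.Agent.Lib.J4ThreeLocal.Local
import Cfsg.Agent.Lib.J4ThreeLocal.Small
import Cfsg.Agent.Lib.Coprime.PGroup

/-!
# `O₂(C(z))` is extraspecial of order `2¹³`
-/

set_option autoImplicit false
set_option linter.style.haveILetI false
set_option linter.unusedSectionVars false

namespace Cfsg.Agent.J4ThreeLocal

open Subgroup
open scoped commutatorElement Pointwise

universe u

namespace Base

variable {G : Type u} [Group G] [Finite G] (B : Base G)

/-- The 2-core in `H`. -/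
abbrev E0 : Subgroup B.H := Cfsg.pCore 2 B.H

/-- `x` in `H`. -/
def xH : B.H := ⟨B.x, B.C_le_H B.x_mem⟩

/-- `z` in `H`. -/
def zH : B.H := ⟨B.z, B.mem_H.2 (Commute.refl _)⟩

theorem mem_E0 {e : B.H} : e ∈ B.E0 ↔ (e : G) ∈ B.E :=
  (mem_map_iff_mem B.H.subtype_injective).symm

theorem zH_mem : B.zH ∈ B.E0 := B.mem_E0.2 B.z_mem_E

theorem zH_cases {e : B.H} (he : e ∈ zpowers B.zH) : e = 1 ∨ e = B.zH := by
  obtain ⟨i, hi⟩ := mem_zpowers_iff.1 he
  rcases B.z_cases (mem_zpowers_iff.2 ⟨i, congrArg Subtype.val hi⟩ : (e : G) ∈ zpowers B.z) with h | h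
  exacts [Or.inl (Subtype.ext h), Or.inr (Subtype.ext h)]

theorem fix_x {e : B.H} (he : e ∈ B.E0) (hc : Commute e B.xH) : e ∈ zpowers B.zH := by
  rcases B.z_cases (B.E_inf_C (B.mem_E0.1 he) (B.mem_C.2 (congrArg Subtype.val hc.eq))) with h | h
  · rw [show e = 1 from Subtype.ext h]; exact one_mem _
  · rw [show e = B.zH from Subtype.ext h]; exact mem_zpowers _

/-- The fixed points in `N` of an element. -/
abbrev fixN (N : Subgroup B.H) (a : B.H) : Subgroup B.H := N ⊓ centralizer ({a} : Set B.H)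

theorem card_fixN_conj (N : Subgroup B.H) [N.Normal] (c a : B.H) :
    Nat.card (B.fixN N (c * a * c⁻¹)) = Nat.card (B.fixN N a) := by
  have e : (B.fixN N a).map (MulAut.conj c).toMonoidHom = B.fixN N (c * a * c⁻¹) := by
    ext w
    constructor
    · rintro ⟨u, ⟨hu1, hu2⟩, rfl⟩
      exact ⟨(inferInstance : N.Normal).conj_mem u hu1 c, mem_centralizer_singleton_iff.2
        ((show Commute u a from mem_centralizer_singleton_iff.1 hu2).map (MulAut.conj c).toMonoidHom).eq⟩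
    · rintro ⟨h1, h2⟩
      refine ⟨c⁻¹ * w * c, ⟨by simpa using (inferInstance : N.Normal).conj_mem w h1 c⁻¹, ?_⟩, ?_⟩
      · refine mem_centralizer_singleton_iff.2 ?_
        have h := (show Commute w (c * a * c⁻¹) from mem_centralizer_singleton_iff.1 h2).map (MulAut.conj c⁻¹).toMonoidHom
        simp only [MulEquiv.coe_toMonoidHom, MulAut.conj_apply, inv_inv] at h
        rwa [show c⁻¹ * (c * a * c⁻¹) * c = a by group] at h
      · show c * (c⁻¹ * w * c) * c⁻¹ = w
        group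
  rw [← e, card_map_of_injective (MulEquiv.injective _)]

/-- An element fixed by `x` modulo a normal subgroup containing `z` lies in it. -/
theorem fix_mod {N : Subgroup B.H} [N.Normal] (hN : N ≤ B.E0) (hz : B.zH ∈ N) {e : B.H} (he : e ∈ B.E0)
    (h : Commute (QuotientGroup.mk' N B.xH) (QuotientGroup.mk' N e)) : e ∈ N := by
  classical
  haveI : Fact (Nat.Prime 3) := ⟨Nat.prime_three⟩
  haveI : Fact (Nat.Prime 2) := ⟨Nat.prime_two⟩
  haveI : Fintype N := Fintype.ofFinite N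
  have hmem : e⁻¹ * (B.xH * e * B.xH⁻¹) ∈ N := by
    refine (QuotientGroup.eq_one_iff _).1 ?_
    show QuotientGroup.mk' N (e⁻¹ * (B.xH * e * B.xH⁻¹)) = 1
    rw [map_mul, map_mul, map_mul, map_inv, map_inv, h.eq, mul_inv_cancel_right, inv_mul_cancel]
  let φ : N → N := fun n => ⟨e⁻¹ * (B.xH * (e * n) * B.xH⁻¹), by
    have := mul_mem hmem ((inferInstance : N.Normal).conj_mem n n.2 B.xH)
    rwa [show e⁻¹ * (B.xH * e * B.xH⁻¹) * (B.xH * (n : B.H) * B.xH⁻¹) =
      e⁻¹ * (B.xH * (e * n) * B.xH⁻¹) by group] at this⟩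
  have hinj : Function.Injective φ := fun a b he => Subtype.ext (by simpa [φ] using congrArg Subtype.val he)
  set ψ : Equiv.Perm N := Equiv.ofBijective φ (Finite.injective_iff_bijective.1 hinj) with hψ
  have hx3 : B.xH ^ 3 = 1 := Subtype.ext B.x3
  have hψ3 : ψ ^ 3 ^ 1 = 1 := Equiv.ext fun n => Subtype.ext (by
    show e⁻¹ * (B.xH * (e * (e⁻¹ * (B.xH * (e * (e⁻¹ * (B.xH * (e * (n : B.H)) * B.xH⁻¹))) * B.xH⁻¹))) *
      B.xH⁻¹) = n
    calc _ = e⁻¹ * (B.xH ^ 3 * (e * n) * (B.xH ^ 3)⁻¹) := by simp [pow_succ, mul_assoc]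
      _ = n := by rw [hx3]; group)
  obtain ⟨m, hm⟩ := ((Cores.pCore_isPGroup 2).to_le hN : IsPGroup 2 N).exists_card_eq
  obtain ⟨n, hn⟩ := Equiv.Perm.exists_fixed_point_of_prime (by
    rw [← Nat.card_eq_fintype_card, hm]
    intro hd
    exact absurd (Nat.prime_three.dvd_of_dvd_pow hd) (by norm_num)) hψ3
  have e1 : e⁻¹ * (B.xH * (e * (n : B.H)) * B.xH⁻¹) = n := congrArg Subtype.val hn
  have e2 : B.xH * (e * n) * B.xH⁻¹ = e * n := inv_mul_eq_iff_eq_mul.1 e1
  have hfix := B.fix_x (mul_mem he (hN n.2)) (mul_inv_eq_iff_eq_mul.1 e2).symm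
  have : e * n ∈ N := (zpowers_le.2 hz) hfix
  simpa using mul_mem this (inv_mem n.2)

/-- **The count over the three fixed spaces.** -/
theorem split {y : B.H} (hyC : Commute y B.xH) (hy3 : y ^ 3 = 1) (hyx : y ∉ zpowers B.xH)
    {s : B.H} (hsx : Commute s B.xH) (hs : s * y * s⁻¹ = y * B.xH) (N : Subgroup B.H) [N.Normal]
    (hN : N ≤ B.E0) (hz : B.zH ∈ N) (hcomm : ⁅B.E0, B.E0⁆ ≤ N) :
    Nat.card B.E0 * Nat.card (B.fixN N y) ^ 3 = Nat.card N * Nat.card (B.fixN B.E0 y) ^ 3 := by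
  classical
  haveI : Fact (Nat.Prime 2) := ⟨Nat.prime_two⟩
  set π := QuotientGroup.mk' N with hπ
  set Y : ℕ → B.H := fun i => y * B.xH ^ i with hY
  have hxs : ∀ i : ℕ, s ^ i * y * (s ^ i)⁻¹ = Y i := by
    intro i
    induction i with
    | zero => simp [hY]
    | succ i ih =>
      rw [pow_succ', mul_inv_rev, show s * s ^ i * y * ((s ^ i)⁻¹ * s⁻¹) = s * (s ^ i * y * (s ^ i)⁻¹) * s⁻¹ by group, ih]
      show s * (y * B.xH ^ i) * s⁻¹ = y * B.xH ^ (i + 1)
      rw [show s * (y * B.xH ^ i) * s⁻¹ = (s * y * s⁻¹) * (s * B.xH ^ i * s⁻¹) by group, hs,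
        (hsx.pow_right i).eq, mul_inv_cancel_right, mul_assoc, ← pow_succ']
  have hcardY : ∀ (M : Subgroup B.H) [M.Normal] (i : ℕ),
      Nat.card (B.fixN M (Y i)) = Nat.card (B.fixN M y) := fun M _ i => by
    rw [← hxs i]; exact B.card_fixN_conj M _ y
  set T : ℕ → Subgroup (B.H ⧸ N) := fun i => (B.fixN B.E0 (Y i)).map π with hT
  set Eb := B.E0.map π with hEb
  have hT_le : ∀ i, T i ≤ Eb := fun i => map_mono inf_le_left
  have hTc : ∀ i, ∀ t ∈ T i, Commute t (π (Y i)) := by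
    rintro i _ ⟨u, ⟨-, hu⟩, rfl⟩
    exact (show Commute u (Y i) from mem_centralizer_singleton_iff.1 hu).map π
  have habel : ∀ a ∈ Eb, ∀ b ∈ Eb, Commute a b := by
    rintro _ ⟨a, ha, rfl⟩ _ ⟨b, hb, rfl⟩
    have h : π ⁅a, b⁆ = 1 := (QuotientGroup.eq_one_iff _).2 (hcomm (commutator_mem_commutator ha hb))
    rw [map_commutatorElement] at h
    exact commutatorElement_eq_one_iff_commute.1 h
  have hnofix : ∀ t ∈ Eb, Commute t (π B.xH) → t = 1 := by
    rintro _ ⟨u, hu, rfl⟩ h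
    exact (QuotientGroup.eq_one_iff _).2 (B.fix_mod hN hz hu h.symm)
  have hfrom : ∀ {t : B.H ⧸ N} {i j : ℕ}, t ∈ Eb → (j = i + 1 ∨ (i = 0 ∧ j = 2)) → Commute t (π (Y i)) →
      Commute t (π (Y j)) → t = 1 := by
    intro t i j ht hij h1 h2
    refine hnofix t ht ?_
    have h3 := h1.inv_right.mul_right h2
    rw [← map_inv, ← map_mul] at h3
    rcases hij with rfl | ⟨rfl, rfl⟩
    · rwa [show (Y i)⁻¹ * Y (i + 1) = B.xH by simp [hY, pow_succ]] at h3
    · rw [show (Y 0)⁻¹ * Y 2 = B.xH ^ 2 by simp [hY], map_pow] at h3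
      have h4 := h3.pow_right 2
      rwa [← pow_mul, show 2 * 2 = 3 + 1 from rfl, pow_succ, ← map_pow π B.xH 3,
        show B.xH ^ 3 = 1 from Subtype.ext B.x3, map_one, one_mul] at h4
  let f : T 0 × T 1 × T 2 → Eb := fun p => ⟨(p.1 : B.H ⧸ N) * p.2.1 * p.2.2,
    mul_mem (mul_mem (hT_le 0 p.1.2) (hT_le 1 p.2.1.2)) (hT_le 2 p.2.2.2)⟩
  have hinj : Function.Injective f := by
    rintro ⟨a, b, c⟩ ⟨a', b', c'⟩ h
    have h' : (a : B.H ⧸ N) * b * c = a' * b' * c' := congrArg Subtype.val h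
    set u := (a' : B.H ⧸ N)⁻¹ * a with hu
    set v := (b : B.H ⧸ N) * (b' : B.H ⧸ N)⁻¹ with hv
    set w := (c : B.H ⧸ N) * (c' : B.H ⧸ N)⁻¹ with hw
    have huT : u ∈ T 0 := mul_mem (inv_mem a'.2) a.2
    have hvT : v ∈ T 1 := mul_mem b.2 (inv_mem b'.2)
    have hwT : w ∈ T 2 := mul_mem c.2 (inv_mem c'.2)
    have huvw : u * v * w = 1 := by
      have e1 : Commute (b' : B.H ⧸ N)⁻¹ ((c : B.H ⧸ N) * (c' : B.H ⧸ N)⁻¹) :=
        habel _ (hT_le 1 (inv_mem b'.2)) _ (hT_le 2 hwT)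
      calc u * v * w = (a' : B.H ⧸ N)⁻¹ * a * b * ((b' : B.H ⧸ N)⁻¹ * w) := by rw [hu, hv]; group
        _ = (a' : B.H ⧸ N)⁻¹ * a * b * (w * (b' : B.H ⧸ N)⁻¹) := by rw [hw, e1.eq]
        _ = (a' : B.H ⧸ N)⁻¹ * ((a : B.H ⧸ N) * b * c) * (c' : B.H ⧸ N)⁻¹ * (b' : B.H ⧸ N)⁻¹ := by rw [hw]; group
        _ = 1 := by rw [h']; group
    set Y0 := π (Y 0) with hY0
    set v' := Y0 * v * Y0⁻¹ * v⁻¹ with hv'
    have hc01 : Commute (π (Y 0)) (π (Y 1)) := by
      refine Commute.map ?_ π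
      simp only [hY, pow_zero, mul_one, pow_one]
      exact (Commute.refl y).mul_right hyC
    have hc02 : Commute (π (Y 0)) (π (Y 2)) := by
      refine Commute.map ?_ π
      simp only [hY, pow_zero, mul_one]
      exact (Commute.refl y).mul_right (hyC.pow_right 2)
    have hw' : Y0 * w * Y0⁻¹ * w⁻¹ = v'⁻¹ := by
      have hu1 : Y0 * u * Y0⁻¹ = u := by rw [← (hTc 0 u huT).eq, mul_inv_cancel_right]
      have e : w = v⁻¹ * u⁻¹ := by
        rw [← mul_inv_rev]; exact (inv_eq_of_mul_eq_one_right huvw).symm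
      have hvu : Commute v u := habel _ (hT_le 1 hvT) _ (hT_le 0 huT)
      rw [e, hv']
      calc Y0 * (v⁻¹ * u⁻¹) * Y0⁻¹ * (v⁻¹ * u⁻¹)⁻¹
          = (Y0 * v * Y0⁻¹)⁻¹ * (Y0 * u * Y0⁻¹)⁻¹ * u * v := by group
        _ = (Y0 * v * Y0⁻¹)⁻¹ * v := by rw [hu1, inv_mul_cancel_right]
        _ = (Y0 * v * Y0⁻¹)⁻¹ * v := rfl
        _ = _ := by
          have hcv : Commute (Y0 * v * Y0⁻¹)⁻¹ v := by
            refine Commute.inv_left ?_
            obtain ⟨v0, hv0, ev⟩ := hT_le 1 hvT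
            rw [← ev]
            refine habel _ ⟨Y 0 * v0 * (Y 0)⁻¹, (inferInstance : B.E0.Normal).conj_mem v0 hv0 _, ?_⟩ _ ⟨v0, hv0, rfl⟩
            rw [map_mul, map_mul, map_inv]
          rw [hcv.eq]
          group
    have hv'Eb : v' ∈ Eb := by
      obtain ⟨v0, hv0, e⟩ := hT_le 1 hvT
      rw [hv', ← e, hY0, ← map_inv π (Y 0), ← map_mul, ← map_mul, ← map_inv, ← map_mul]
      exact ⟨_, mul_mem ((inferInstance : B.E0.Normal).conj_mem v0 hv0 _) (inv_mem hv0), rfl⟩
    have hv'1 : Commute v' (π (Y 1)) :=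
      (((hc01.mul_left (hTc 1 v hvT)).mul_left hc01.inv_left).mul_left (hTc 1 v hvT).inv_left)
    have hv'2 : Commute v' (π (Y 2)) := by
      rw [← inv_inv v', ← hw']
      exact (((hc02.mul_left (hTc 2 w hwT)).mul_left hc02.inv_left).mul_left (hTc 2 w hwT).inv_left).inv_left
    have hv'one : v' = 1 := hfrom hv'Eb (Or.inl rfl) hv'1 hv'2
    have hv0 : Commute v Y0 := by
      rw [hv', mul_inv_eq_one] at hv'one
      exact (mul_inv_eq_iff_eq_mul.1 hv'one).symm
    have hv1 : v = 1 := hfrom (hT_le 1 hvT) (Or.inl rfl) hv0 (hTc 1 v hvT)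
    rw [hv1, mul_one] at huvw
    have huw : u = w⁻¹ := eq_inv_of_mul_eq_one_left huvw
    have hu1 : u = 1 := hfrom (hT_le 0 huT) (Or.inr ⟨rfl, rfl⟩) (hTc 0 u huT)
      (huw ▸ (hTc 2 w hwT).inv_left)
    have hw1 : w = 1 := by rwa [hu1, one_mul] at huvw
    refine Prod.ext (Subtype.ext ?_) (Prod.ext (Subtype.ext ?_) (Subtype.ext ?_))
    · exact (inv_mul_eq_one.1 hu1).symm
    · exact mul_inv_eq_one.1 hv1
    · exact mul_inv_eq_one.1 hw1
  have hsurj : Function.Surjective f := by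
    intro ⟨t, ht⟩
    obtain ⟨e, he, rfl⟩ := ht
    set A := closure ({B.xH, y} : Set B.H) with hA
    haveI : IsMulCommutative A := Subgroup.isMulCommutative_closure fun a ha b hb => by
      rcases ha with ha | ha <;> rcases hb with hb | hb
      · rw [ha, hb]
      · rw [ha, Set.mem_singleton_iff.1 hb]; exact hyC.eq.symm
      · rw [hb, Set.mem_singleton_iff.1 ha]; exact hyC.eq
      · rw [Set.mem_singleton_iff.1 ha, Set.mem_singleton_iff.1 hb]
    have hrep : ∀ a ∈ A, ∃ i j : ℕ, a = y ^ j * B.xH ^ i := by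
      intro a ha
      induction ha using closure_induction with
      | mem a ha => rcases ha with ha | ha
                    · exact ⟨1, 0, by rw [ha, pow_one, pow_zero, one_mul]⟩
                    · exact ⟨0, 1, by rw [Set.mem_singleton_iff.1 ha, pow_zero, pow_one, mul_one]⟩
      | one => exact ⟨0, 0, by simp⟩
      | mul a b _ _ ea eb =>
        obtain ⟨i, j, rfl⟩ := ea
        obtain ⟨k, l, rfl⟩ := eb
        exact ⟨i + k, j + l, by
          rw [pow_add, pow_add, mul_assoc, ← mul_assoc (B.xH ^ i), ((hyC.pow_left l).pow_right i).eq.symm]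
          simp [mul_assoc]⟩
      | inv a _ ea =>
        obtain ⟨i, j, rfl⟩ := ea
        refine ⟨2 * i, 2 * j, inv_eq_of_mul_eq_one_right ?_⟩
        have hc : Commute (y ^ j) (B.xH ^ i) := (hyC.pow_left j).pow_right i
        rw [pow_mul', pow_mul', ← hc.mul_pow, ← pow_succ', hc.mul_pow, ← pow_mul, ← pow_mul,
          mul_comm i, mul_comm j, pow_mul, pow_mul, hy3, show B.xH ^ 3 = 1 from Subtype.ext B.x3,
          one_pow, one_pow, one_mul]
    have hpow3 : ∀ a ∈ A, a ^ 3 = 1 := fun a ha => by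
      obtain ⟨i, j, rfl⟩ := hrep a ha
      rw [((hyC.pow_left j).pow_right i).mul_pow, ← pow_mul, ← pow_mul, mul_comm i, mul_comm j,
        pow_mul, pow_mul, hy3, show B.xH ^ 3 = 1 from Subtype.ext B.x3, one_pow, one_pow, one_mul]
    have hnc : ¬ IsCyclic A := by
      intro hcy
      obtain ⟨g, hg⟩ := hcy.exists_generator
      have hle : Nat.card A ≤ 3 := by
        rw [← orderOf_eq_card_of_forall_mem_zpowers hg]
        exact Nat.le_of_dvd (by norm_num) (orderOf_dvd_of_pow_eq_one (Subtype.ext (hpow3 g g.2)))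
      refine hyx ?_
      rw [eq_of_le_of_card_ge (zpowers_le.2 (Subgroup.subset_closure (Or.inl rfl) : B.xH ∈ A))
        (by rw [Nat.card_zpowers, show orderOf B.xH = 3 by rw [← Subgroup.orderOf_coe]; exact B.hx]; exact hle)]
      exact Subgroup.subset_closure (Or.inr rfl)
    have hAn : A ≤ normalizer (B.E0 : Set B.H) := fun a _ => by rw [normalizer_eq_top]; exact mem_top a
    obtain ⟨k, hk⟩ := (show IsPGroup 3 A from fun a => ⟨1, Subtype.ext (by
      rw [pow_one]; exact hpow3 a a.2)⟩).exists_card_eq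
    obtain ⟨m, hm⟩ := (Cores.pCore_isPGroup 2 : IsPGroup 2 B.E0).exists_card_eq
    have hgen : B.E0 ≤ (T 0 ⊔ T 1 ⊔ T 2).comap π := by
      refine le_trans (ge_of_eq (Coprime.fixedGen_eq hnc hAn (by rw [hk, hm]; exact Nat.Coprime.pow k m (by norm_num)))) ?_
      refine iSup₂_le fun a ha => ?_
      rintro u ⟨hu, hua⟩
      have hua' : Commute u a := mem_centralizer_singleton_iff.1 hua
      obtain ⟨i, j, rfl⟩ := hrep a ha.1
      have hyj : y ^ j = y ^ (j % 3) := by conv_lhs => rw [← Nat.div_add_mod j 3, pow_add, pow_mul, hy3, one_pow, one_mul]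
      have hxi : ∀ i, B.xH ^ i = B.xH ^ (i % 3) := fun i => by
        conv_lhs => rw [← Nat.div_add_mod i 3, pow_add, pow_mul, show B.xH ^ 3 = 1 from Subtype.ext B.x3, one_pow, one_mul]
      have hjlt : j % 3 < 3 := Nat.mod_lt _ (by norm_num)
      rw [hyj] at hua' ha
      have hin : ∀ k, Commute u (Y k) → u ∈ (T 0 ⊔ T 1 ⊔ T 2).comap π := by
        intro k hk
        have hk' : Y k = Y (k % 3) := by simp only [hY]; rw [hxi k]
        rw [hk'] at hk
        have hmem : π u ∈ T (k % 3) := ⟨u, ⟨hu, mem_centralizer_singleton_iff.2 hk.eq⟩, rfl⟩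
        have : k % 3 = 0 ∨ k % 3 = 1 ∨ k % 3 = 2 := by omega
        rcases this with h | h | h <;> rw [h] at hmem
        exacts [mem_sup_left (mem_sup_left hmem), mem_sup_left (mem_sup_right hmem), mem_sup_right hmem]
      generalize j % 3 = j' at hjlt hua' ha
      interval_cases j'
      · rw [pow_zero, one_mul, hxi] at ha hua'
        have h3' : i % 3 < 3 := Nat.mod_lt _ (by norm_num)
        have hxu : Commute u B.xH := by
          generalize i % 3 = i' at h3' hua' ha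
          interval_cases i'
          · exact absurd (pow_zero _) ha.2
          · rwa [pow_one] at hua'
          · have h4 := hua'.pow_right 2
            rwa [← pow_mul, show 2 * 2 = 3 + 1 from rfl, pow_succ,
              show B.xH ^ 3 = 1 from Subtype.ext B.x3, one_mul] at h4
        have h1 : u ∈ N := (zpowers_le.2 hz) (B.fix_x hu hxu)
        show π u ∈ T 0 ⊔ T 1 ⊔ T 2
        rw [show π u = 1 from (QuotientGroup.eq_one_iff _).2 h1]
        exact one_mem _
      · rw [pow_one] at hua'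
        exact hin i hua'
      · refine hin (2 * i) ?_
        have h4 := hua'.pow_right 2
        rw [((hyC.pow_left 2).pow_right i).mul_pow, ← pow_mul, show 2 * 2 = 3 + 1 from rfl, pow_succ, hy3,
          one_mul, ← pow_mul, mul_comm i 2] at h4
        exact h4
    have ht : π e ∈ T 0 ⊔ T 1 ⊔ T 2 := hgen he
    have hn01 : T 0 ≤ normalizer (T 1 : Set (B.H ⧸ N)) := fun a ha => mem_normalizer_iff.2 fun b => by
      constructor
      · intro hb
        rwa [(habel _ (hT_le 0 ha) _ (hT_le 1 hb)).eq, mul_inv_cancel_right]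
      · intro hb
        have h2 := habel _ (hT_le 0 (inv_mem ha)) _ (hT_le 1 hb)
        have : b = a * b * a⁻¹ := by
          calc b = a⁻¹ * (a * b * a⁻¹) * a := by group
            _ = a * b * a⁻¹ := by rw [h2.eq]; group
        rwa [this]
    have hn2 : T 0 ⊔ T 1 ≤ normalizer (T 2 : Set (B.H ⧸ N)) := fun a ha => mem_normalizer_iff.2 fun b => by
      have haE : a ∈ Eb := (sup_le (hT_le 0) (hT_le 1)) ha
      constructor
      · intro hb
        rwa [(habel _ haE _ (hT_le 2 hb)).eq, mul_inv_cancel_right]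
      · intro hb
        have h2 := habel _ (inv_mem haE) _ (hT_le 2 hb)
        have : b = a * b * a⁻¹ := by
          calc b = a⁻¹ * (a * b * a⁻¹) * a := by group
            _ = a * b * a⁻¹ := by rw [h2.eq]; group
        rwa [this]
    have ht' : π e ∈ ((T 0 : Set (B.H ⧸ N)) * (T 1 : Set (B.H ⧸ N))) * (T 2 : Set (B.H ⧸ N)) := by
      rw [← coe_mul_of_left_le_normalizer_right _ _ hn01, ← coe_mul_of_left_le_normalizer_right _ _ hn2]
      exact ht
    obtain ⟨_, ⟨a, ha, b, hb, rfl⟩, c, hc, hh⟩ := ht'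
    exact ⟨(⟨a, ha⟩, ⟨b, hb⟩, ⟨c, hc⟩), Subtype.ext hh⟩
  have hprod : Nat.card (T 0) * (Nat.card (T 1) * Nat.card (T 2)) = Nat.card Eb := by
    rw [← Nat.card_prod, ← Nat.card_prod]
    exact Nat.card_congr (Equiv.ofBijective f ⟨hinj, hsurj⟩)
  have hTi : ∀ i, Nat.card (T i) * Nat.card (B.fixN N y) = Nat.card (B.fixN B.E0 y) := by
    intro i
    rw [← hcardY N i, ← hcardY B.E0 i, ← (π.ker.subgroupOf (B.fixN B.E0 (Y i))).card_mul_index, mul_comm]
    congr 1
    · rw [← card_map_of_injective (subtype_injective (B.fixN B.E0 (Y i)))]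
      congr 2
      rw [hπ, QuotientGroup.ker_mk', subgroupOf_map_subtype]
      ext u
      exact ⟨fun h => ⟨h.1, hN h.1, h.2⟩, fun h => ⟨h.1, h.2.2⟩⟩
    · rw [← MonoidHom.ker_domRestrict, index_ker, MonoidHom.domRestrict_range]
  have hE : Nat.card N * Nat.card Eb = Nat.card B.E0 := by
    rw [← (π.ker.subgroupOf B.E0).card_mul_index]
    congr 1
    · rw [hπ, QuotientGroup.ker_mk']
      exact (Nat.card_congr (subgroupOfEquivOfLe hN).toEquiv).symm
    · rw [← MonoidHom.ker_domRestrict, index_ker, MonoidHom.domRestrict_range]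
  rw [← hE, ← hprod, pow_three]
  have h0 := hTi 0
  have h1 := hTi 1
  have h2 := hTi 2
  rw [pow_three]
  calc _ = Nat.card N * ((Nat.card (T 0) * Nat.card (B.fixN N y)) *
        ((Nat.card (T 1) * Nat.card (B.fixN N y)) * (Nat.card (T 2) * Nat.card (B.fixN N y)))) := by ring
    _ = _ := by rw [h0, h1, h2]

end Base

end Cfsg.Agent.J4ThreeLocal
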