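import Cfsg.Agent.Lib.J4ThreeLocal.Extra

/-!
# The order and type of `O₂(C(z))`
-/

set_option autoImplicit false
set_option linter.style.haveILetI false
set_option linter.unusedSectionVars false

namespace Cfsg.Agent.J4ThreeLocal

open Subgroup
open scoped commutatorElement Pointwise

universe u

/-- Squares lie in the Frattini subgroup of a `2`-group. -/
theorem mul_self_mem_frattini' {F : Type u} [Group F] [Finite F] (hF : IsPGroup 2 F) (f : F) :
    f * f ∈ frattini F := by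
  change f * f ∈ Order.radical (Subgroup F)
  rw [Order.radical]
  refine Subgroup.mem_iInf.2 fun M => Subgroup.mem_iInf.2 fun hM => ?_
  haveI := hF.isNilpotent
  haveI := Subgroup.NormalizerCondition.normal_of_coatom M
    Group.normalizerCondition_of_isNilpotent hM
  by_contra hn
  set π := QuotientGroup.mk' M
  set H := (Subgroup.zpowers (π (f * f))).comap π with hH
  have hMH : M < H := by
    refine lt_of_le_of_ne (fun t ht => ?_) fun e => hn ?_
    · show π t ∈ Subgroup.zpowers (π (f * f))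
      rw [show π t = 1 from (QuotientGroup.eq_one_iff t).2 ht]
      exact one_mem _
    · rw [e]
      exact Subgroup.mem_zpowers _
  have hf : π f ∈ Subgroup.zpowers (π (f * f)) := by
    have : f ∈ H := by rw [hM.2 _ hMH]; trivial
    exact this
  obtain ⟨k, hk⟩ := Subgroup.mem_zpowers_iff.1 hf
  obtain ⟨j, hj⟩ := IsPGroup.iff_orderOf.1 (hF.to_quotient M) (π f)
  have h1 : π f ^ (2 * k - 1) = 1 := by
    rw [zpow_sub, zpow_one, zpow_mul, show π f ^ (2 : ℤ) = π (f * f) by
      rw [map_mul, zpow_two], hk, mul_inv_cancel]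
  have h2 : ((orderOf (π f) : ℕ) : ℤ) ∣ 2 * k - 1 := orderOf_dvd_iff_zpow_eq_one.2 h1
  rcases Nat.eq_zero_or_pos j with rfl | hj0
  · rw [pow_zero, orderOf_eq_one_iff] at hj
    exact hn ((QuotientGroup.eq_one_iff (f * f)).1 (by
      show π (f * f) = 1
      rw [map_mul, hj, one_mul]))
  · have h3 : (2 : ℤ) ∣ 2 * k - 1 :=
      (Int.natCast_dvd_natCast.2 (hj ▸ dvd_pow_self 2 (by omega))).trans h2
    omega

namespace Base

variable {G : Type u} [Group G] [Finite G] (B : Base G)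

theorem exists_pair : ∃ y g : G, y ∈ B.C ∧ y ∉ zpowers B.x ∧ g * B.x * g⁻¹ = y := by
  obtain ⟨g, h1, h2⟩ := B.out
  exact ⟨g * B.x * g⁻¹, g, B.mem_C.2 h1, h2, rfl⟩

theorem card_fixN_E0 (y : B.H) :
    Nat.card (B.fixN B.E0 y) = Nat.card (B.E ⊓ centralizer ({(y : G)} : Set G) : Subgroup G) := by
  have e : (B.fixN B.E0 y).map B.H.subtype = B.E ⊓ centralizer ({(y : G)} : Set G) := by
    ext a
    constructor
    · rintro ⟨u, ⟨h1, h2⟩, rfl⟩
      exact ⟨B.mem_E0.1 h1, mem_centralizer_singleton_iff.2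
        (congrArg Subtype.val (mem_centralizer_singleton_iff.1 h2))⟩
    · rintro ⟨h1, h2⟩
      exact ⟨⟨a, B.E_le_H h1⟩, ⟨B.mem_E0.2 h1,
        mem_centralizer_singleton_iff.2 (Subtype.ext (mem_centralizer_singleton_iff.1 h2))⟩, rfl⟩
  rw [← e, card_map_of_injective B.H.subtype_injective]

/-- An element of order eleven of `C`, moving `E`. -/
theorem exists_eleven : ∃ σ : B.H, σ ^ 11 = 1 ∧ Commute σ B.zH ∧
    ¬ B.E0 ≤ centralizer ({σ} : Set B.H) := by
  haveI : Fact (Nat.Prime 11) := ⟨by norm_num⟩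
  haveI : Fact (Nat.Prime 2) := ⟨Nat.prime_two⟩
  haveI := Cfsg.Agent.Golay.M22TwoBlock.isSimple
  obtain ⟨c, hc⟩ := exists_prime_orderOf_dvd_card' (G := B.C) 11 (by
    rw [card_cover Cfsg.Agent.Golay.M22Involution.card_M22 B.hq B.cardKer (by norm_num)]
    norm_num)
  have ho : orderOf (c : G) = 11 := by rw [Subgroup.orderOf_coe, hc]
  refine ⟨⟨c, B.C_le_H c.2⟩, Subtype.ext (by show (c : G) ^ 11 = 1; rw [← ho, pow_orderOf_eq_one]),
    Subtype.ext (B.hzC _ c.2).eq, fun h => ?_⟩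
  have hE : (c : G) ∈ B.E := B.cent_E (B.C_le_H c.2) fun e he => by
    have := h (B.mem_E0.2 he : (⟨e, B.E_le_H he⟩ : B.H) ∈ B.E0)
    exact (congrArg Subtype.val (mem_centralizer_singleton_iff.1 this)).symm
  obtain ⟨n, hn⟩ := B.E_two.exists_card_eq
  have := Subgroup.orderOf_dvd_natCard B.E hE
  rw [ho, hn] at this
  have h2 := (by norm_num : Nat.Prime 11).dvd_of_dvd_pow this
  norm_num at h2

instance zH_normal : (zpowers B.zH).Normal := ⟨fun a ha h => by
  rcases B.zH_cases ha with e | e <;> rw [e]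
  · simp
  · rw [(show Commute h B.zH from Subtype.ext (B.mem_H.1 h.2).eq).eq, mul_inv_cancel_right]
    exact mem_zpowers _⟩

/-- A normal 2-subgroup with only `⟨z⟩` fixed by each of `x`, `y x^i` is inside `⟨z⟩`. -/
theorem le_zpowers_of_fix {y : B.H} (hyC : Commute y B.xH) (hy3 : y ^ 3 = 1) (hyx : y ∉ zpowers B.xH)
    {N : Subgroup B.H} [N.Normal] (hN : N ≤ B.E0)
    (hfix : ∀ i : ℕ, B.fixN N (y * B.xH ^ i) ≤ zpowers B.zH) : N ≤ zpowers B.zH := by
  classical
  haveI : Fact (Nat.Prime 2) := ⟨Nat.prime_two⟩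
  haveI : Fact (Nat.Prime 3) := ⟨Nat.prime_three⟩
  have hx3 : B.xH ^ 3 = 1 := Subtype.ext B.x3
  set A := closure ({B.xH, y} : Set B.H) with hA
  haveI : IsMulCommutative A := Subgroup.isMulCommutative_closure fun a ha b hb => by
    rcases ha with ha | ha <;> rcases hb with hb | hb
    · rw [ha, hb]
    · rw [ha, Set.mem_singleton_iff.1 hb]; exact hyC.eq.symm
    · rw [hb, Set.mem_singleton_iff.1 ha]; exact hyC.eq
    · rw [Set.mem_singleton_iff.1 ha, Set.mem_singleton_iff.1 hb]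
  have hrep : ∀ a ∈ A, a ^ 3 = 1 ∧ (a ∈ zpowers B.xH ∨
      ∃ i : ℕ, a ∈ zpowers (y * B.xH ^ i) ∧ y * B.xH ^ i ∈ zpowers a) := by
    have hrep' : ∀ a ∈ A, ∃ i j : ℕ, a = y ^ j * B.xH ^ i := by
      intro a ha
      have hle : A ≤ zpowers y ⊔ zpowers B.xH := (closure_le _).2 (by
        rintro a (ha | ha)
        · rw [ha]; exact mem_sup_right (mem_zpowers _)
        · rw [Set.mem_singleton_iff.1 ha]; exact mem_sup_left (mem_zpowers _))
      have hn : zpowers y ≤ normalizer (zpowers B.xH : Set B.H) :=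
        zpowers_le.2 (mem_normalizer_iff.2 fun w => by
          constructor
          · intro hw
            obtain ⟨k, rfl⟩ := mem_zpowers_iff.1 hw
            rw [(hyC.zpow_right k).eq, mul_inv_cancel_right]
            exact hw
          · intro hw
            obtain ⟨k, hk⟩ := mem_zpowers_iff.1 hw
            have : w = B.xH ^ k := by
              calc w = y⁻¹ * (y * w * y⁻¹) * y := by group
                _ = B.xH ^ k := by rw [← hk, mul_assoc, ← (hyC.zpow_right k).eq, inv_mul_cancel_left]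
            exact this ▸ zpow_mem (mem_zpowers _) k)
      have h := hle ha
      rw [← SetLike.mem_coe, coe_mul_of_left_le_normalizer_right _ _ hn] at h
      obtain ⟨b, hb, c, hc, rfl⟩ := Set.mem_mul.1 h
      rw [SetLike.mem_coe, ← mem_powers_iff_mem_zpowers] at hb hc
      obtain ⟨j, rfl⟩ := hb
      obtain ⟨i, rfl⟩ := hc
      exact ⟨i, j, rfl⟩
    intro a ha
    obtain ⟨i, j, rfl⟩ := hrep' a ha
    refine ⟨by rw [((hyC.pow_left j).pow_right i).mul_pow, ← pow_mul, ← pow_mul, mul_comm i, mul_comm j,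
        pow_mul, pow_mul, hy3, hx3, one_pow, one_pow, one_mul], ?_⟩
    have hyj : y ^ j = y ^ (j % 3) := by
      conv_lhs => rw [← Nat.div_add_mod j 3, pow_add, pow_mul, hy3, one_pow, one_mul]
    rw [hyj]
    have hjlt : j % 3 < 3 := Nat.mod_lt _ (by norm_num)
    generalize j % 3 = j' at hjlt
    interval_cases j'
    · rw [pow_zero, one_mul]; exact Or.inl (pow_mem (mem_zpowers _) i)
    · rw [pow_one]; exact Or.inr ⟨i, mem_zpowers _, mem_zpowers _⟩
    · refine Or.inr ⟨2 * i, ?_, ?_⟩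
      · have e : (y * B.xH ^ (2 * i)) ^ 2 = y ^ 2 * B.xH ^ i := by
          rw [(hyC.pow_right (2 * i)).mul_pow, ← pow_mul, show 2 * i * 2 = i + 3 * i by ring, pow_add,
            pow_mul B.xH 3, hx3, one_pow, mul_one]
        exact e ▸ pow_mem (mem_zpowers _) 2
      · have e : (y ^ 2 * B.xH ^ i) ^ 2 = y * B.xH ^ (2 * i) := by
          rw [((hyC.pow_left 2).pow_right i).mul_pow, ← pow_mul, ← pow_mul, show 2 * 2 = 3 + 1 from rfl,
            pow_succ, hy3, one_mul, mul_comm i 2]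
        exact e ▸ pow_mem (mem_zpowers _) 2
  have hnc : ¬ IsCyclic A := by
    intro hcy
    obtain ⟨g, hg⟩ := hcy.exists_generator
    have hle : Nat.card A ≤ 3 := by
      rw [← orderOf_eq_card_of_forall_mem_zpowers hg]
      exact Nat.le_of_dvd (by norm_num) (orderOf_dvd_of_pow_eq_one (Subtype.ext (hrep g g.2).1))
    refine hyx ?_
    rw [eq_of_le_of_card_ge (zpowers_le.2 (Subgroup.subset_closure (Or.inl rfl) : B.xH ∈ A))
      (by rw [Nat.card_zpowers, show orderOf B.xH = 3 by rw [← Subgroup.orderOf_coe]; exact B.hx]; exact hle)]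
    exact Subgroup.subset_closure (Or.inr rfl)
  have hAn : A ≤ normalizer (N : Set B.H) := fun a _ => by rw [normalizer_eq_top]; exact mem_top a
  obtain ⟨k, hk⟩ := (show IsPGroup 3 A from fun a => ⟨1, Subtype.ext (by
    rw [pow_one]; exact (hrep a a.2).1)⟩).exists_card_eq
  obtain ⟨m, hm⟩ := ((Cores.pCore_isPGroup 2).to_le hN : IsPGroup 2 N).exists_card_eq
  rw [← Coprime.fixedGen_eq hnc hAn (by rw [hk, hm]; exact Nat.Coprime.pow k m (by norm_num))]
  refine iSup₂_le fun a ha => ?_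
  rintro u ⟨hu, hua⟩
  have hua' : Commute u a := mem_centralizer_singleton_iff.1 hua
  rcases (hrep a ha.1).2 with h | ⟨i, -, h⟩
  · have hmem : B.xH ∈ zpowers a := by
      rw [eq_of_le_of_card_ge (zpowers_le.2 h) (by
        rw [Nat.card_zpowers, Nat.card_zpowers, show orderOf B.xH = 3 by rw [← Subgroup.orderOf_coe]; exact B.hx,
          orderOf_eq_prime (hrep a ha.1).1 ha.2])]
      exact mem_zpowers _
    obtain ⟨n, hn⟩ := mem_zpowers_iff.1 hmem
    exact B.fix_x (hN hu) (hn ▸ hua'.zpow_right n)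
  · obtain ⟨n, hn⟩ := mem_zpowers_iff.1 h
    exact hfix i ⟨hu, mem_centralizer_singleton_iff.2 (hn ▸ hua'.zpow_right n).eq⟩

/-- **The facts about `E`.** -/
theorem facts : Nat.card B.E0 = 2 ^ 13 ∧ Cfsg.IsExtraspecial 2 ↥B.E0 ∧
    ∀ y g : G, y ∈ B.C → y ∉ zpowers B.x → g * B.x * g⁻¹ = y →
      Nat.card (B.E ⊓ centralizer ({y} : Set G) : Subgroup G) = 32 := by
  classical
  haveI : Fact (Nat.Prime 2) := ⟨Nat.prime_two⟩
  suffices h : ∀ y g : G, y ∈ B.C → y ∉ zpowers B.x → g * B.x * g⁻¹ = y →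
      Nat.card B.E0 = 2 ^ 13 ∧ Cfsg.IsExtraspecial 2 ↥B.E0 ∧
        Nat.card (B.E ⊓ centralizer ({y} : Set G) : Subgroup G) = 32 by
    obtain ⟨y, g, h1, h2, h3⟩ := B.exists_pair
    exact ⟨(h y g h1 h2 h3).1, (h y g h1 h2 h3).2.1, fun y g h1 h2 h3 => (h y g h1 h2 h3).2.2⟩
  intro y0 g hy hyx hg
  obtain ⟨hm, hloc⟩ := B.three_local hy hyx hg
  obtain ⟨s0, hs0C, hs0⟩ := B.exists_shift_C hy (by rw [← hg, conj_pow, B.x3, mul_one, mul_inv_cancel]) hyx 1
  rw [pow_one] at hs0
  set y : B.H := ⟨y0, B.C_le_H hy⟩ with hyd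
  set s : B.H := ⟨s0, B.C_le_H hs0C⟩ with hsd
  have hyC : Commute y B.xH := Subtype.ext (B.mem_C.1 hy).eq
  have hy3 : y ^ 3 = 1 := Subtype.ext (by show y0 ^ 3 = 1; rw [← hg, conj_pow, B.x3, mul_one, mul_inv_cancel])
  have hyx' : y ∉ zpowers B.xH := fun h => by
    obtain ⟨i, hi⟩ := mem_zpowers_iff.1 h
    exact hyx (mem_zpowers_iff.2 ⟨i, congrArg Subtype.val hi⟩)
  have hsx : Commute s B.xH := Subtype.ext (B.mem_C.1 hs0C).eq
  have hs : s * y * s⁻¹ = y * B.xH := Subtype.ext hs0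
  have hsplit := fun (N : Subgroup B.H) [N.Normal] (h1 : N ≤ B.E0) (h2 : B.zH ∈ N) (h3 : ⁅B.E0, B.E0⁆ ≤ N) =>
    B.split hyC hy3 hyx' hsx hs N h1 h2 h3
  set m := Nat.card (B.E ⊓ centralizer ({y0} : Set G) : Subgroup G) with hmdef
  have hmy : Nat.card (B.fixN B.E0 y) = m := B.card_fixN_E0 y
  have hzy : ∀ (N : Subgroup B.H), B.zH ∈ N → 2 ∣ Nat.card (B.fixN N y) := fun N hN => by
    have : orderOf B.zH = 2 := by rw [← Subgroup.orderOf_coe]; exact B.hz
    rw [← this]
    exact Subgroup.orderOf_dvd_natCard _ ⟨hN, mem_centralizer_singleton_iff.2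
      (Subtype.ext (B.hzC y0 hy).eq.symm)⟩
  have hdiv : ∀ (N : Subgroup B.H), N ≤ B.E0 → B.zH ∈ N →
      Nat.card (B.fixN N y) ∈ ({2, 4, 8, 16, 32} : Finset ℕ) ∧ Nat.card (B.fixN N y) ≤ m := by
    intro N hN hz
    have hle : B.fixN N y ≤ B.fixN B.E0 y := inf_le_inf_right _ hN
    have h1 := card_dvd_of_le hle
    rw [hmy] at h1
    have h2 := hzy N hz
    have hm32 : m ∣ 2 ^ 5 := by rcases hm with e | e | e <;> rw [e] <;> norm_num
    obtain ⟨k, hk, e⟩ := (Nat.dvd_prime_pow Nat.prime_two).1 (h1.trans hm32)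
    refine ⟨?_, Nat.le_of_dvd (by rcases hm with e | e | e <;> omega) h1⟩
    rw [e] at h2 ⊢
    interval_cases k <;> simp at h2 ⊢
  obtain ⟨σ, hσ11, hσz, hσE⟩ := B.exists_eleven
  have hfixz : zpowers B.zH ≤ centralizer ({σ} : Set B.H) :=
    zpowers_le.2 (mem_centralizer_singleton_iff.2 hσz.symm.eq)
  have hE2 : IsPGroup 2 B.E0 := Cores.pCore_isPGroup 2
  -- the Frattini subgroup with `z`
  haveI : Group.IsNilpotent B.E0 := hE2.isNilpotent
  set Φ := (frattini B.E0).map B.E0.subtype with hΦ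
  haveI hΦn : Φ.Normal := Cores.normal_map_subtype B.E0 (frattini B.E0)
  set F := Φ ⊔ zpowers B.zH with hF
  haveI hFn : F.Normal := inferInstance
  have hFle : F ≤ B.E0 := sup_le (map_subtype_le _) (zpowers_le.2 B.zH_mem)
  have hzF : B.zH ∈ F := mem_sup_right (mem_zpowers _)
  have hcΦ : ⁅B.E0, B.E0⁆ ≤ Φ := commutator_le.2 fun a ha b hb =>
    ⟨⁅(⟨a, ha⟩ : B.E0), ⟨b, hb⟩⁆, Coprime.commutator_le_frattini B.E0
      (commutator_mem_commutator (mem_top _) (mem_top _)), rfl⟩
  have hcF : ⁅B.E0, B.E0⁆ ≤ F := hcΦ.trans le_sup_left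
  have hF' := hsplit F hFle hzF hcF
  rw [hmy] at hF'
  have hsmallF : ¬ Nat.card B.E0 < Nat.card F * 2 ^ 10 := by
    intro hlt
    have hfix := le_fixed_sup hσ11 B.E0 F hFle hE2 (fun k hk => (inferInstance : B.E0.Normal).conj_mem k hk σ) (fun k hk => hFn.conj_mem k hk σ)
      (fun k _ n hn => hFn.conj_mem n hn k) hlt
    set W := B.E0 ⊓ centralizer ({σ} : Set B.H) with hW
    have hle : B.E0 ≤ W ⊔ Φ := hfix.trans (sup_le le_sup_left (sup_le le_sup_right
      ((zpowers_le.2 (show B.zH ∈ W from ⟨B.zH_mem, hfixz (mem_zpowers _)⟩)).trans le_sup_left)))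
    have htop : W.subgroupOf B.E0 ⊔ frattini B.E0 = ⊤ := by
      refine map_injective B.E0.subtype_injective ?_
      rw [Subgroup.map_sup, subgroupOf_map_subtype, ← MonoidHom.range_eq_map, Subgroup.range_subtype,
        inf_eq_left.2 (inf_le_left : W ≤ B.E0)]
      exact le_antisymm (sup_le inf_le_left (map_subtype_le _)) hle
    exact hσE ((subgroupOf_eq_top.1 (frattini_nongenerating htop)).trans inf_le_right)
  obtain ⟨hkF, hkm⟩ := hdiv F hFle hzF
  have hmk : m = 32 ∧ Nat.card (B.fixN F y) = 2 := by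
    by_contra hne
    refine hsmallF ?_
    have hpos : 0 < Nat.card F := Nat.card_pos
    simp only [Finset.mem_insert, Finset.mem_singleton] at hkF
    rcases hm with e | e | e <;> rw [e] at hF' hkm hne <;> rcases hkF with f | f | f | f | f <;>
      rw [f] at hF' hkm hne
    all_goals (try norm_num at hF' hkm hne ⊢)
    all_goals omega
  obtain ⟨hm32, hF2⟩ := hmk
  rw [hm32, hF2] at hF'
  -- `F = ⟨z⟩`
  have hfixF : ∀ i : ℕ, B.fixN F (y * B.xH ^ i) ≤ zpowers B.zH := by
    intro i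
    have hc : Nat.card (B.fixN F (y * B.xH ^ i)) = 2 := by
      rw [← hF2]
      have e : s ^ i * y * (s ^ i)⁻¹ = y * B.xH ^ i := by
        induction i with
        | zero => simp
        | succ i ih =>
          rw [pow_succ', mul_inv_rev, show s * s ^ i * y * ((s ^ i)⁻¹ * s⁻¹) = s * (s ^ i * y * (s ^ i)⁻¹) * s⁻¹ by group, ih,
            show s * (y * B.xH ^ i) * s⁻¹ = (s * y * s⁻¹) * (s * B.xH ^ i * s⁻¹) by group, hs,
            (hsx.pow_right i).eq, mul_inv_cancel_right, mul_assoc, ← pow_succ']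
      rw [← e]
      exact B.card_fixN_conj F _ y
    have hzfix : B.zH ∈ B.fixN F (y * B.xH ^ i) := mem_inf.2 ⟨hzF, mem_centralizer_singleton_iff.2 ?_⟩
    refine (eq_of_le_of_card_ge (zpowers_le.2 hzfix) ?_).ge
    swap
    · exact (show Commute B.zH (y * B.xH ^ i) from
        (show Commute B.zH y from Subtype.ext (B.hzC y0 hy).eq.symm).mul_right
          ((show Commute B.zH B.xH from Subtype.ext B.hxz.eq).pow_right i)).eq
    · rw [hc, Nat.card_zpowers, ← Subgroup.orderOf_coe]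
      exact le_of_eq B.hz.symm
  have hFz : F = zpowers B.zH :=
    le_antisymm (B.le_zpowers_of_fix hyC hy3 hyx' hFle hfixF) le_sup_right
  have hz2 : Nat.card (zpowers B.zH) = 2 := by
    rw [Nat.card_zpowers, ← Subgroup.orderOf_coe]
    exact B.hz
  have hcardE : Nat.card B.E0 = 2 ^ 13 := by
    rw [hFz, hz2] at hF'
    norm_num at hF' ⊢
    omega
  refine ⟨hcardE, ?_, hm32⟩
  have hcz : ⁅B.E0, B.E0⁆ ≤ zpowers B.zH := hFz ▸ hcF
  -- the center
  set Z := (center B.E0).map B.E0.subtype with hZ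
  haveI hZn : Z.Normal := Cores.normal_map_subtype B.E0 (center B.E0)
  have hzZ : B.zH ∈ Z := ⟨⟨B.zH, B.zH_mem⟩, mem_center_iff.2 fun a => Subtype.ext (Subtype.ext (B.mem_H.1 (a : B.H).2)), rfl⟩
  have hZle : Z ≤ B.E0 := map_subtype_le _
  have hZ' := hsplit Z hZle hzZ (hcz.trans (zpowers_le.2 hzZ))
  rw [hmy, hm32, hcardE] at hZ'
  obtain ⟨hkZ, -⟩ := hdiv Z hZle hzZ
  simp only [Finset.mem_insert, Finset.mem_singleton] at hkZ
  have hmid : ¬ (16 ≤ Nat.card Z ∧ Nat.card Z ≤ 1024) := by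
    rintro ⟨l1, l2⟩
    have a1 := le_fixed_sup hσ11 Z (zpowers B.zH) (zpowers_le.2 hzZ) (hE2.to_le hZle)
      (fun k hk => hZn.conj_mem k hk σ) (fun k hk => (B.zH_normal).conj_mem k hk σ)
      (fun k _ n hn => (B.zH_normal).conj_mem n hn k) (by rw [hz2]; omega)
    have a2 := le_fixed_sup hσ11 B.E0 Z hZle hE2 (fun k hk => (inferInstance : B.E0.Normal).conj_mem k hk σ) (fun k hk => hZn.conj_mem k hk σ)
      (fun k _ n hn => hZn.conj_mem n hn k) (by rw [hcardE]; norm_num; omega)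
    exact hσE (a2.trans (sup_le inf_le_right (a1.trans (sup_le inf_le_right hfixz))))
  have hZ2 : Nat.card Z = 2 := by
    by_contra hne
    have hall : Nat.card Z = 8192 := by
      rcases hkZ with f | f | f | f | f <;> rw [f] at hZ' <;> norm_num at hZ' <;> omega
    -- abelian, hence elementary
    have hab : ∀ a ∈ B.E0, ∀ b ∈ B.E0, Commute a b := by
      have e : Z = B.E0 := eq_of_le_of_card_ge hZle (by rw [hall, hcardE]; norm_num)
      intro a ha b hb
      obtain ⟨a', ha', rfl⟩ := (e.symm ▸ ha : a ∈ Z)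
      exact congrArg Subtype.val (mem_center_iff.1 ha' ⟨b, hb⟩).symm
    obtain ⟨⟨e, he, hee⟩, -⟩ := hloc hm32
    set a : B.H := ⟨e, B.E_le_H he⟩ with ha
    have haE : a ∈ B.E0 := B.mem_E0.2 he
    have hsq : ∀ u ∈ B.E0, u * u ∈ zpowers B.zH := fun u hu => by
      rw [← hFz]
      refine le_sup_left (α := Subgroup B.H) ⟨⟨u, hu⟩ * ⟨u, hu⟩, mul_self_mem_frattini' hE2 ⟨u, hu⟩, rfl⟩
    set b := B.xH * a * B.xH⁻¹ with hb
    set c := B.xH * b * B.xH⁻¹ with hc
    have hbE : b ∈ B.E0 := (inferInstance : B.E0.Normal).conj_mem a haE _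
    have hcE : c ∈ B.E0 := (inferInstance : B.E0.Normal).conj_mem b hbE _
    have hp : a * b * c ∈ zpowers B.zH := by
      refine B.fix_x (mul_mem (mul_mem haE hbE) hcE) ?_
      have h3 : B.xH * c * B.xH⁻¹ = a := by
        calc B.xH * c * B.xH⁻¹ = B.xH ^ 3 * a * (B.xH ^ 3)⁻¹ := by
              rw [hc, hb]; simp [pow_succ, mul_assoc]
          _ = a := by rw [show B.xH ^ 3 = 1 from Subtype.ext B.x3]; group
      refine (mul_inv_eq_iff_eq_mul.1 ?_).symm
      calc B.xH * (a * b * c) * B.xH⁻¹ = b * c * (B.xH * c * B.xH⁻¹) := by rw [hc, hb]; group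
        _ = a * b * c := by rw [h3, (hab _ (mul_mem hbE hcE) a haE).eq]; exact (mul_assoc a b c).symm
    have hconjsq : ∀ u : B.H, u * u ∈ zpowers B.zH → B.xH * u * B.xH⁻¹ * (B.xH * u * B.xH⁻¹) = u * u := by
      intro u hu
      rw [show B.xH * u * B.xH⁻¹ * (B.xH * u * B.xH⁻¹) = B.xH * (u * u) * B.xH⁻¹ by group]
      rcases B.zH_cases hu with e | e <;> rw [e]
      · group
      · rw [(show Commute B.xH B.zH from Subtype.ext B.hxz.eq.symm).eq, mul_inv_cancel_right]
    have hb2 : b * b = a * a := hconjsq a (hsq a haE)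
    have hc2 : c * c = a * a := (hconjsq b (hsq b hbE)).trans hb2
    have hp2 : (a * b * c) * (a * b * c) = (a * a) * (a * a) * (a * a) := by
      have e1 := hab _ hcE _ (mul_mem haE hbE)
      calc (a * b * c) * (a * b * c) = (a * b) * (c * (a * b)) * c := by group
        _ = (a * b) * ((a * b) * c) * c := by rw [e1.eq]
        _ = a * (b * a) * b * (c * c) := by group
        _ = a * (a * b) * b * (c * c) := by rw [(hab _ hbE _ haE).eq]
        _ = (a * a) * (b * b) * (c * c) := by group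
        _ = _ := by rw [hb2, hc2]
    have hone : a * a = 1 := by
      have hz1 : (a * b * c) * (a * b * c) = 1 := by
        rcases B.zH_cases hp with e | e <;> rw [e]
        · exact one_mul 1
        · exact Subtype.ext B.zz
      rw [hp2] at hz1
      rcases B.zH_cases (hsq a haE) with e | e
      · exact e
      · rw [e] at hz1
        exfalso
        have : (B.z : G) * B.z * B.z = 1 := congrArg Subtype.val hz1
        rw [B.zz, one_mul] at this
        exact B.z_ne this
    exact hee (congrArg Subtype.val hone)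
  have hZz : Z = zpowers B.zH :=
    (eq_of_le_of_card_ge (zpowers_le.2 hzZ) (by rw [hz2, hZ2])).symm
  have hc2 : Nat.card (center B.E0) = 2 := by
    rw [← card_map_of_injective B.E0.subtype_injective]
    exact hZ2
  have hΦle : frattini B.E0 ≤ center B.E0 := by
    have h : Φ ≤ Z := by rw [hZz, ← hFz]; exact le_sup_left
    exact (map_le_map_iff_of_injective B.E0.subtype_injective).1 h
  have hcomne : commutator B.E0 ≠ ⊥ := by
    intro e
    have htop : center B.E0 = ⊤ := by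
      refine eq_top_iff.2 fun a _ => mem_center_iff.2 fun b => ?_
      have hmem : ⁅b, a⁆ ∈ commutator B.E0 := commutator_mem_commutator (mem_top _) (mem_top _)
      rw [e, mem_bot] at hmem
      exact (commutatorElement_eq_one_iff_commute.1 hmem).eq
    have := hc2
    rw [htop, Subgroup.card_top, hcardE] at this
    norm_num at this
  have hcomeq : commutator B.E0 = center B.E0 := by
    refine eq_of_le_of_card_ge ((Coprime.commutator_le_frattini B.E0).trans hΦle) ?_
    rw [hc2]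
    exact Finite.one_lt_card_iff_nontrivial.2 ((Subgroup.nontrivial_iff_ne_bot _).2 hcomne)
  refine ⟨⟨hE2, le_antisymm hΦle (hcomeq ▸ Coprime.commutator_le_frattini B.E0), hcomeq⟩, hc2⟩

end Base

end Cfsg.Agent.J4ThreeLocal
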