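import Mathlib

/-!
# A finite check in the linear group of a space of order 16

A linear map of `F₂⁴` is coded by the four images of the basis vectors, four bits each. `MX` is
fixed-point-free of order three, `MY` is `MX` on the first half and its inverse on the second. A
further map with `c² + c + 1 = 0` other than `MX`, `MX²` has a conjugate, by a short word in the three
maps, that commutes with `MX` or `MY` and is different from `MX`, `MX²`.
-/

set_option autoImplicit false
set_option maxRecDepth 20000

namespace Cfsg.Agent.J4ThreeLocal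

/-- The image of the `k`-th basis vector. -/
def img (c k : ℕ) : ℕ := (c >>> (4 * k)) &&& 15

/-- The value of the coded map. -/
def app (c v : ℕ) : ℕ :=
  (if v &&& 1 = 1 then img c 0 else 0) ^^^ (if v &&& 2 = 2 then img c 1 else 0) ^^^
    (if v &&& 4 = 4 then img c 2 else 0) ^^^ (if v &&& 8 = 8 then img c 3 else 0)

/-- The code of four images. -/
def mk4 (a b c d : ℕ) : ℕ := a ||| (b <<< 4) ||| (c <<< 8) ||| (d <<< 12)

/-- Composition of coded maps. -/
def comp (a b : ℕ) : ℕ :=
  mk4 (app a (img b 0)) (app a (img b 1)) (app a (img b 2)) (app a (img b 3))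

/-- The scalar map. -/
def MX : ℕ := 51250

/-- The diagonal map. -/
def MY : ℕ := 19506

/-- Commutes with `MX` or `MY`, and is neither `MX` nor its square. -/
def bad (d : ℕ) : Bool :=
  !(Nat.beq d MX) && !(Nat.beq d (comp MX MX)) &&
    (Nat.beq (comp d MX) (comp MX d) || Nat.beq (comp d MY) (comp MY d))

/-- The relation `c² + c + 1 = 0` at the vector `v`. -/
def rel (c v : ℕ) : Bool := Nat.beq (app c (app c v) ^^^ app c v ^^^ v) 0

/-- Conjugation of `d` by `g`, the inverse being `g²`. -/
def conj3 (g d : ℕ) : ℕ := comp (comp g d) (comp g g)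

/-- The check at one map. -/
def chk (c : ℕ) : Bool :=
  !(rel c 1 && rel c 2 && rel c 4 && rel c 8) || Nat.beq c MX || Nat.beq c (comp MX MX) ||
    bad c || bad (conj3 c MX) || bad (conj3 (comp c c) MX) || bad (conj3 c (conj3 MY c)) ||
    bad (conj3 (comp c c) (conj3 MY c)) || bad (conj3 c (conj3 MY (conj3 c (conj3 MY c))))

theorem chk_all : ∀ a < 256, ∀ b < 256, chk (a + 256 * b) = true := by
  decide +kernel

end Cfsg.Agent.J4ThreeLocal
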