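import Cfsg.Agent.Lib.J4ThreeLocal.Cover
import Cfsg.Agent.Lib.J4Local.M22Rank
import Cfsg.Agent.Lib.M22Order.Known
import Cfsg.Agent.Lib.CharP.Basic

/-!
# A 2-subgroup of a cover of M22 normalized by the centralizer of an involution
-/

set_option autoImplicit false
set_option linter.style.haveILetI false
set_option linter.unusedSectionVars false

namespace Cfsg.Agent.J4ThreeLocal

open Subgroup
open scoped Pointwise

universe u v

variable {Γ : Type u} [Group Γ] [Finite Γ] {M : Type v} [Group M] [Finite M] [IsSimpleGroup M]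

/-- The 2-subgroup `A` of the centralizer of `w`, on which `r` fixes only `⟨w⟩`. -/
theorem pulled (hM : Nat.card M = 443520) {q : Γ →* M} (hq : Function.Surjective q) (hcent : CentralKer q) {w r : Γ}
    (hw : w * w = 1) (hqw : q w ≠ 1) (hr : r ^ 3 = 1) (hqr : q r ≠ 1) (hrw : Commute r w)
    (hCr : ∀ n, Commute n r → Commute n w) (A : Subgroup Γ) (hA2 : IsPGroup 2 A)
    (hAker : ∀ a ∈ A, q a = 1 → a = 1) (hwA : w ∈ A) (hAw : ∀ a ∈ A, Commute a w)
    (hfix : ∀ a ∈ A, Commute a r → a = 1 ∨ a = w)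
    (hnorm : ∀ n, Commute n w → ∀ a ∈ A, n * a * n⁻¹ ∈ A) :
    (Nat.card A = 2 ∨ Nat.card A = 8 ∨ Nat.card A = 32) ∧
      (Nat.card A = 32 → (∃ a ∈ A, a * a ≠ 1) ∧
        ∀ n, Commute n w → ∃ (i : ℕ), ∃ a ∈ A, ∃ k, q k = 1 ∧ n * r * n⁻¹ = r ^ i * a * k) := by
  classical
  haveI : Fact (Nat.Prime 2) := ⟨Nat.prime_two⟩
  haveI : Fact (Nat.Prime 3) := ⟨Nat.prime_three⟩
  set At := A.map q with hAt
  have hcard : Nat.card At = Nat.card A := by
    have hinj : Function.Injective (q.subgroupMap A) := by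
      rw [injective_iff_map_eq_one]
      exact fun a ha => Subtype.ext (hAker a a.2 (congrArg Subtype.val ha))
    exact (Nat.card_congr (Equiv.ofBijective _ ⟨hinj, q.subgroupMap_surjective A⟩)).symm
  set D := (centralizer ({w} : Set Γ)).map q with hD
  have hqwo : orderOf (q w) = 2 :=
    M22Order.orderOf_two_of_sq (by rw [← map_mul, hw, map_one]) hqw
  have hqro : orderOf (q r) = 3 := orderOf_eq_prime (by rw [← map_pow, hr, map_one]) hqr
  have hDle : D ≤ centralizer ({q w} : Set M) := by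
    rintro _ ⟨c, hc, rfl⟩
    exact mem_centralizer_singleton_iff.2
      (congrArg q (mem_centralizer_singleton_iff.1 hc) |> fun e => by rwa [map_mul, map_mul] at e)
  have hD384 : Nat.card D ∣ 384 := M22Order.cen_involution hM hqwo ▸ card_dvd_of_le hDle
  have hAD : At ≤ D := map_mono fun a ha => mem_centralizer_singleton_iff.2 (hAw a ha).eq
  have hDnorm : D ≤ normalizer (At : Set M) := by
    rintro _ ⟨c, hc, rfl⟩
    have hcw : Commute c w := mem_centralizer_singleton_iff.1 hc
    refine mem_normalizer_iff.2 fun x => ⟨?_, ?_⟩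
    · rintro ⟨a, ha, rfl⟩
      exact ⟨c * a * c⁻¹, hnorm c hcw a ha, by rw [map_mul, map_mul, map_inv]⟩
    · rintro ⟨a, ha, e⟩
      refine ⟨c⁻¹ * a * c, by simpa using hnorm c⁻¹ hcw.inv_left a ha, ?_⟩
      rw [map_mul, map_mul, map_inv, e]
      group
  have hAt2 : IsPGroup 2 At := hA2.map q
  obtain ⟨k, hk⟩ := hAt2.exists_card_eq
  have hk7 : k ≤ 7 := by
    have h : 2 ^ k ∣ 2 ^ 7 * 3 := hk ▸ (card_dvd_of_le hAD).trans hD384
    exact (Nat.pow_dvd_pow_iff_le_right (by norm_num)).1
      ((Nat.Coprime.pow_left k (by norm_num)).dvd_of_dvd_mul_right h)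
  -- `r` fixes two elements of `A`
  have hmod : Nat.card A % 3 = 2 := by
    haveI : Fintype A := Fintype.ofFinite A
    let σ : Equiv.Perm A :=
      { toFun := fun a => ⟨r * a * r⁻¹, hnorm r hrw a a.2⟩
        invFun := fun a => ⟨r⁻¹ * a * r⁻¹⁻¹, hnorm r⁻¹ hrw.inv_left a a.2⟩
        left_inv := fun a => Subtype.ext (by group)
        right_inv := fun a => Subtype.ext (by group) }
    have hp : σ ^ 3 ^ 1 = 1 := Equiv.ext fun a => Subtype.ext (by
      show r * (r * (r * (a : Γ) * r⁻¹) * r⁻¹) * r⁻¹ = a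
      calc r * (r * (r * (a : Γ) * r⁻¹) * r⁻¹) * r⁻¹ = r ^ 3 * a * (r ^ 3)⁻¹ := by simp [pow_succ, mul_assoc]
        _ = a := by rw [hr, one_mul, inv_one, mul_one])
    have h := Equiv.Perm.card_compl_support_modEq hp
    have hs : σ.supportᶜ = {(1 : A), ⟨w, hwA⟩} := by
      ext a
      rw [Finset.mem_compl, Equiv.Perm.mem_support, not_not, Finset.mem_insert, Finset.mem_singleton]
      refine ⟨fun e => ?_, fun e => Subtype.ext ?_⟩
      · rcases hfix a a.2 (mul_inv_eq_iff_eq_mul.1 (congrArg Subtype.val e : r * (a : Γ) * r⁻¹ = a)).symm with e' | e'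
        exacts [Or.inl (Subtype.ext e'), Or.inr (Subtype.ext e')]
      · rcases e with rfl | rfl
        · show r * (1 : Γ) * r⁻¹ = 1
          group
        · show r * w * r⁻¹ = w
          rw [hrw.eq, mul_inv_cancel_right]
    rw [hs, Finset.card_pair (fun e => hqw (by
      rw [show w = (1 : Γ) from (congrArg Subtype.val e).symm, map_one]))] at h
    rw [Nat.card_eq_fintype_card]
    exact h.symm
  -- the four group
  obtain ⟨hT4, hTsq, hTall⟩ := M22Order.exists_four hM hqro
  set T := M22Order.fourGroup (q r) with hT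
  have hlift : ∀ τ ∈ T, τ ∈ q.range → τ ∈ D := by
    rintro τ hτ ⟨n, rfl⟩
    have hn : Commute n r := commute_of_image hcent hr (m := 2) (by norm_num)
      (by rw [pow_two]; exact hTsq _ hτ) (mem_centralizer_singleton_iff.1 (M22Order.four_le _ hτ))
    exact ⟨n, mem_centralizer_singleton_iff.2 (hCr n hn).eq, rfl⟩
  have hsurj : q.range = ⊤ := MonoidHom.range_eq_top.2 hq
  have hTD : T ≤ D := fun τ hτ => hlift τ hτ (hsurj ▸ mem_top τ)
  have hinter : ∀ x ∈ At, Commute x (q r) → x = 1 ∨ x = q w := by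
    rintro _ ⟨a, ha, rfl⟩ hx
    obtain ⟨j, hj⟩ := hA2 ⟨a, ha⟩
    have hj' : a ^ 2 ^ j = 1 := congrArg Subtype.val hj
    have hac : Commute a r := commute_of_image hcent hr (m := 2 ^ j)
      (Nat.Coprime.pow_left j (by norm_num)) (by rw [← map_pow, hj', map_one]) hx
    rcases hfix a ha hac with e | e <;> rw [e]
    exacts [Or.inl (map_one q), Or.inr rfl]
  have hinf2 : ∀ S : Subgroup M, (∀ x ∈ S, Commute x (q r)) → Nat.card (S ⊓ At : Subgroup M) ≤ 2 := by
    intro S hS
    rw [← hqwo, ← Nat.card_zpowers]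
    refine Subgroup.card_le_of_le fun x hx => ?_
    rcases hinter x hx.2 (hS x hx.1) with e | e <;> rw [e]
    exacts [one_mem _, mem_zpowers _]
  have hTr : ∀ x ∈ T, Commute x (q r) := fun x hx =>
    mem_centralizer_singleton_iff.1 (M22Order.four_le _ hx)
  have hcardsup : ∀ S : Subgroup M, Nat.card S * Nat.card At ≤
      Nat.card (S ⊔ At : Subgroup M) * Nat.card (S ⊓ At : Subgroup M) :=
    fun S => CharP.card_mul_le_card_sup_mul_card_inf S At
  refine ⟨?_, fun h32 => ⟨?_, ?_⟩⟩
  · rw [← hcard, hk] at hmod ⊢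
    have h128 : k ≠ 7 := by
      rintro rfl
      have h := hcardsup T
      have hd : Nat.card (T ⊔ At : Subgroup M) ∣ 384 := (card_dvd_of_le (sup_le hTD hAD)).trans hD384
      have h2 := hinf2 T hTr
      have hpos : 0 < Nat.card (T ⊓ At : Subgroup M) := Nat.card_pos
      obtain ⟨n, hn⟩ := ((IsPGroup.of_card (p := 2) (n := 2) hT4 : IsPGroup 2 T).to_sup_of_normal_right'
        hAt2 (hTD.trans hDnorm)).exists_card_eq
      rw [hn] at h hd
      have hn7 : n ≤ 7 := (Nat.pow_dvd_pow_iff_le_right (by norm_num)).1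
        ((Nat.Coprime.pow_left n (by norm_num)).dvd_of_dvd_mul_right (show 2 ^ n ∣ 2 ^ 7 * 3 from hd))
      have : 2 ^ n ≤ 2 ^ 7 := Nat.pow_le_pow_right (by norm_num) hn7
      rw [hT4, hk] at h
      have := h.trans (Nat.mul_le_mul this h2)
      norm_num at this
    interval_cases k <;> omega
  · by_contra hall
    push Not at hall
    have := J4Local.rank_le hM At fun x ⟨a, ha, e⟩ => by rw [← e, ← map_mul, hall a ha, map_one]
    omega
  · intro n hn
    set R := zpowers (q r) ⊔ T with hR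
    have hrD : q r ∈ D := ⟨r, mem_centralizer_singleton_iff.2 hrw.eq, rfl⟩
    have hRD : R ≤ D := sup_le (zpowers_le.2 hrD) hTD
    have hRc : ∀ x ∈ R, Commute x (q r) := by
      have hle : R ≤ centralizer ({q r} : Set M) :=
        sup_le (zpowers_le.2 (mem_centralizer_singleton_iff.2 rfl)) (M22Order.four_le _)
      exact fun x hx => mem_centralizer_singleton_iff.1 (hle hx)
    have hR12 : 12 ≤ Nat.card R := by
      have h1 : 3 ∣ Nat.card R := hqro ▸ Subgroup.orderOf_dvd_natCard R
        ((le_sup_left : zpowers (q r) ≤ R) (mem_zpowers _))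
      have h2 : 4 ∣ Nat.card R := hT4 ▸ card_dvd_of_le (le_sup_right : T ≤ R)
      exact Nat.le_of_dvd Nat.card_pos (Nat.Coprime.mul_dvd_of_dvd_of_dvd (by norm_num) h1 h2)
    set L := R ⊔ At with hL
    have hL192 : 192 ≤ Nat.card L := by
      have h := hcardsup R
      have h2 := hinf2 R hRc
      rw [hcard, h32] at h
      nlinarith
    have hLD : L ≤ D := sup_le hRD hAD
    have hnorm' : L ≤ D ∧ (L.subgroupOf D).Normal := by
      refine ⟨hLD, ?_⟩
      have h1 := card_dvd_of_le hLD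
      have h4 := Nat.le_of_dvd (by norm_num) hD384
      obtain ⟨j, hj⟩ := h1
      have hi := (L.subgroupOf D).card_mul_index
      rw [Nat.card_congr (subgroupOfEquivOfLe hLD).toEquiv, hj] at hi
      have hij : (L.subgroupOf D).index = j := Nat.eq_of_mul_eq_mul_left Nat.card_pos hi
      have hj2 : j ≤ 2 := by
        rw [hj] at h4
        nlinarith
      have hj0 : j ≠ 0 := fun e => by rw [e, mul_zero] at hj; exact Nat.card_pos.ne' hj
      rcases (show j = 1 ∨ j = 2 by omega) with rfl | rfl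
      · rw [index_eq_one.1 hij]; infer_instance
      · exact normal_of_index_eq_two hij
    have hdD : q n ∈ D := ⟨n, mem_centralizer_singleton_iff.2 hn.eq, rfl⟩
    have hx : q (n * r * n⁻¹) ∈ L := by
      have := hnorm'.2.conj_mem ⟨q r, hrD⟩
        ((le_sup_left : R ≤ L) ((le_sup_left : zpowers (q r) ≤ R) (mem_zpowers _))) ⟨q n, hdD⟩
      rw [mem_subgroupOf] at this
      simpa [map_mul] using this
    rw [hL] at hx
    have hx' : q (n * r * n⁻¹) ∈ (R : Set M) * (At : Set M) :=
      coe_mul_of_left_le_normalizer_right R At (hRD.trans hDnorm) ▸ hx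
    obtain ⟨b, hb, α, hα, e⟩ := Set.mem_mul.1 hx'
    have hTn : T ≤ normalizer (zpowers (q r) : Set M) := fun τ hτ => mem_normalizer_iff.2 fun y => by
      have hc : ∀ y ∈ zpowers (q r), Commute τ y := fun y hy => by
        obtain ⟨i, rfl⟩ := mem_zpowers_iff.1 hy
        exact (hTr τ hτ).zpow_right i
      refine ⟨fun hy => by rwa [(hc y hy).eq, mul_inv_cancel_right], fun hy => ?_⟩
      have e := hc _ hy
      have : y = τ * y * τ⁻¹ := by
        have h1 : τ⁻¹ * (τ * y * τ⁻¹) * τ = y := by group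
        rw [mul_assoc, ← e.eq, inv_mul_cancel_left] at h1
        exact h1.symm
      rwa [this]
    have hb' : b ∈ (T : Set M) * (zpowers (q r) : Set M) := by
      rw [← coe_mul_of_left_le_normalizer_right T _ hTn, sup_comm]
      exact hb
    obtain ⟨τ, hτ, ρ, hρ, e'⟩ := Set.mem_mul.1 hb'
    rw [SetLike.mem_coe, ← mem_powers_iff_mem_zpowers] at hρ
    obtain ⟨i, rfl⟩ := hρ
    have hbc : Commute τ (q r ^ i) := (hTr τ hτ).pow_right i
    -- `τ ∈ At` as the cube is trivial
    have hbD : b ∈ normalizer (At : Set M) := hDnorm (hRD hb)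
    have h3 : (q (n * r * n⁻¹)) ^ 3 = 1 := by
      rw [← map_pow, conj_pow, hr, mul_one, mul_inv_cancel, map_one]
    have hτA : τ ∈ At := by
      have hb3 : b ^ 3 = τ := by
        rw [← e', hbc.mul_pow, ← pow_mul, mul_comm i, pow_mul, ← map_pow q r 3, hr, map_one, one_pow, mul_one,
          pow_succ, pow_two, hTsq τ hτ, one_mul]
      have hc : ∀ y ∈ At, ∀ z : M, z ∈ normalizer (At : Set M) → z⁻¹ * y * z ∈ At := fun y hy z hz => by
        have := (mem_normalizer_iff.1 (inv_mem hz) y).1 hy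
        rwa [inv_inv] at this
      have hmem : (b ^ 3)⁻¹ * (b * α) ^ 3 ∈ At := by
        rw [show (b ^ 3)⁻¹ * (b * α) ^ 3 = (b * b)⁻¹ * α * (b * b) * (b⁻¹ * α * b) * α by
          simp [pow_succ, mul_assoc]]
        exact mul_mem (mul_mem (hc α hα _ (mul_mem hbD hbD)) (hc α hα _ hbD)) hα
      rw [e, h3, mul_one, hb3] at hmem
      simpa using inv_mem hmem
    obtain ⟨a, ha, e2⟩ := (mul_mem hτA hα : τ * α ∈ At)
    refine ⟨i, a, ha, (r ^ i * a)⁻¹ * (n * r * n⁻¹), ?_, by rw [mul_inv_cancel_left]⟩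
    rw [map_mul q, map_inv, map_mul q, map_pow, e2, ← e, ← e', hbc.eq]
    group

end Cfsg.Agent.J4ThreeLocal
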