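import Cfsg.Agent.Lib.J4ThreeLocal.Setup
import Cfsg.Agent.Lib.J4ThreeLocal.Pulled

/-!
# A second element of order three: its fixed points on `E` and its centralizer in `H`
-/

set_option autoImplicit false
set_option linter.style.haveILetI false
set_option linter.unusedSectionVars false

namespace Cfsg.Agent.J4ThreeLocal

open Subgroup
open scoped commutatorElement Pointwise

universe u

namespace Base

variable {G : Type u} [Group G] [Finite G] (B : Base G)

/-- The kernel consists of the products of a power of `x` and a power of `z`. -/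
theorem ker_split {c : B.C} (hc : B.q c = 1) :
    ∃ (i : ℤ) (b : G), b ∈ zpowers B.z ∧ (c : G) = B.x ^ i * b := by
  have hn : zpowers B.x ≤ normalizer (zpowers B.z : Set G) := by
    rw [B.normalizer_z]
    exact zpowers_le.2 (B.C_le_H B.x_mem)
  obtain ⟨a, ha, b, hb, hab⟩ :=
    Set.mem_mul.1 (show (c : G) ∈ (zpowers B.x : Set G) * (zpowers B.z : Set G) by
      rw [← coe_mul_of_left_le_normalizer_right _ _ hn]; exact B.ker_cases c hc)
  obtain ⟨i, rfl⟩ := mem_zpowers_iff.1 ha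
  exact ⟨i, b, hb, hab.symm⟩

theorem ker_two {c : B.C} (hc : B.q c = 1) {k : ℕ} (hk : (c : G) ^ 2 ^ k = 1) :
    (c : G) ∈ zpowers B.z := by
  obtain ⟨i, b, hb, he⟩ := B.ker_split hc
  have hb2 : b ^ 2 ^ (k + 1) = 1 := by
    rw [pow_succ', pow_mul, pow_two]
    rcases B.z_cases hb with rfl | rfl <;> simp [B.zz]
  have hab' : Commute (B.x ^ i) b := by
    rcases B.z_cases hb with rfl | rfl
    · exact Commute.one_right _
    · exact B.hxz.symm.zpow_left i
  have ha2 : (B.x ^ i) ^ 2 ^ (k + 1) = 1 := by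
    have h := congrArg (· ^ 2 ^ (k + 1)) he
    simp only [hab'.mul_pow, hb2, mul_one] at h
    rw [← h, pow_succ, pow_mul, hk, one_pow]
  have ha3 : (B.x ^ i) ^ 3 = 1 := by
    rw [← zpow_natCast, ← zpow_mul, mul_comm, zpow_mul, zpow_natCast, B.x3, one_zpow]
  have := (pow_gcd_eq_one (m := 2 ^ (k + 1)) (n := 3) (a := B.x ^ i)).2 ⟨ha2, ha3⟩
  rw [show Nat.gcd (2 ^ (k + 1)) 3 = 1 from Nat.Coprime.pow_left _ (by norm_num), pow_one] at this
  rw [he, this, one_mul]
  exact hb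

/-- The fixed points of an element of `C` of order three outside `⟨x⟩`, and its centralizer in `H`. -/
theorem three_local {y g : G} (hy : y ∈ B.C) (hyx : y ∉ zpowers B.x) (hg : g * B.x * g⁻¹ = y) :
    (Nat.card (B.E ⊓ centralizer ({y} : Set G) : Subgroup G) = 2 ∨
      Nat.card (B.E ⊓ centralizer ({y} : Set G) : Subgroup G) = 8 ∨
      Nat.card (B.E ⊓ centralizer ({y} : Set G) : Subgroup G) = 32) ∧
      (Nat.card (B.E ⊓ centralizer ({y} : Set G) : Subgroup G) = 32 →
        (∃ e ∈ B.E, e * e ≠ 1) ∧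
        ∀ h ∈ B.H, Commute h y → ∃ j : ℕ, ∃ e ∈ B.E, h * B.x * h⁻¹ = B.x ^ j * e) := by
  classical
  haveI := Cfsg.Agent.Golay.M22TwoBlock.isSimple
  haveI : Fact (Nat.Prime 2) := ⟨Nat.prime_two⟩
  haveI : Fact (Nat.Prime 3) := ⟨Nat.prime_three⟩
  set φ := (MulAut.conj g).toMonoidHom with hφ
  have hφa : ∀ a, φ a = g * a * g⁻¹ := fun a => rfl
  have hyX : Commute y B.x := B.mem_C.1 hy
  have hy3 : y ^ 3 = 1 := by rw [← hg, conj_pow, B.x3, mul_one, mul_inv_cancel]
  have hback : ∀ n : G, Commute n B.x → Commute (g * n * g⁻¹) y := fun n hn => by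
    rw [← hg]; exact hn.map φ
  have hgH : g ∉ B.H := fun h => hyx (hg ▸ B.weakH h (hg.symm ▸ hy))
  have hrC : g⁻¹ * B.x * g ∈ B.C := B.mem_C.2 (by
    have := hyX.symm.map (MulAut.conj g⁻¹).toMonoidHom
    simp only [MulEquiv.coe_toMonoidHom, MulAut.conj_apply, inv_inv] at this
    rwa [← hg, show g⁻¹ * (g * B.x * g⁻¹) * g = B.x by group] at this)
  have hwC : g⁻¹ * B.z * g ∈ B.C := B.mem_C.2 (by
    have := (B.hzC y hy).symm.map (MulAut.conj g⁻¹).toMonoidHom
    simp only [MulEquiv.coe_toMonoidHom, MulAut.conj_apply, inv_inv] at this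
    rwa [← hg, show g⁻¹ * (g * B.x * g⁻¹) * g = B.x by group] at this)
  set r : B.C := ⟨g⁻¹ * B.x * g, hrC⟩ with hr
  set w : B.C := ⟨g⁻¹ * B.z * g, hwC⟩ with hw
  set A : Subgroup B.C := (B.E.comap φ).subgroupOf B.C with hA
  have hmA : ∀ {a : B.C}, a ∈ A ↔ g * (a : G) * g⁻¹ ∈ B.E := fun {a} => Iff.rfl
  have hgw : g * (w : G) * g⁻¹ = B.z := by simp [hw, mul_assoc]
  have hgr : g * (r : G) * g⁻¹ = B.x := by simp [hr, mul_assoc]
  have hzconj : g * B.z * g⁻¹ ≠ B.z := fun e => hgH (B.mem_H.2 (mul_inv_eq_iff_eq_mul.1 e))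
  have hmap : A.map (φ.comp B.C.subtype) = B.E ⊓ centralizer ({y} : Set G) := by
    ext e
    constructor
    · rintro ⟨a, ha, rfl⟩
      exact ⟨ha, mem_centralizer_singleton_iff.2 (hback a (B.mem_C.1 a.2)).eq⟩
    · rintro ⟨he, hey⟩
      have hc : g⁻¹ * e * g ∈ B.C := B.mem_C.2 (by
        have h' : Commute e y := mem_centralizer_singleton_iff.1 hey
        have := h'.map (MulAut.conj g⁻¹).toMonoidHom
        simp only [MulEquiv.coe_toMonoidHom, MulAut.conj_apply, inv_inv] at this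
        rwa [← hg, show g⁻¹ * (g * B.x * g⁻¹) * g = B.x by group] at this)
      refine ⟨⟨g⁻¹ * e * g, hc⟩, ?_, ?_⟩
      · show g * (g⁻¹ * e * g) * g⁻¹ ∈ B.E
        simpa [mul_assoc] using he
      · show g * (g⁻¹ * e * g) * g⁻¹ = e
        group
  have hcard : Nat.card (B.E ⊓ centralizer ({y} : Set G) : Subgroup G) = Nat.card A := by
    rw [← hmap, card_map_of_injective]
    exact (MulAut.conj g).injective.comp B.C.subtype_injective
  have hwne : B.q w ≠ 1 := fun e => by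
    rcases B.z_cases (B.ker_two e (k := 1) (by
      show (g⁻¹ * B.z * g) ^ 2 ^ 1 = 1
      rw [pow_one, pow_two, show g⁻¹ * B.z * g * (g⁻¹ * B.z * g) = g⁻¹ * (B.z * B.z) * g by group, B.zz,
        mul_one, inv_mul_cancel])) with h | h
    · exact B.z_ne (by rw [← hgw, h, mul_one, mul_inv_cancel])
    · exact hzconj (by rw [← h, hgw, h])
  have hr3 : r ^ 3 = 1 := Subtype.ext (by
    show (g⁻¹ * B.x * g) ^ 3 = 1
    calc (g⁻¹ * B.x * g) ^ 3 = g⁻¹ * B.x ^ 3 * g := by simp [pow_succ, mul_assoc]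
      _ = 1 := by rw [B.x3, mul_one, inv_mul_cancel])
  have hrx : (r : G) ∉ zpowers B.x := fun h => by
    obtain ⟨i, hi⟩ := mem_zpowers_iff.1 h
    have hx : B.x ∈ zpowers y := mem_zpowers_iff.2 ⟨i, by
      rw [← hgr, ← hi, ← hg, conj_zpow]⟩
    refine hyx ?_
    rw [eq_of_le_of_card_ge (zpowers_le.2 hx) (by
      rw [Nat.card_zpowers, Nat.card_zpowers, B.hx]
      exact Nat.le_of_dvd (by norm_num) (orderOf_dvd_of_pow_eq_one hy3))]
    exact mem_zpowers y
  have hrne : B.q r ≠ 1 := B.q_ne hr3 hrx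
  have hgC : ∀ n : B.C, Commute n r → g * (n : G) * g⁻¹ ∈ B.C := fun n hn => B.mem_C.2 (by
    have h' : Commute (n : G) (r : G) := congrArg Subtype.val hn.eq
    have := h'.map φ
    rwa [hφa, hφa, hgr] at this)
  obtain ⟨h1, h2⟩ := pulled Cfsg.Agent.Golay.M22Involution.card_M22 B.hq B.central (w := w) (r := r)
    (Subtype.ext (by
      show g⁻¹ * B.z * g * (g⁻¹ * B.z * g) = 1
      rw [show g⁻¹ * B.z * g * (g⁻¹ * B.z * g) = g⁻¹ * (B.z * B.z) * g by group, B.zz, mul_one,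
        inv_mul_cancel]))
    hwne hr3 hrne
    (Subtype.ext (by
      show g⁻¹ * B.x * g * (g⁻¹ * B.z * g) = g⁻¹ * B.z * g * (g⁻¹ * B.x * g)
      calc g⁻¹ * B.x * g * (g⁻¹ * B.z * g) = g⁻¹ * (B.x * B.z) * g := by group
        _ = g⁻¹ * (B.z * B.x) * g := by rw [B.hxz.eq]
        _ = _ := by group))
    (fun n hn => by
      have h := (B.hzC _ (hgC n hn)).map (MulAut.conj g⁻¹).toMonoidHom
      simp only [MulEquiv.coe_toMonoidHom, MulAut.conj_apply, inv_inv] at h
      rw [show g⁻¹ * (g * (n : G) * g⁻¹) * g = n by group] at h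
      exact Subtype.ext h)
    A
    (by
      have hinj : Function.Injective (φ.comp B.C.subtype) :=
        (MulAut.conj g).injective.comp B.C.subtype_injective
      intro a
      obtain ⟨k, hk⟩ := B.E_two ⟨g * ((a : B.C) : G) * g⁻¹, hmA.1 a.2⟩
      refine ⟨k, Subtype.ext (hinj ?_)⟩
      rw [SubgroupClass.coe_pow, OneMemClass.coe_one, map_one, map_pow]
      exact congrArg Subtype.val hk)
    (fun a ha e => by
      obtain ⟨k, hk⟩ := B.E_two ⟨g * (a : G) * g⁻¹, hmA.1 ha⟩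
      have hk' : (a : G) ^ 2 ^ k = 1 := by
        have := congrArg Subtype.val hk
        simp only [SubgroupClass.coe_pow, OneMemClass.coe_one] at this
        rwa [conj_pow, conj_eq_one_iff] at this
      rcases B.z_cases (B.ker_two e hk') with h | h
      · exact Subtype.ext h
      · exfalso
        have hc : g * B.z * g⁻¹ ∈ B.C := by
          refine B.mem_C.2 ?_
          have := (B.hzC _ hrC).symm.map φ
          rwa [hφa, hφa, hgr] at this
        have hE : g * B.z * g⁻¹ ∈ B.E := h ▸ hmA.1 ha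
        rcases B.z_cases (B.E_inf_C hE hc) with e' | e'
        · exact B.z_ne (conj_eq_one_iff.1 e')
        · exact hzconj e')
    (hmA.2 (hgw.symm ▸ B.z_mem_E))
    (fun a ha => by
      have h := (B.mem_H.1 (B.E_le_H (hmA.1 ha))).map (MulAut.conj g⁻¹).toMonoidHom
      simp only [MulEquiv.coe_toMonoidHom, MulAut.conj_apply, inv_inv] at h
      rw [show g⁻¹ * (g * (a : G) * g⁻¹) * g = a by group] at h
      exact Subtype.ext h)
    (fun a ha hc => by
      rcases B.z_cases (B.E_inf_C (hmA.1 ha) (hgC a hc)) with e | e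
      · exact Or.inl (Subtype.ext (conj_eq_one_iff.1 e))
      · rw [← hgw] at e
        exact Or.inr (Subtype.ext (mul_left_cancel (mul_right_cancel e))))
    (fun n hn a ha => by
      have hH : g * (n : G) * g⁻¹ ∈ B.H := B.mem_H.2 (by
        have h' : Commute (n : G) (w : G) := congrArg Subtype.val hn.eq
        have := h'.map φ
        rwa [hφa, hφa, hgw] at this)
      refine hmA.2 ?_
      have := B.conj_mem_E hH (hmA.1 ha)
      simpa [mul_assoc] using this)
  rw [hcard]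
  refine ⟨h1, fun h32 => ?_⟩
  obtain ⟨⟨a, ha, hsq⟩, hall⟩ := h2 h32
  refine ⟨⟨g * (a : G) * g⁻¹, hmA.1 ha, fun e => hsq (Subtype.ext ?_)⟩, fun h hh hhy => ?_⟩
  · show (a : G) * a = 1
    rw [show g * (a : G) * g⁻¹ * (g * a * g⁻¹) = g * ((a : G) * a) * g⁻¹ by group, conj_eq_one_iff] at e
    exact e
  · have hnC : g⁻¹ * h * g ∈ B.C := B.mem_C.2 (by
      have := hhy.map (MulAut.conj g⁻¹).toMonoidHom
      simp only [MulEquiv.coe_toMonoidHom, MulAut.conj_apply, inv_inv] at this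
      rwa [← hg, show g⁻¹ * (g * B.x * g⁻¹) * g = B.x by group] at this)
    obtain ⟨i, a, ha, k, hk, he⟩ := hall ⟨g⁻¹ * h * g, hnC⟩ (Subtype.ext (by
      show g⁻¹ * h * g * (g⁻¹ * B.z * g) = g⁻¹ * B.z * g * (g⁻¹ * h * g)
      calc g⁻¹ * h * g * (g⁻¹ * B.z * g) = g⁻¹ * (h * B.z) * g := by group
        _ = g⁻¹ * (B.z * h) * g := by rw [(B.mem_H.1 hh).eq]
        _ = _ := by group))
    set e0 := g * (a : G) * g⁻¹ with he0
    set k' := g * (k : G) * g⁻¹ with hk'
    have heq : h * B.x * h⁻¹ = B.x ^ i * e0 * k' := by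
      have h1 := congrArg (fun c : B.C => g * (c : G) * g⁻¹) he
      simp only [coe_mul, coe_inv, hr, SubmonoidClass.coe_pow] at h1
      calc h * B.x * h⁻¹ = g * (g⁻¹ * h * g * (g⁻¹ * B.x * g) * (g⁻¹ * h * g)⁻¹) * g⁻¹ := by group
        _ = g * ((g⁻¹ * B.x * g) ^ i * (a : G) * k) * g⁻¹ := h1
        _ = (g * (g⁻¹ * B.x * g) ^ i * g⁻¹) * e0 * k' := by rw [he0, hk']; group
        _ = B.x ^ i * e0 * k' := by rw [← conj_pow, show g * (g⁻¹ * B.x * g) * g⁻¹ = B.x by group]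
    have hkC : k' ∈ B.C := hgC k (B.central k hk r).symm
    -- modulo `E`, `h x h⁻¹` is the element `v` of `C`
    set v := B.x ^ i * k' with hv
    have hvC : v ∈ B.C := mul_mem (pow_mem B.x_mem i) hkC
    have hEn : ∀ e ∈ B.E, k'⁻¹ * e * k' ∈ B.E := fun e he' => by
      simpa using B.conj_mem_E (inv_mem (B.C_le_H hkC)) he'
    set E0 := B.E.subgroupOf B.H with hE0
    haveI hEnorm : E0.Normal := ⟨fun e he' c => B.conj_mem_E c.2 he'⟩
    set π := QuotientGroup.mk' E0 with hπ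
    have hπv : π ⟨v, B.C_le_H hvC⟩ = π ⟨h * B.x * h⁻¹, mul_mem (mul_mem hh (B.C_le_H B.x_mem)) (inv_mem hh)⟩ := by
      refine QuotientGroup.eq.2 ?_
      show v⁻¹ * (h * B.x * h⁻¹) ∈ B.E
      rw [heq, hv]
      simpa [mul_assoc] using hEn e0 (hmA.1 ha)
    have hv3E : v ^ 3 ∈ B.E := by
      have h1 : π (⟨v, B.C_le_H hvC⟩ ^ 3) = 1 := by
        rw [map_pow, hπv, ← map_pow]
        have : (⟨h * B.x * h⁻¹, mul_mem (mul_mem hh (B.C_le_H B.x_mem)) (inv_mem hh)⟩ : B.H) ^ 3 = 1 :=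
          Subtype.ext (by
            show (h * B.x * h⁻¹) ^ 3 = 1
            rw [conj_pow, B.x3, mul_one, mul_inv_cancel])
        rw [this, map_one]
      have h2 : (⟨v, B.C_le_H hvC⟩ : B.H) ^ 3 ∈ E0 := (QuotientGroup.eq_one_iff _).1 h1
      exact h2
    have hxk : Commute (B.x ^ i) k' := (B.mem_C.1 hkC).symm.pow_left i
    have hv3 : v ^ 3 = k' ^ 3 := by
      rw [hv, hxk.mul_pow, ← pow_mul, mul_comm, pow_mul, B.x3, one_pow, one_mul]
    have hk3 : k' ^ 3 = 1 := by
      rcases B.z_cases (B.E_inf_C hv3E (pow_mem hvC 3)) with e | e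
      · exact hv3 ▸ e
      · exfalso
        rw [hv3, hk', conj_pow] at e
        have hkk : B.q (k ^ 3) = 1 := by rw [map_pow, hk, one_pow]
        have h2 : (((k ^ 3 : B.C)) : G) ^ 2 ^ 1 = 1 := by
          have := congrArg (fun u => u * u) e
          simp only [B.zz, conj_mul, conj_eq_one_iff] at this
          rw [pow_one, pow_two]
          exact this
        rcases B.z_cases (B.ker_two hkk h2) with e2 | e2
        · rw [show (k : G) ^ 3 = 1 from e2, mul_one, mul_inv_cancel] at e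
          exact B.z_ne e.symm
        · rw [show (k : G) ^ 3 = B.z from e2] at e
          exact hzconj e
    have hv31 : v ^ 3 = 1 := hv3.trans hk3
    obtain ⟨n, hn⟩ := B.E_two.exists_card_eq
    have hnot3 : ¬ 3 ∣ Nat.card B.E := by
      rw [hn]
      intro hd
      exact absurd (Nat.prime_three.dvd_of_dvd_pow hd) (by norm_num)
    have hab : h * B.x * h⁻¹ * v⁻¹ ∈ B.E := by
      have h1 : v⁻¹ * (h * B.x * h⁻¹) ∈ B.E := (QuotientGroup.eq (s := E0) (a := ⟨v, B.C_le_H hvC⟩)).1 hπv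
      have := B.conj_mem_E (B.C_le_H hvC) h1
      simpa [mul_assoc] using this
    obtain ⟨u, hu, hue⟩ := exists_conj_of_coset B.E hv31 (by rw [conj_pow, B.x3, mul_one, mul_inv_cancel])
      (fun u hu => B.conj_mem_E (B.C_le_H hvC) hu) hab hnot3
    have hweak := B.weakH (h := u⁻¹ * h) (mul_mem (inv_mem (B.E_le_H hu)) hh) (by
      have : u⁻¹ * h * B.x * (u⁻¹ * h)⁻¹ = u⁻¹ * (h * B.x * h⁻¹) * u := by group
      rw [this, hue]; exact hvC)
    rw [show u⁻¹ * h * B.x * (u⁻¹ * h)⁻¹ = u⁻¹ * (h * B.x * h⁻¹) * u by group, hue,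
      ← mem_powers_iff_mem_zpowers] at hweak
    obtain ⟨j, hj⟩ := hweak
    refine ⟨j, (B.x ^ j)⁻¹ * (h * B.x * h⁻¹), ?_, by rw [mul_inv_cancel_left]⟩
    rw [show B.x ^ j = v from hj]
    exact (QuotientGroup.eq (s := E0) (a := ⟨v, B.C_le_H hvC⟩)).1 hπv

end Base

end Cfsg.Agent.J4ThreeLocal
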