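import Cfsg.Agent.Lib.J4ThreeLocal.CoreCount
import Cfsg.Agent.Lib.J4ThreeLocal.ExtraCard
import Cfsg.Agent.Lib.J4ThreeLocal.Exists
import Cfsg.Agent.Lib.J4Bridge.Main

/-!
# Janko-four type from the centralizer of an element of order three
-/

set_option autoImplicit false
set_option linter.style.haveILetI false
set_option linter.unusedSectionVars false

namespace Cfsg.Agent.J4ThreeLocal

open Subgroup
open scoped commutatorElement Pointwise
open Cfsg.Agent.J4Bridge (QV mkV act)

universe u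

namespace Base

variable {G : Type u} [Group G] [Finite G] (B : Base G)

theorem mkV_eq_zero_iff (e : B.E0) : mkV e = 0 ↔ (e : B.H) ∈ zpowers B.zH := by
  have hext := B.facts.2.1
  have h1 : mkV e = 0 ↔ Abelianization.of e = 1 := Iff.rfl
  have hz : B.zH ∈ (center B.E0).map B.E0.subtype :=
    ⟨⟨B.zH, B.zH_mem⟩, mem_center_iff.2 fun a => Subtype.ext (Subtype.ext (B.mem_H.1 (a : B.H).2)), rfl⟩
  have heq : zpowers B.zH = (center B.E0).map B.E0.subtype :=
    eq_of_le_of_card_ge (zpowers_le.2 hz) (by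
      rw [card_map_of_injective B.E0.subtype_injective, hext.2, Nat.card_zpowers, ← Subgroup.orderOf_coe]
      exact le_of_eq B.hz.symm)
  rw [h1, ← MonoidHom.mem_ker, Abelianization.ker_of, hext.1.2.2, heq]
  exact (mem_map_iff_mem B.E0.subtype_injective).symm

theorem mkV_eq_iff (a b : B.E0) : mkV a = mkV b ↔ ((a⁻¹ * b : B.E0) : B.H) ∈ zpowers B.zH := by
  rw [← B.mkV_eq_zero_iff]
  constructor
  · intro h
    rw [J4Bridge.mkV_mul, ← h, ← J4Bridge.mkV_mul, inv_mul_cancel, J4Bridge.mkV_one]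
  · intro h
    calc mkV a = mkV a + mkV (a⁻¹ * b) := by rw [h, add_zero]
      _ = mkV b := by rw [← J4Bridge.mkV_mul, mul_inv_cancel_left]

theorem QV_facts : Nat.card (QV B.E0) = 4096 ∧ ∀ v : QV B.E0, v + v = 0 := by
  obtain ⟨hc, hext, -⟩ := B.facts
  constructor
  · have h1 : Nat.card B.E0 = Nat.card (B.E0 ⧸ commutator B.E0) * Nat.card (commutator B.E0) :=
      card_eq_card_quotient_mul_card_subgroup _
    rw [hc, hext.1.2.2, hext.2] at h1
    have h2 : Nat.card (QV B.E0) = Nat.card (B.E0 ⧸ center B.E0) := by rw [← hext.1.2.2]; rfl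
    rw [h2]
    omega
  · intro v
    obtain ⟨e, rfl⟩ := J4Bridge.mkV_surj v
    rw [← J4Bridge.mkV_mul, B.mkV_eq_zero_iff]
    have h : e * e ∈ center B.E0 := hext.1.2.1 ▸ mul_self_mem_frattini' hext.1.1 e
    have h' : Abelianization.of (e * e) = 1 := by
      rw [← MonoidHom.mem_ker, Abelianization.ker_of, hext.1.2.2]; exact h
    exact (B.mkV_eq_zero_iff _).1 h'

/-- The quotient of `H` by its 2-core. -/
abbrev K := B.H ⧸ B.E0

/-- The action of the quotient on the space. -/
noncomputable def actK : B.K →* AddMonoid.End (QV B.E0) :=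
  QuotientGroup.lift B.E0
    { toFun := fun h => act B.E0 h
      map_one' := AddMonoidHom.ext fun v => J4Bridge.act_one v
      map_mul' := fun a b => AddMonoidHom.ext fun v => J4Bridge.act_mul a b v }
    fun e he => AddMonoidHom.ext fun v => J4Bridge.act_self he v

theorem centralizes_of_conj {a : B.H} (ha3 : a ^ 3 = 1) {h : B.H}
    (hh : Commute (QuotientGroup.mk' B.E0 h) (QuotientGroup.mk' B.E0 a)) :
    ∃ u ∈ B.E0, Commute (u⁻¹ * h) a := by
  haveI : Fact (Nat.Prime 2) := ⟨Nat.prime_two⟩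
  have hmem : h * a * h⁻¹ * a⁻¹ ∈ B.E0 := by
    refine (QuotientGroup.eq_one_iff _).1 ?_
    show QuotientGroup.mk' B.E0 (h * a * h⁻¹ * a⁻¹) = 1
    rw [map_mul, map_mul, map_mul, map_inv, map_inv, hh.eq, mul_inv_cancel_right, mul_inv_cancel]
  obtain ⟨u, hu, e⟩ := exists_conj_of_coset B.E0 ha3 (by rw [conj_pow, ha3, mul_one, mul_inv_cancel])
    (fun u hu => (inferInstance : B.E0.Normal).conj_mem u hu a) hmem (by
      rw [B.facts.1]; norm_num)
  refine ⟨u, hu, ?_⟩
  show u⁻¹ * h * a = a * (u⁻¹ * h)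
  conv_rhs => rw [← e]
  group

theorem exists_inverter : ∃ g ∈ B.H, g * B.x * g⁻¹ = B.x⁻¹ := by
  haveI := Cfsg.Agent.Golay.M22TwoBlock.isSimple
  obtain ⟨y, g, hy, hyx, hg⟩ := B.exists_pair
  have hy3 : y ^ 3 = 1 := by rw [← hg, conj_pow, B.x3, mul_one, mul_inv_cancel]
  obtain ⟨c, hc, e⟩ := B.exists_conj_C (inv_mem hy) (by rw [inv_pow, hy3, inv_one])
    (fun h => hyx (inv_inv y ▸ inv_mem h)) hy hy3 hyx
  set k := g⁻¹ * c * g with hk
  have hkx : k * B.x * k⁻¹ = B.x⁻¹ := by
    rw [hk, show g⁻¹ * c * g * B.x * (g⁻¹ * c * g)⁻¹ = g⁻¹ * (c * (g * B.x * g⁻¹) * c⁻¹) * g by group,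
      hg, e, ← hg]
    group
  refine ⟨k, B.mem_H.2 ?_, hkx⟩
  have hxk : k * B.x⁻¹ * k⁻¹ = B.x := by
    rw [show k * B.x⁻¹ * k⁻¹ = (k * B.x * k⁻¹)⁻¹ by group, hkx, inv_inv]
  have hmem : ∀ a ∈ B.C, k * a * k⁻¹ ∈ B.C := fun a ha => B.mem_C.2 (by
    have := ((B.mem_C.1 ha).inv_right).map (MulAut.conj k).toMonoidHom
    simp only [MulEquiv.coe_toMonoidHom, MulAut.conj_apply] at this
    rwa [hxk] at this)
  have hmem' : ∀ a ∈ B.C, k⁻¹ * a * k ∈ B.C := fun a ha => B.mem_C.2 (by
    have := ((B.mem_C.1 ha).inv_right).map (MulAut.conj k⁻¹).toMonoidHom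
    simp only [MulEquiv.coe_toMonoidHom, MulAut.conj_apply, inv_inv] at this
    rwa [← hkx, show k⁻¹ * (k * B.x * k⁻¹) * k = B.x by group] at this)
  set w : B.C := ⟨k * B.z * k⁻¹, hmem _ B.z_mem⟩ with hw
  have hwc : ∀ a : B.C, Commute w a := fun a => Subtype.ext (by
    have := (B.hzC _ (hmem' _ a.2)).symm.map (MulAut.conj k).toMonoidHom
    simp only [MulEquiv.coe_toMonoidHom, MulAut.conj_apply] at this
    rw [show k * (k⁻¹ * (a : G) * k) * k⁻¹ = a by group] at this
    exact this.eq)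
  have hq1 : B.q w = 1 := by
    have hc : B.q w ∈ center ↥Cfsg.Spor.M22 := mem_center_iff.2 fun m => by
      obtain ⟨a, rfl⟩ := B.hq m
      rw [← map_mul, ← map_mul, (hwc a).eq]
    rcases (inferInstance : (center ↥Cfsg.Spor.M22).Normal).eq_bot_or_eq_top with h | h
    · rwa [h, mem_bot] at hc
    · exfalso
      refine M22Order.not_comm Cfsg.Agent.Golay.M22Involution.card_M22 ⟨⟨fun a b => ?_⟩⟩
      exact (mem_center_iff.1 (h ▸ mem_top a) b).symm
  rcases B.z_cases (B.ker_two hq1 (k := 1) (by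
    show (k * B.z * k⁻¹) ^ 2 ^ 1 = 1
    rw [pow_one, conj_pow, pow_two, B.zz, mul_one, mul_inv_cancel])) with h | h
  · exact absurd (conj_eq_one_iff.1 h) B.z_ne
  · exact mul_inv_eq_iff_eq_mul.1 h

/-- **The type.** -/
theorem isOfJankoFourTypeAt : Cfsg.IsOfJankoFourTypeAt B.z := by
  classical
  haveI := Cfsg.Agent.Golay.M22TwoBlock.isSimple
  haveI : Fact (Nat.Prime 2) := ⟨Nat.prime_two⟩
  obtain ⟨hcardE, hext, h32⟩ := B.facts
  obtain ⟨hQc, hQ2⟩ := B.QV_facts
  set π := QuotientGroup.mk' B.E0 with hπ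
  letI : DistribMulAction B.K (QV B.E0) := DistribMulAction.compHom _ B.actK
  haveI : Finite (QV B.E0) := Nat.finite_of_card_ne_zero (by rw [hQc]; norm_num)
  have hsmul : ∀ (h : B.H) (e : B.E0), π h • mkV e = mkV (MulAut.conjNormal h e) := fun h e => rfl
  set X := π B.xH with hXdef
  have hx3 : B.xH ^ 3 = 1 := Subtype.ext B.x3
  have hxo : orderOf X = 3 := by
    haveI : Fact (Nat.Prime 3) := ⟨Nat.prime_three⟩
    refine orderOf_eq_prime (by rw [hXdef, ← map_pow, hx3, map_one]) fun h => ?_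
    have hmem : B.xH ∈ B.E0 := (QuotientGroup.eq_one_iff _).1 h
    have := Subgroup.orderOf_dvd_natCard _ hmem
    rw [← Subgroup.orderOf_coe, show orderOf (B.xH : G) = 3 from B.hx, hcardE] at this
    norm_num at this
  -- the map of `C` onto the centralizer of the image of `x`
  let f : B.C →* centralizer ({X} : Set B.K) :=
    (π.comp (Subgroup.inclusion B.C_le_H)).codRestrict _ fun c => mem_centralizer_singleton_iff.2 (by
      rw [MonoidHom.comp_apply, hXdef, ← map_mul, ← map_mul]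
      exact congrArg π (Subtype.ext (B.mem_C.1 c.2).eq))
  have hfs : Function.Surjective f := by
    rintro ⟨k, hk⟩
    obtain ⟨h, rfl⟩ := QuotientGroup.mk'_surjective B.E0 k
    obtain ⟨u, hu, hc⟩ := B.centralizes_of_conj hx3 (mem_centralizer_singleton_iff.1 hk)
    refine ⟨⟨((u⁻¹ * h : B.H) : G), B.mem_C.2 (congrArg Subtype.val hc.eq)⟩, Subtype.ext ?_⟩
    show π (u⁻¹ * h) = π h
    rw [map_mul, map_inv, show π u = 1 from (QuotientGroup.eq_one_iff u).2 hu, inv_one, one_mul]
  have hfk : f.ker ≤ B.q.ker := by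
    intro c hc
    have h1 : π ⟨(c : G), B.C_le_H c.2⟩ = 1 := congrArg Subtype.val hc
    have h2 : (⟨(c : G), B.C_le_H c.2⟩ : B.H) ∈ B.E0 := (QuotientGroup.eq_one_iff _).1 h1
    rcases B.z_cases (B.E_inf_C (B.mem_E0.1 h2) c.2) with h | h
    · rw [show c = 1 from Subtype.ext h]; exact one_mem _
    · rw [show c = ⟨B.z, B.z_mem⟩ from Subtype.ext h]; exact B.qz _
  set q := f.liftOfSurjective hfs ⟨B.q, hfk⟩ with hqdef
  have hqf : ∀ c, q (f c) = B.q c := fun c =>
    MonoidHom.liftOfRightInverse_comp_apply f _ _ ⟨B.q, hfk⟩ c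
  have hqs : Function.Surjective q := fun m => by
    obtain ⟨c, rfl⟩ := B.hq m
    exact ⟨f c, hqf c⟩
  have hqker : ∀ k, q k = 1 ↔ (k : B.K) ∈ zpowers X := by
    intro k
    obtain ⟨c, rfl⟩ := hfs k
    rw [hqf]
    constructor
    · intro h
      obtain ⟨i, b, hb, he⟩ := B.ker_split h
      refine mem_zpowers_iff.2 ⟨i, ?_⟩
      show X ^ i = π ⟨(c : G), B.C_le_H c.2⟩
      rw [hXdef, ← map_zpow]
      refine QuotientGroup.eq.2 (B.mem_E0.2 ?_)
      show (B.x ^ i)⁻¹ * (c : G) ∈ B.E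
      rw [he, inv_mul_cancel_left]
      exact (zpowers_le.2 B.z_mem_E) hb
    · intro h
      obtain ⟨i, hi⟩ := mem_zpowers_iff.1 h
      have hcc : f c = f (⟨B.x, B.x_mem⟩ ^ i) := Subtype.ext (by
        rw [map_zpow, SubgroupClass.coe_zpow]
        exact hi.symm)
      rw [← hqf, hcc, hqf, map_zpow, B.qx, one_zpow]
  have hperf : ⁅(⊤ : Subgroup (centralizer ({X} : Set B.K))), (⊤ : Subgroup (centralizer ({X} : Set B.K)))⁆ = ⊤ := by
    rw [← map_top_of_surjective f hfs, ← map_commutator, B.perf]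
  obtain ⟨y0, g, hy, hyx, hg⟩ := B.exists_pair
  obtain ⟨-, hloc⟩ := B.three_local hy hyx hg
  have h32y := h32 y0 g hy hyx hg
  set y : B.H := ⟨y0, B.C_le_H hy⟩ with hyd
  have hyC : Commute y B.xH := Subtype.ext (B.mem_C.1 hy).eq
  have hy3 : y ^ 3 = 1 := Subtype.ext (by show y0 ^ 3 = 1; rw [← hg, conj_pow, B.x3, mul_one, mul_inv_cancel])
  set Y := π y with hYdef
  have hYX : Y ∉ zpowers X := by
    intro h
    obtain ⟨i, hi⟩ := mem_zpowers_iff.1 h
    have hcc : f ⟨y0, hy⟩ = f (⟨B.x, B.x_mem⟩ ^ i) := Subtype.ext (by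
      rw [map_zpow, SubgroupClass.coe_zpow]
      exact hi.symm)
    have hq1 : B.q ⟨y0, hy⟩ = 1 := by rw [← hqf, hcc, hqf, map_zpow, B.qx, one_zpow]
    exact B.q_ne (v := ⟨y0, hy⟩) (Subtype.ext (by show y0 ^ 3 = 1; exact congrArg Subtype.val hy3)) hyx hq1
  -- fixed points
  have hzc : ∀ h : B.H, Commute h B.zH := fun h => Subtype.ext (B.mem_H.1 h.2).eq
  have hfixa : ∀ (a : B.H), a ^ 3 = 1 → ∀ e : B.E0, π a • mkV e = mkV e → Commute a (e : B.H) := by
    intro a ha e he
    rw [hsmul, B.mkV_eq_iff] at he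
    rcases B.zH_cases he with h | h <;>
      rw [coe_mul, coe_inv, MulAut.conjNormal_apply, inv_mul_eq_iff_eq_mul] at h
    · rw [mul_one] at h
      exact (mul_inv_eq_iff_eq_mul.1 (inv_inj.1 (by rw [← h]) : a * (e : B.H) * a⁻¹ = e) : _)
    · exfalso
      have hz2 : B.zH * B.zH = 1 := Subtype.ext B.zz
      have h1 : a * (e : B.H) * a⁻¹ = e * B.zH := by
        calc a * (e : B.H) * a⁻¹ = a * (e : B.H) * a⁻¹ * (B.zH * B.zH) := by rw [hz2, mul_one]
          _ = e * B.zH := by
            rw [← mul_assoc]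
            nth_rewrite 2 [h]
            rfl
      have hcz : a * B.zH * a⁻¹ = B.zH := by rw [(hzc a).eq, mul_inv_cancel_right]
      have h2 : a ^ 3 * (e : B.H) * (a ^ 3)⁻¹ = e * B.zH := by
        calc a ^ 3 * (e : B.H) * (a ^ 3)⁻¹ = a * (a * (a * (e : B.H) * a⁻¹) * a⁻¹) * a⁻¹ := by
              simp [pow_succ, mul_assoc]
          _ = a * (a * ((e : B.H) * B.zH) * a⁻¹) * a⁻¹ := by rw [h1]
          _ = (a * (a * (e : B.H) * a⁻¹) * a⁻¹) * (a * (a * B.zH * a⁻¹) * a⁻¹) := by group
          _ = (a * ((e : B.H) * B.zH) * a⁻¹) * B.zH := by rw [h1, hcz, hcz]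
          _ = (a * (e : B.H) * a⁻¹) * (a * B.zH * a⁻¹) * B.zH := by group
          _ = e * B.zH := by rw [h1, hcz, mul_assoc, hz2, mul_one]
      rw [ha, one_mul, inv_one, mul_one, left_eq_mul] at h2
      exact B.z_ne (congrArg Subtype.val h2)
  have hfpf : ∀ v : QV B.E0, X • v = v → v = 0 := by
    intro v hv
    obtain ⟨e, rfl⟩ := J4Bridge.mkV_surj v
    exact (B.mkV_eq_zero_iff e).2 (B.fix_x e.2 (hfixa _ hx3 e hv).symm)
  have hfixy : Nat.card {v : QV B.E0 // Y • v = v} = 16 := by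
    set F := CoreHyp.fx (V := QV B.E0) Y with hF
    show Nat.card F = 16
    set W := (B.fixN B.E0 y).subgroupOf B.E0 with hW
    let mk : B.E0 →* Multiplicative (QV B.E0) :=
      { toFun := fun e => Multiplicative.ofAdd (mkV e)
        map_one' := congrArg Multiplicative.ofAdd J4Bridge.mkV_one
        map_mul' := fun a b => congrArg Multiplicative.ofAdd (J4Bridge.mkV_mul a b) }
    have himg : ((W.map mk).toAddSubgroup' : AddSubgroup (QV B.E0)) = F := by
      ext v
      constructor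
      · rintro ⟨e, he, rfl⟩
        show π y • mkV e = mkV e
        rw [hsmul]
        congr 1
        refine Subtype.ext ?_
        rw [MulAut.conjNormal_apply]
        rw [((mem_centralizer_singleton_iff.1 he.2 : (e : B.H) * y = y * e)).symm, mul_inv_cancel_right]
      · intro hv
        obtain ⟨e, rfl⟩ := J4Bridge.mkV_surj v
        exact ⟨e, ⟨e.2, mem_centralizer_singleton_iff.2 (hfixa y hy3 e hv).symm.eq⟩, rfl⟩
    have hWc : Nat.card W = 32 := by
      rw [hW, Nat.card_congr (subgroupOfEquivOfLe inf_le_left).toEquiv, B.card_fixN_E0]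
      exact h32y
    have hkc : Nat.card (mk.ker.subgroupOf W) = 2 := by
      have e : (mk.ker.subgroupOf W).map (B.E0.subtype.comp W.subtype) = zpowers B.zH := by
        ext a
        constructor
        · rintro ⟨w, hw, rfl⟩
          exact (B.mkV_eq_zero_iff _).1 (Multiplicative.ofAdd.injective hw)
        · intro ha
          have haE : a ∈ B.E0 := (zpowers_le.2 B.zH_mem) ha
          have hay : Commute a y := by
            rcases B.zH_cases ha with rfl | rfl
            exacts [Commute.one_left _, (hzc y).symm]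
          exact ⟨⟨⟨a, haE⟩, ⟨haE, mem_centralizer_singleton_iff.2 hay.eq⟩⟩,
            congrArg Multiplicative.ofAdd ((B.mkV_eq_zero_iff ⟨a, haE⟩).2 ha), rfl⟩
      rw [← card_map_of_injective (f := B.E0.subtype.comp W.subtype)
        (B.E0.subtype_injective.comp W.subtype_injective), e, Nat.card_zpowers, ← Subgroup.orderOf_coe]
      exact B.hz
    have h := (mk.ker.subgroupOf W).card_mul_index
    rw [hkc, ← MonoidHom.ker_domRestrict, index_ker, MonoidHom.domRestrict_range, hWc] at h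
    rw [← himg]
    show Nat.card (W.map mk) = 16
    omega
  have hinv := B.exists_inverter
  obtain ⟨g0, hg0, hg0x⟩ := hinv
  let D : CoreHyp B.K (QV B.E0) ↥Cfsg.Spor.M22 :=
    { X := X
      orderX := hxo
      q := q
      hq := hqs
      hker := hqker
      perf := hperf
      cardM := Cfsg.Agent.Golay.M22Involution.card_M22
      invert := ⟨π ⟨g0, hg0⟩, by
        rw [hXdef, ← map_inv, ← map_inv, ← map_mul, ← map_mul]
        exact congrArg π (Subtype.ext hg0x)⟩
      cardV := hQc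
      two := hQ2
      faithful := fun k hk => by
        set U : Subgroup B.K := B.actK.ker with hU
        have hkU : k ∈ U := AddMonoidHom.ext fun v => hk v
        have hsq : ∀ h : B.H, π h ∈ U → h * h ∈ B.E0 := by
          intro h hh
          refine B.mem_E0.2 (B.cent_E (h * h).2 fun e he => ?_)
          set e' : B.E0 := ⟨⟨e, B.E_le_H he⟩, B.mem_E0.2 he⟩ with he'
          have hact : mkV (MulAut.conjNormal h e') = mkV e' := by
            rw [← hsmul]
            exact DFunLike.congr_fun (MonoidHom.mem_ker.1 hh) (mkV e')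
          rw [B.mkV_eq_iff] at hact
          have hkey : h * h * (e' : B.H) * (h * h)⁻¹ = e' := by
            rw [coe_mul, coe_inv, MulAut.conjNormal_apply] at hact
            have hz2 : B.zH * B.zH = 1 := Subtype.ext B.zz
            rcases B.zH_cases hact with e1 | e1
            · rw [inv_mul_eq_one] at e1
              calc h * h * (e' : B.H) * (h * h)⁻¹ = h * (h * (e' : B.H) * h⁻¹) * h⁻¹ := by group
                _ = e' := by rw [e1, e1]
            · rw [inv_mul_eq_iff_eq_mul] at e1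
              have e2 : h * (e' : B.H) * h⁻¹ = e' * B.zH := by
                conv_rhs => rw [e1, mul_assoc, hz2, mul_one]
              calc h * h * (e' : B.H) * (h * h)⁻¹ = h * (h * (e' : B.H) * h⁻¹) * h⁻¹ := by group
                _ = h * ((e' : B.H) * B.zH) * h⁻¹ := by rw [e2]
                _ = (h * (e' : B.H) * h⁻¹) * (h * B.zH * h⁻¹) := by group
                _ = e' := by rw [e2, (hzc h).eq, mul_inv_cancel_right, mul_assoc, hz2, mul_one]
          exact congrArg Subtype.val (mul_inv_eq_iff_eq_mul.1 hkey)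
        have hp : IsPGroup 2 (U.comap π) := by
          intro a
          obtain ⟨m, hm⟩ := (hext.1.1) ⟨(a : B.H) * a, hsq a a.2⟩
          refine ⟨m + 1, Subtype.ext ?_⟩
          show (a : B.H) ^ 2 ^ (m + 1) = 1
          rw [pow_succ', pow_mul, pow_two]
          exact congrArg Subtype.val hm
        obtain ⟨h, rfl⟩ := QuotientGroup.mk'_surjective B.E0 k
        exact (QuotientGroup.eq_one_iff h).2 (Cores.le_pCore hp hkU)
      fpf := hfpf
      y := Y
      hyX := hyC.map π
      hy3 := by rw [hYdef, ← map_pow, hy3, map_one]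
      hy := hYX
      fixy := hfixy
      centy := fun n hn => by
        obtain ⟨h, rfl⟩ := QuotientGroup.mk'_surjective B.E0 n
        obtain ⟨u, hu, hc⟩ := B.centralizes_of_conj hy3 hn
        obtain ⟨-, hall⟩ := hloc h32y
        obtain ⟨j, e, he, heq⟩ := hall _ (u⁻¹ * h).2 (congrArg Subtype.val hc.eq)
        have hπh : π (u⁻¹ * h) = π h := by
          rw [map_mul, map_inv, show π u = 1 from (QuotientGroup.eq_one_iff u).2 hu, inv_one, one_mul]
        have h1 : u⁻¹ * h * B.xH * (u⁻¹ * h)⁻¹ = B.xH ^ j * ⟨e, B.E_le_H he⟩ := Subtype.ext heq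
        rw [← hπh, hXdef, ← map_inv, ← map_mul, ← map_mul, h1, map_mul, map_pow,
          show π ⟨e, B.E_le_H he⟩ = 1 from (QuotientGroup.eq_one_iff _).2 (B.mem_E0.2 he), mul_one]
        exact pow_mem (mem_zpowers _) j }
  have htop := D.normalizer_eq_top
  haveI hXn : (zpowers X).Normal := normalizer_eq_top_iff.1 htop
  haveI hN0n : (centralizer ({X} : Set B.K)).Normal := ⟨fun a ha k => mem_centralizer_singleton_iff.2 (by
    have hX' : k⁻¹ * X * k ∈ zpowers X := by simpa using hXn.conj_mem X (mem_zpowers X) k⁻¹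
    obtain ⟨i, hi⟩ := mem_zpowers_iff.1 hX'
    have hc : Commute a (k⁻¹ * X * k) := hi ▸ (show Commute a X from mem_centralizer_singleton_iff.1 ha).zpow_right i
    have := hc.map (MulAut.conj k).toMonoidHom
    simp only [MulEquiv.coe_toMonoidHom, MulAut.conj_apply] at this
    rw [show k * (k⁻¹ * X * k) * k⁻¹ = X by group] at this
    exact this.eq)⟩
  set MM := (centralizer ({X} : Set B.K)).comap π with hMM
  set NN := (zpowers X).comap π with hNN
  haveI : MM.Normal := hN0n.comap π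
  haveI : NN.Normal := hXn.comap π
  have hXC : zpowers X ≤ centralizer ({X} : Set B.K) := zpowers_le.2 (mem_centralizer_singleton_iff.2 rfl)
  have hxinv : π ⟨g0, hg0⟩ * X * (π ⟨g0, hg0⟩)⁻¹ = X⁻¹ := by
    rw [hXdef, ← map_inv, ← map_inv, ← map_mul, ← map_mul]
    exact congrArg π (Subtype.ext hg0x)
  have hXne : X⁻¹ ≠ X := fun h => by
    have h2 : X ^ 2 = 1 := by rw [pow_two]; exact eq_inv_iff_mul_eq_one.1 h.symm
    have := orderOf_dvd_of_pow_eq_one h2
    rw [hxo] at this
    norm_num at this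
  refine J4Bridge.isOfJankoFourTypeAt B.z B.hz B.E0 NN MM ?_ (comap_mono hXC) ?_ hext hcardE ?_ ?_ ?_ ?_ ?_ ?_
  · intro e he
    rw [hNN, mem_comap, show π e = 1 from (QuotientGroup.eq_one_iff e).2 he]
    exact one_mem _
  · rw [hMM, index_comap_of_surjective _ (QuotientGroup.mk'_surjective _), index_eq_two_iff]
    refine ⟨π ⟨g0, hg0⟩, fun b => ?_⟩
    set a := π ⟨g0, hg0⟩ with ha
    have hb : b ∈ D.N := htop ▸ mem_top b
    rcases D.N_cases hb with e | e <;> change b * X * b⁻¹ = _ at e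
    · refine Or.inr ⟨mem_centralizer_singleton_iff.2 (mul_inv_eq_iff_eq_mul.1 e), fun h => hXne ?_⟩
      have h' := mul_inv_eq_iff_eq_mul.2 (mem_centralizer_singleton_iff.1 h)
      rw [show b * a * X * (b * a)⁻¹ = b * (a * X * a⁻¹) * b⁻¹ by group, hxinv] at h'
      have h'' : X = X⁻¹ :=
        calc X = b * X⁻¹ * b⁻¹ := h'.symm
          _ = (b * X * b⁻¹)⁻¹ := by group
          _ = X⁻¹ := congrArg Inv.inv e
      exact h''.symm
    · refine Or.inl ⟨mem_centralizer_singleton_iff.2 (mul_inv_eq_iff_eq_mul.1 ?_), fun h => hXne ?_⟩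
      · rw [show b * a * X * (b * a)⁻¹ = b * (a * X * a⁻¹) * b⁻¹ by group, hxinv,
          show b * X⁻¹ * b⁻¹ = (b * X * b⁻¹)⁻¹ by group, e, inv_inv]
      · rw [← e]
        exact mul_inv_eq_iff_eq_mul.2 (mem_centralizer_singleton_iff.1 h)
  · rw [hNN, hπ, Cores.card_comap_mk', Nat.card_zpowers, hxo, mul_comm]
  · refine commutator_le.2 fun a ha b hb => (QuotientGroup.eq_one_iff _).1 ?_
    show π ⁅a, b⁆ = 1
    rw [map_commutatorElement]
    obtain ⟨i, hi⟩ := mem_zpowers_iff.1 hb
    rw [← hi]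
    exact commutatorElement_eq_one_iff_commute.2
      ((show Commute (π a) X from mem_centralizer_singleton_iff.1 ha).zpow_right i)
  · intro m hm
    obtain ⟨c, hc⟩ := hfs ⟨π m, hm⟩
    set ι := Subgroup.inclusion B.C_le_H with hι
    have hcc : π (ι c) = π m := congrArg Subtype.val hc
    have hιM : (⊤ : Subgroup B.C).map ι ≤ MM := by
      rintro _ ⟨a, -, rfl⟩
      exact (f a).2
    have h1 : ι c ∈ ⁅MM, MM⁆ := by
      have h2 : ι c ∈ (⊤ : Subgroup B.C).map ι := ⟨c, mem_top c, rfl⟩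
      rw [← B.perf, map_commutator] at h2
      exact commutator_mono hιM hιM h2
    have h3 : (ι c)⁻¹ * m ∈ B.E0 := QuotientGroup.eq.1 hcc
    simpa using mul_mem_sup h1 h3
  · intro h hh
    refine B.mem_E0.2 (B.cent_E h.2 fun e he => ?_)
    exact (congrArg Subtype.val (mem_centralizer_iff.1 hh ⟨e, B.E_le_H he⟩ (B.mem_E0.2 he))).symm
  · intro c hc
    rw [hMM, mem_comap]
    set k := π c with hk
    have hb : k ∈ D.N := htop ▸ mem_top k
    rcases D.N_cases hb with e | e <;> change k * X * k⁻¹ = _ at e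
    · exact mem_centralizer_singleton_iff.2 (mul_inv_eq_iff_eq_mul.1 e)
    · exfalso
      -- `m ↦ k m k⁻¹ m⁻¹` is a hom into a central subgroup
      set N0 := centralizer ({X} : Set B.K) with hN0
      have hzeta : ∀ m ∈ N0, k * m * k⁻¹ * m⁻¹ ∈ zpowers X := by
        intro m hm
        obtain ⟨a, rfl⟩ := QuotientGroup.mk'_surjective B.E0 m
        have := hc a hm
        rw [hNN, mem_comap, map_mul, map_mul, map_mul, map_inv, map_inv] at this
        exact this
      let ζ : N0 →* zpowers X :=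
        { toFun := fun m => ⟨k * m * k⁻¹ * (m : B.K)⁻¹, hzeta m m.2⟩
          map_one' := Subtype.ext (by simp)
          map_mul' := fun a b => Subtype.ext (by
            show k * ((a : B.K) * b) * k⁻¹ * ((a : B.K) * b)⁻¹ =
              k * a * k⁻¹ * (a : B.K)⁻¹ * (k * b * k⁻¹ * (b : B.K)⁻¹)
            obtain ⟨i, hi⟩ := mem_zpowers_iff.1 (hzeta b b.2)
            have hcb : Commute ((a : B.K)⁻¹) (k * b * k⁻¹ * (b : B.K)⁻¹) := by
              rw [← hi]
              exact ((show Commute (a : B.K) X from mem_centralizer_singleton_iff.1 a.2).zpow_right i).inv_left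
            calc k * ((a : B.K) * b) * k⁻¹ * ((a : B.K) * b)⁻¹
                = k * a * k⁻¹ * ((k * b * k⁻¹ * (b : B.K)⁻¹) * (a : B.K)⁻¹) := by group
              _ = k * a * k⁻¹ * ((a : B.K)⁻¹ * (k * b * k⁻¹ * (b : B.K)⁻¹)) := by rw [hcb.eq]
              _ = _ := by group) }
      have htriv : (⟨X, hXC (mem_zpowers X)⟩ : N0) ∈ ζ.ker := by
        have hle : (⊤ : Subgroup N0) ≤ ζ.ker := by
          rw [← hperf]
          refine commutator_le.2 fun a _ b _ => ?_
          rw [MonoidHom.mem_ker, map_commutatorElement]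
          refine commutatorElement_eq_one_iff_commute.2 (Subtype.ext ?_)
          obtain ⟨i, hi⟩ := mem_zpowers_iff.1 (ζ a).2
          obtain ⟨j, hj⟩ := mem_zpowers_iff.1 (ζ b).2
          show ((ζ a : B.K)) * ζ b = ζ b * ζ a
          rw [← hi, ← hj, ← zpow_add, ← zpow_add, add_comm]
        exact hle (mem_top _)
      have h1 : k * X * k⁻¹ * X⁻¹ = 1 := congrArg Subtype.val htriv
      rw [e] at h1
      exact hXne (mul_inv_eq_one.1 h1)
  · let ψ : MM →* ↥Cfsg.Spor.M22 := q.comp ((π.comp MM.subtype).codRestrict _ fun a => a.2)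
    have hψs : Function.Surjective ψ := fun m => by
      obtain ⟨⟨k, hk⟩, rfl⟩ := hqs m
      obtain ⟨a, rfl⟩ := QuotientGroup.mk'_surjective B.E0 k
      exact ⟨⟨a, hk⟩, rfl⟩
    have hψk : ψ.ker = NN.subgroupOf MM := Subgroup.ext fun a => hqker _
    exact ⟨(QuotientGroup.quotientMulEquivOfEq hψk.symm).trans
      (QuotientGroup.quotientKerEquivOfSurjective ψ hψs)⟩

end Base

theorem main {G : Type u} [Group G] [Finite G] (h2 : Cfsg.IsCharacteristicTwoType G) (x : G)
    (hx : orderOf x = 3)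
    (hperf : ⁅(⊤ : Subgroup ↥(centralizer ({x} : Set G))), (⊤ : Subgroup ↥(centralizer ({x} : Set G)))⁆ = ⊤)
    (hZ : IsCyclic ↥(center ↥(centralizer ({x} : Set G))))
    (hZc : Nat.card ↥(center ↥(centralizer ({x} : Set G))) = 6)
    (e : ↥(centralizer ({x} : Set G)) ⧸ center ↥(centralizer ({x} : Set G)) ≃* ↥Cfsg.Spor.M22)
    (S : Sylow 3 G) (g : G)
    (hng : ((center ↥(S : Subgroup G)).map (S : Subgroup G).subtype).map (MulAut.conj g).toMonoidHom ≤
      (S : Subgroup G))
    (hne : ((center ↥(S : Subgroup G)).map (S : Subgroup G).subtype).map (MulAut.conj g).toMonoidHom ≠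
      ((center ↥(S : Subgroup G)).map (S : Subgroup G).subtype)) :
    Cfsg.IsOfJankoFourType G := by
  obtain ⟨B, -⟩ := exists_base h2 x hx hperf hZ hZc e S g hng hne
  exact ⟨B.z, B.isOfJankoFourTypeAt⟩

end Cfsg.Agent.J4ThreeLocal
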