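import Cfsg.Agent.Lib.J4ThreeLocal.Cover
import Cfsg.Agent.Lib.Coprime.Generation
import Cfsg.Agent.Lib.Cores.Basic
import Cfsg.Agent.Lib.Golay.M22TwoBlock
import Cfsg.Prelude.Def_CaseTheorems
import Cfsg.Prelude.Def_JankoFourType

/-!
# An element `x` with centralizer 6.M22: the involution `z` of the center and `O₂(C(z))`
-/

set_option autoImplicit false
set_option linter.style.haveILetI false
set_option linter.unusedSectionVars false

namespace Cfsg.Agent.J4ThreeLocal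

open Subgroup
open scoped commutatorElement Pointwise

universe u

/-- An element `x` of order three whose centralizer is a perfect sixfold cover of M22, `z` its
involution, and a conjugate of `x` commuting with it outside `⟨x⟩`. -/
structure Base (G : Type u) [Group G] where
  /-- the element of order three -/
  x : G
  hx : orderOf x = 3
  /-- the central involution -/
  z : G
  hz : orderOf z = 2
  hzC : ∀ c ∈ centralizer ({x} : Set G), Commute c z
  hxz : Commute z x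
  /-- the map onto M22 -/
  q : centralizer ({x} : Set G) →* ↥Cfsg.Spor.M22
  hq : Function.Surjective q
  perf : ⁅(⊤ : Subgroup (centralizer ({x} : Set G))), (⊤ : Subgroup (centralizer ({x} : Set G)))⁆ = ⊤
  central : CentralKer q
  cardKer : Nat.card q.ker = 3 * 2
  ker_cases : ∀ c, q c = 1 → (c : G) ∈ zpowers x ⊔ zpowers z
  qx : ∀ h : x ∈ centralizer ({x} : Set G), q ⟨x, h⟩ = 1
  qz : ∀ h : z ∈ centralizer ({x} : Set G), q ⟨z, h⟩ = 1
  out : ∃ g : G, Commute (g * x * g⁻¹) x ∧ g * x * g⁻¹ ∉ zpowers x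
  twoType : Cfsg.IsCharacteristicTwoType G

namespace Base

variable {G : Type u} [Group G] [Finite G] (B : Base G)

/-- The centralizer of `x`. -/
abbrev C : Subgroup G := centralizer ({B.x} : Set G)

/-- The centralizer of `z`. -/
abbrev H : Subgroup G := centralizer ({B.z} : Set G)

/-- The 2-core of `H`, in `G`. -/
abbrev E : Subgroup G := Cfsg.twoCoreOfCentralizer B.z

theorem mem_C {g : G} : g ∈ B.C ↔ Commute g B.x := mem_centralizer_singleton_iff

theorem mem_H {g : G} : g ∈ B.H ↔ Commute g B.z := mem_centralizer_singleton_iff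

theorem C_le_H : B.C ≤ B.H := fun c hc => B.mem_H.2 (B.hzC c hc)

theorem x_mem : B.x ∈ B.C := B.mem_C.2 (Commute.refl _)

theorem z_mem : B.z ∈ B.C := B.mem_C.2 B.hxz

theorem x3 : B.x ^ 3 = 1 := B.hx ▸ pow_orderOf_eq_one B.x

theorem zz : B.z * B.z = 1 := by rw [← pow_two, ← B.hz, pow_orderOf_eq_one]

theorem z_ne : B.z ≠ 1 := fun e => by simpa [e] using B.hz

theorem z_cases {a : G} (ha : a ∈ zpowers B.z) : a = 1 ∨ a = B.z := by
  classical
  rw [mem_zpowers_iff_mem_range_orderOf, B.hz] at ha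
  obtain ⟨i, hi, rfl⟩ := Finset.mem_image.1 ha
  have := Finset.mem_range.1 hi
  interval_cases i
  · exact Or.inl (pow_zero _)
  · exact Or.inr (pow_one _)

theorem E_le_H : B.E ≤ B.H := map_subtype_le _

theorem conj_mem_E {h e : G} (hh : h ∈ B.H) (he : e ∈ B.E) : h * e * h⁻¹ ∈ B.E := by
  obtain ⟨e, he, rfl⟩ := he
  exact ⟨⟨h, hh⟩ * e * ⟨h, hh⟩⁻¹, (inferInstance : (Cfsg.pCore 2 ↥B.H).Normal).conj_mem _ he _, rfl⟩

theorem E_two : IsPGroup 2 B.E := by
  haveI : Fact (Nat.Prime 2) := ⟨Nat.prime_two⟩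
  exact (Cores.pCore_isPGroup 2).map _

theorem z_mem_E : B.z ∈ B.E := by
  have hzH : B.z ∈ B.H := B.mem_H.2 (Commute.refl _)
  haveI hn : (zpowers (⟨B.z, hzH⟩ : B.H)).Normal := ⟨fun a ha h => by
    obtain ⟨i, rfl⟩ := mem_zpowers_iff.1 ha
    have hc : Commute h (⟨B.z, hzH⟩ : B.H) := Subtype.ext (B.mem_H.1 h.2)
    rw [(hc.zpow_right i).eq, mul_inv_cancel_right]
    exact zpow_mem (mem_zpowers _) i⟩
  exact ⟨⟨B.z, hzH⟩, Cores.le_pCore (IsPGroup.of_card (n := 1)
    (by rw [Nat.card_zpowers, Subgroup.orderOf_mk, B.hz, pow_one])) (mem_zpowers _), rfl⟩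

theorem normalizer_z : normalizer (zpowers B.z : Set G) = B.H := by
  refine le_antisymm (fun g hg => B.mem_H.2 ?_) (fun g hg => mem_normalizer_iff.2 fun w => ?_)
  · rcases B.z_cases ((mem_normalizer_iff.1 hg B.z).1 (mem_zpowers _)) with e | e
    · exact absurd (conj_eq_one_iff.1 e) B.z_ne
    · exact mul_inv_eq_iff_eq_mul.1 e
  · have e : g * B.z * g⁻¹ = B.z := by rw [(B.mem_H.1 hg).eq, mul_inv_cancel_right]
    refine ⟨fun hw => ?_, fun hw => ?_⟩
    · rcases B.z_cases hw with rfl | rfl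
      · simp
      · rw [e]; exact mem_zpowers _
    · rcases B.z_cases hw with h | h
      · rw [conj_eq_one_iff.1 h]; exact one_mem _
      · conv_rhs at h => rw [← e]
        rw [mul_left_cancel (mul_right_cancel h)]; exact mem_zpowers _

/-- `C_H(E) ≤ E`. -/
theorem cent_E {h : G} (hh : h ∈ B.H) (hc : ∀ e ∈ B.E, Commute h e) : h ∈ B.E := by
  haveI : Fact (Nat.Prime 2) := ⟨Nat.prime_two⟩
  have hP : IsPGroup 2 (zpowers B.z) :=
    IsPGroup.of_card (n := 1) (by rw [Nat.card_zpowers, B.hz, pow_one])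
  have h2 := B.twoType.2 _ hP (by rw [Ne, zpowers_eq_bot]; exact B.z_ne)
  rw [B.normalizer_z] at h2
  exact ⟨⟨h, hh⟩, h2 (mem_centralizer_iff.2 fun e he =>
    Subtype.ext (hc e ⟨e, he, rfl⟩).eq.symm), rfl⟩

theorem ker_three {c : B.C} (hc : B.q c = 1) (h3 : c ^ 3 = 1) : (c : G) ∈ zpowers B.x := by
  haveI := Cfsg.Agent.Golay.M22TwoBlock.isSimple
  have := mem_zpowers_of_ker B.central (ζ₀ := ⟨B.x, B.x_mem⟩) (B.qx _)
    (by rw [Subgroup.orderOf_mk, B.hx]) B.cardKer (by norm_num) hc h3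
  obtain ⟨i, hi⟩ := mem_zpowers_iff.1 this
  exact mem_zpowers_iff.2 ⟨i, congrArg Subtype.val hi⟩

theorem q_ne {v : B.C} (h3 : v ^ 3 = 1) (hv : (v : G) ∉ zpowers B.x) : B.q v ≠ 1 :=
  fun e => hv (B.ker_three e h3)

theorem exists_conj_C {r v : G} (hr : r ∈ B.C) (hr3 : r ^ 3 = 1) (hrx : r ∉ zpowers B.x)
    (hv : v ∈ B.C) (hv3 : v ^ 3 = 1) (hvx : v ∉ zpowers B.x) : ∃ c ∈ B.C, c * v * c⁻¹ = r := by
  haveI := Cfsg.Agent.Golay.M22TwoBlock.isSimple
  obtain ⟨c, hc⟩ := exists_conj_three Cfsg.Agent.Golay.M22Involution.card_M22 B.hq B.central B.perf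
    (ζ₀ := ⟨B.x, B.x_mem⟩) (B.qx _) (by rw [Subgroup.orderOf_mk, B.hx]) B.cardKer (by norm_num)
    (r := ⟨r, hr⟩) (v := ⟨v, hv⟩) (Subtype.ext hr3) (B.q_ne (Subtype.ext hr3) hrx) (Subtype.ext hv3)
    (B.q_ne (Subtype.ext hv3) hvx)
  exact ⟨c, c.2, congrArg Subtype.val hc⟩

theorem exists_shift_C {r : G} (hr : r ∈ B.C) (hr3 : r ^ 3 = 1) (hrx : r ∉ zpowers B.x) (i : ℕ) :
    ∃ s ∈ B.C, s * r * s⁻¹ = r * B.x ^ i := by
  haveI := Cfsg.Agent.Golay.M22TwoBlock.isSimple
  obtain ⟨s, hs⟩ := exists_shift Cfsg.Agent.Golay.M22Involution.card_M22 B.hq B.central B.perf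
    (ζ₀ := ⟨B.x, B.x_mem⟩) (B.qx _) (by rw [Subgroup.orderOf_mk, B.hx]) B.cardKer (by norm_num)
    (r := ⟨r, hr⟩) (Subtype.ext hr3) (B.q_ne (Subtype.ext hr3) hrx) i
  exact ⟨s, s.2, congrArg Subtype.val hs⟩

/-- `E ∩ C = ⟨z⟩`. -/
theorem E_inf_C {e : G} (he : e ∈ B.E) (hc : e ∈ B.C) : e ∈ zpowers B.z := by
  classical
  haveI := Cfsg.Agent.Golay.M22TwoBlock.isSimple
  haveI : Fact (Nat.Prime 2) := ⟨Nat.prime_two⟩
  set EC := B.E.subgroupOf B.C with hEC
  haveI hn : EC.Normal := ⟨fun a ha c => B.conj_mem_E (B.C_le_H c.2) ha⟩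
  have hp : IsPGroup 2 (EC.map B.q) := (B.E_two.of_injective
    ((MonoidHom.codRestrict (B.C.subtype.comp EC.subtype) B.E fun a => a.2))
    (fun a b h => Subtype.ext (Subtype.ext (congrArg Subtype.val h :)))).map B.q
  haveI hn' : (EC.map B.q).Normal := hn.map B.q B.hq
  have hbot : EC.map B.q = ⊥ := by
    refine hn'.eq_bot_or_eq_top.resolve_right fun e => ?_
    rw [e] at hp
    obtain ⟨n, hn⟩ := hp.exists_card_eq
    rw [Subgroup.card_top, Cfsg.Agent.Golay.M22Involution.card_M22] at hn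
    have : 3 ∣ 2 ^ n := hn ▸ (by norm_num)
    exact absurd (Nat.prime_three.dvd_of_dvd_pow this) (by norm_num)
  have hq1 : B.q ⟨e, hc⟩ = 1 := by
    have : B.q ⟨e, hc⟩ ∈ EC.map B.q := ⟨⟨e, hc⟩, he, rfl⟩
    rwa [hbot, mem_bot] at this
  have hmem := B.ker_cases _ hq1
  obtain ⟨k, hk⟩ := B.E_two ⟨e, he⟩
  have hk' : e ^ 2 ^ k = 1 := congrArg Subtype.val hk
  obtain ⟨a, ha, b, hb, hab⟩ : ∃ a ∈ zpowers B.x, ∃ b ∈ zpowers B.z, a * b = e := by
    have hn : zpowers B.x ≤ normalizer (zpowers B.z : Set G) := by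
      refine zpowers_le.2 (mem_normalizer_iff.2 fun w => ?_)
      have hcx : ∀ w, w ∈ zpowers B.z → Commute B.x w := fun w hw => by
        obtain ⟨i, rfl⟩ := mem_zpowers_iff.1 hw
        exact B.hxz.symm.zpow_right i
      constructor
      · intro hw; rwa [(hcx w hw).eq, mul_inv_cancel_right]
      · intro hw
        have e := hcx _ hw
        have : w = B.x * w * B.x⁻¹ := by
          have h1 : B.x⁻¹ * (B.x * w * B.x⁻¹) * B.x = B.x * w * B.x⁻¹ := by
            rw [mul_assoc, ← e.eq, inv_mul_cancel_left]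
          calc w = B.x⁻¹ * (B.x * w * B.x⁻¹) * B.x := by group
            _ = _ := h1
        rwa [this]
    exact Set.mem_mul.1 ((coe_mul_of_left_le_normalizer_right _ _ hn) ▸ hmem)
  obtain ⟨i, rfl⟩ := mem_zpowers_iff.1 ha
  have hb2 : b ^ 2 ^ (k + 1) = 1 := by
    rw [pow_succ', pow_mul, pow_two]
    rcases B.z_cases hb with rfl | rfl <;> simp [B.zz]
  have hab' : Commute (B.x ^ i) b := by
    rcases B.z_cases hb with rfl | rfl
    · exact Commute.one_right _
    · exact B.hxz.symm.zpow_left i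
  have ha2 : (B.x ^ i) ^ 2 ^ (k + 1) = 1 := by
    have h := congrArg (· ^ 2 ^ (k + 1)) hab
    simp only [hab'.mul_pow, hb2, mul_one] at h
    rw [h, pow_succ, pow_mul, hk', one_pow]
  have ha3 : (B.x ^ i) ^ 3 = 1 := by
    rw [← zpow_natCast, ← zpow_mul, mul_comm, zpow_mul, zpow_natCast, B.x3, one_zpow]
  have := (pow_gcd_eq_one (m := 2 ^ (k + 1)) (n := 3) (a := B.x ^ i)).2 ⟨ha2, ha3⟩
  rw [show Nat.gcd (2 ^ (k + 1)) 3 = 1 from Nat.Coprime.pow_left _ (by norm_num), pow_one] at this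
  rw [← hab, this, one_mul]
  exact hb

/-- **Weak closure in `H`.** -/
theorem weakH {h : G} (hh : h ∈ B.H) (hc : h * B.x * h⁻¹ ∈ B.C) : h * B.x * h⁻¹ ∈ zpowers B.x := by
  classical
  by_contra hne
  haveI : Fact (Nat.Prime 3) := ⟨Nat.prime_three⟩
  haveI : Fact (Nat.Prime 2) := ⟨Nat.prime_two⟩
  set r := h * B.x * h⁻¹ with hr
  have hr3 : r ^ 3 = 1 := by rw [hr, conj_pow, B.x3, mul_one, mul_inv_cancel]
  -- every element of order three of `C` centralizes only `⟨z⟩` in `E`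
  have hfix : ∀ v ∈ B.C, v ^ 3 = 1 → v ≠ 1 → ∀ e ∈ B.E, Commute e v → e ∈ zpowers B.z := by
    intro v hv hv3 hv1 e he hev
    by_cases hvx : v ∈ zpowers B.x
    · have hmem : B.x ∈ zpowers v := by
        rw [eq_of_le_of_card_ge (zpowers_le.2 hvx)
          (by rw [Nat.card_zpowers, Nat.card_zpowers, B.hx, orderOf_eq_prime hv3 hv1])]
        exact mem_zpowers _
      obtain ⟨i, hi⟩ := mem_zpowers_iff.1 hmem
      exact B.E_inf_C he (B.mem_C.2 (hi ▸ hev.zpow_right i))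
    · obtain ⟨c, hcC, hcv⟩ := B.exists_conj_C hc hr3 hne hv hv3 hvx
      have hk : h⁻¹ * c ∈ B.H := mul_mem (inv_mem hh) (B.C_le_H hcC)
      have h1 : h⁻¹ * c * e * (h⁻¹ * c)⁻¹ ∈ B.E := B.conj_mem_E hk he
      have h2 : h⁻¹ * c * e * (h⁻¹ * c)⁻¹ ∈ B.C := B.mem_C.2 (by
        have hev' := hev.map (MulAut.conj (h⁻¹ * c)).toMonoidHom
        simp only [MulEquiv.coe_toMonoidHom, MulAut.conj_apply] at hev'
        have e1 : h⁻¹ * c * v * (h⁻¹ * c)⁻¹ = B.x := by
          rw [show h⁻¹ * c * v * (h⁻¹ * c)⁻¹ = h⁻¹ * (c * v * c⁻¹) * h by group, hcv, hr]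
          group
        rwa [e1] at hev')
      have h3 := B.E_inf_C h1 h2
      rcases B.z_cases h3 with e1 | e1
      · rw [conj_eq_one_iff] at e1
        exact e1 ▸ one_mem _
      · have hzk : h⁻¹ * c * B.z * (h⁻¹ * c)⁻¹ = B.z := by rw [(B.mem_H.1 hk).eq, mul_inv_cancel_right]
        rw [← hzk] at e1
        rw [mul_left_cancel (mul_right_cancel e1)]
        exact mem_zpowers _
  set A := closure ({B.x, r} : Set G) with hA
  have hxr : Commute B.x r := (B.mem_C.1 hc).symm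
  haveI : IsMulCommutative A := Subgroup.isMulCommutative_closure fun a ha b hb => by
    rcases ha with ha | ha <;> rcases hb with hb | hb
    · rw [ha, hb]
    · rw [ha, Set.mem_singleton_iff.1 hb]; exact hxr.eq
    · rw [hb, Set.mem_singleton_iff.1 ha]; exact hxr.eq.symm
    · rw [Set.mem_singleton_iff.1 ha, Set.mem_singleton_iff.1 hb]
  have hA3 : ∀ a ∈ A, a ^ 3 = 1 ∧ a ∈ B.C := by
    intro a ha
    induction ha using closure_induction with
    | mem x hx => rcases hx with hx | hx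
                  · rw [hx]; exact ⟨B.x3, B.x_mem⟩
                  · rw [Set.mem_singleton_iff.1 hx]; exact ⟨hr3, hc⟩
    | one => exact ⟨one_pow _, one_mem _⟩
    | mul a b ha hb ea eb =>
      have hab : Commute a b := congrArg Subtype.val (mul_comm' (⟨a, ha⟩ : A) ⟨b, hb⟩)
      exact ⟨by rw [hab.mul_pow, ea.1, eb.1, one_mul], mul_mem ea.2 eb.2⟩
    | inv a ha ea => exact ⟨by rw [inv_pow, ea.1, inv_one], inv_mem ea.2⟩
  have hxA : B.x ∈ A := Subgroup.subset_closure (Or.inl rfl)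
  have hnc : ¬ IsCyclic A := by
    intro hcy
    obtain ⟨g, hg⟩ := hcy.exists_generator
    have hle : Nat.card A ≤ 3 := by
      rw [← orderOf_eq_card_of_forall_mem_zpowers hg]
      exact Nat.le_of_dvd (by norm_num) (orderOf_dvd_of_pow_eq_one (Subtype.ext (hA3 g g.2).1))
    refine hne ?_
    rw [eq_of_le_of_card_ge (zpowers_le.2 hxA) (by rw [Nat.card_zpowers, B.hx]; exact hle)]
    exact Subgroup.subset_closure (Or.inr rfl)
  have hAE : A ≤ normalizer (B.E : Set G) := fun a ha => by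
    have haH : a ∈ B.H := B.C_le_H (hA3 a ha).2
    exact mem_normalizer_iff.2 fun e => ⟨B.conj_mem_E haH, fun h => by
      simpa [mul_assoc] using B.conj_mem_E (inv_mem haH) h⟩
  obtain ⟨n, hn⟩ := (show IsPGroup 3 A from fun a => ⟨1, Subtype.ext (by
    rw [pow_one]; exact (hA3 a a.2).1)⟩).exists_card_eq
  obtain ⟨m, hm⟩ := B.E_two.exists_card_eq
  have hE : B.E ≤ zpowers B.z := by
    rw [← Coprime.fixedGen_eq hnc hAE (by rw [hn, hm]; exact Nat.Coprime.pow n m (by norm_num))]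
    refine iSup₂_le fun a ha => ?_
    rintro e ⟨he, hea⟩
    exact hfix a (hA3 a ha.1).2 (hA3 a ha.1).1 ha.2 e he (mem_centralizer_singleton_iff.1 hea)
  have hxE : B.x ∈ B.E := B.cent_E (B.C_le_H B.x_mem) fun e he => by
    rcases B.z_cases (hE he) with rfl | rfl
    exacts [Commute.one_right _, B.hxz.symm]
  have := Subgroup.orderOf_dvd_natCard B.E hxE
  rw [B.hx, hm] at this
  exact absurd (Nat.prime_three.dvd_of_dvd_pow this) (by norm_num)

theorem weakH_norm {h : G} (hh : h ∈ B.H) (hc : h * B.x * h⁻¹ ∈ B.C) :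
    h * B.x * h⁻¹ = B.x ∨ h * B.x * h⁻¹ = B.x⁻¹ := by
  classical
  have hm := B.weakH hh hc
  rw [mem_zpowers_iff_mem_range_orderOf, B.hx] at hm
  obtain ⟨i, hi, e⟩ := Finset.mem_image.1 hm
  have hi' := Finset.mem_range.1 hi
  interval_cases i
  · refine absurd B.hx ?_
    rw [pow_zero, eq_comm, conj_eq_one_iff] at e
    rw [e, orderOf_one]; norm_num
  · exact Or.inl (by rw [← e, pow_one])
  · exact Or.inr (by rw [← e]; exact eq_inv_of_mul_eq_one_left (by rw [← pow_succ, B.x3]))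

end Base

end Cfsg.Agent.J4ThreeLocal
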